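import Cfsg.Agent.Lib.UFour.Basic
import Cfsg.Agent.Lib.Solv.Coprime
import Cfsg.Prelude.Def_Involutions

/-!
# General facts used for groups of the type of `U₃(4)`
-/

set_option autoImplicit false
set_option linter.style.haveILetI false
set_option linter.unusedSectionVars false

namespace Cfsg.Agent.UFour

open Subgroup Cfsg.Agent Cfsg.Agent.Fusion
open scoped commutatorElement

universe u v

variable {G : Type u} [Group G]

theorem mem_of_pow_coprime {H : Subgroup G} {x : G} {a b : ℕ} (hab : a.Coprime b) (ha : x ^ a ∈ H)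
    (hb : x ^ b ∈ H) : x ∈ H := by
  have e := Nat.gcd_eq_gcd_ab a b
  rw [hab] at e
  rw [← zpow_one x, show (1 : ℤ) = ((1 : ℕ) : ℤ) from rfl, e, zpow_add, zpow_mul, zpow_mul, zpow_natCast, zpow_natCast]
  exact mul_mem (zpow_mem ha _) (zpow_mem hb _)

theorem eq_one_of_orderOf_dvd_coprime {x : G} {a : ℕ} (hdvd : x ^ a = 1) (ho : (orderOf x).Coprime a) : x = 1 :=
  orderOf_eq_one_iff.1 (Nat.eq_one_of_dvd_coprimes ho dvd_rfl (orderOf_dvd_of_pow_eq_one hdvd))

variable [Finite G]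

theorem odd_sup {A B : Subgroup G} (hn : B ≤ normalizer (A : Set G))
    (hA : Odd (Nat.card A)) (hB : Odd (Nat.card B)) : Odd (Nat.card ↥(A ⊔ B)) :=
  (hA.mul hB).of_dvd_nat (Dvd.intro _ (Solv.card_sup_mul_card_inf' A B hn))

/-- A 2-element normalising a Sylow 2-subgroup lies in it. -/
theorem mem_sylow_of_normalizes {S : Sylow 2 G} {x : G} (hx : x ∈ normalizer ((S : Subgroup G) : Set G)) {a : ℕ}
    (ho : x ^ (2 ^ a) = 1) : x ∈ (S : Subgroup G) := by
  haveI : Fact (Nat.Prime 2) := ⟨Nat.prime_two⟩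
  have hp : IsPGroup 2 (zpowers x) := by
    obtain ⟨k, -, hk⟩ := (Nat.dvd_prime_pow Nat.prime_two (m := a)).1 (orderOf_dvd_of_pow_eq_one ho)
    exact IsPGroup.of_card (n := k) (by rw [Nat.card_zpowers, hk])
  have hj : IsPGroup 2 ((S : Subgroup G) ⊔ zpowers x : Subgroup G) :=
    S.isPGroup'.to_sup_of_normal_left' hp (zpowers_le.2 hx)
  exact S.is_maximal' hj le_sup_left ▸ mem_sup_right (mem_zpowers _)

/-- An element of the normaliser of a Sylow 2-subgroup has a power of odd order and a power in the Sylow subgroup,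
with coprime exponents. -/
theorem exists_split (S : Sylow 2 G) {n : G} (hn : n ∈ normalizer ((S : Subgroup G) : Set G)) :
    ∃ a m : ℕ, (2 ^ a).Coprime m ∧ Odd (orderOf (n ^ (2 ^ a))) ∧ n ^ m ∈ (S : Subgroup G) := by
  obtain ⟨a, m, hm, hnm⟩ := Nat.exists_eq_two_pow_mul_odd (orderOf_pos n).ne'
  refine ⟨a, m, (Nat.coprime_two_left.2 hm).pow_left a, ?_, mem_sylow_of_normalizes (pow_mem hn m) (a := a) ?_⟩
  · rw [orderOf_pow_of_dvd (pow_ne_zero _ (by norm_num)) (hnm ▸ Dvd.intro m rfl), hnm,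
      Nat.mul_div_cancel_left _ (pow_pos (by norm_num) _)]
    exact hm
  · rw [← pow_mul, mul_comm, ← hnm, pow_orderOf_eq_one]

theorem mem_of_split (S : Sylow 2 G) {n : G} (hn : n ∈ normalizer ((S : Subgroup G) : Set G)) {H : Subgroup G}
    (hodd : ∀ k : ℕ, Odd (orderOf (n ^ k)) → n ^ k ∈ H) (htwo : ∀ k : ℕ, n ^ k ∈ (S : Subgroup G) → n ^ k ∈ H) :
    n ∈ H := by
  obtain ⟨a, m, hco, ho, hS⟩ := exists_split S hn
  exact mem_of_pow_coprime hco (hodd _ ho) (htwo _ hS)

/-- An element of odd order of an odd subgroup joined with a 2-group normalising it lies in the subgroup. -/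
theorem mem_of_odd_mem_sup {R P : Subgroup G} (hP : IsPGroup 2 P)
    (hn : P ≤ normalizer (R : Set G)) {g : G} (hg : g ∈ R ⊔ P) (ho : Odd (orderOf g)) : g ∈ R := by
  haveI : Fact (Nat.Prime 2) := ⟨Nat.prime_two⟩
  haveI : (R.subgroupOf (R ⊔ P)).Normal :=
    normal_subgroupOf_of_le_normalizer (sup_le le_normalizer hn)
  obtain ⟨k, hk⟩ := IsPGroup.iff_card.1 hP
  let q := QuotientGroup.mk' (R.subgroupOf (R ⊔ P))
  have hcard : Nat.card (↥(R ⊔ P) ⧸ R.subgroupOf (R ⊔ P)) ∣ 2 ^ k := by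
    have h1 := Subgroup.card_eq_card_quotient_mul_card_subgroup (R.subgroupOf (R ⊔ P))
    rw [Nat.card_congr (subgroupOfEquivOfLe (le_sup_left : R ≤ R ⊔ P)).toEquiv] at h1
    have h2 : Nat.card ↥(R ⊔ P) ∣ Nat.card P * Nat.card R :=
      Dvd.intro _ ((Solv.card_sup_mul_card_inf' R P hn).trans (mul_comm _ _))
    rw [h1, hk] at h2
    exact Nat.dvd_of_mul_dvd_mul_right Nat.card_pos h2
  have h1 : orderOf (q ⟨g, hg⟩) = 1 := by
    refine Nat.eq_one_of_dvd_coprimes ((Nat.coprime_two_right.2 ho).pow_right k) ?_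
      ((_root_.orderOf_dvd_natCard _).trans hcard)
    exact (orderOf_map_dvd _ _).trans (by rw [Subgroup.orderOf_mk])
  exact mem_subgroupOf.1 ((QuotientGroup.eq_one_iff (N := R.subgroupOf (R ⊔ P)) _).1 (orderOf_eq_one_iff.1 h1))

/-- A proper subgroup with the normaliser of a Sylow 2-subgroup `P` whose involutions are central in it, and with
their centralisers, is strongly embedded. -/
theorem se_of_cent (P : Sylow 2 G) (hP : Even (Nat.card (P : Subgroup G)))
    (hcen : ∀ v ∈ (P : Subgroup G), v * v = 1 → ∀ s ∈ (P : Subgroup G), Commute s v) {M : Subgroup G} (hM : M ≠ ⊤)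
    (hN : normalizer ((P : Subgroup G) : Set G) ≤ M)
    (hC : ∀ v ∈ (P : Subgroup G), orderOf v = 2 → centralizer ({v} : Set G) ≤ M) : Cfsg.IsStronglyEmbedded M := by
  haveI : Fact (Nat.Prime 2) := ⟨Nat.prime_two⟩
  have hPM : (P : Subgroup G) ≤ M := le_normalizer.trans hN
  refine ⟨hM, hP.two_dvd.trans (card_dvd_of_le hPM) |> even_iff_two_dvd.2, fun g hg => Nat.not_even_iff_odd.1 fun he => ?_⟩
  obtain ⟨⟨u, hu1, hu2⟩, hu⟩ := exists_prime_orderOf_dvd_card' 2 he.two_dvd
  rw [← Subgroup.orderOf_coe] at hu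
  obtain ⟨v, hv, e⟩ := hu2
  have e' : g * v * g⁻¹ = u := e
  have hu' : u * u = 1 := by rw [← pow_two, ← hu]; exact pow_orderOf_eq_one u
  have hv' : v * v = 1 := by
    have : g * (v * v) * g⁻¹ = 1 := by rw [← hu', ← e']; group
    exact conj_eq_one_iff.1 this
  have hS : SylIn 2 (P : Subgroup G) M := (sylIn_top P).mono hPM le_top
  have hinto : ∀ w ∈ M, w * w = 1 → ∃ m ∈ M, m * w * m⁻¹ ∈ (P : Subgroup G) := fun w hw hw2 => by
    have hp : IsPGroup 2 (zpowers w) := by
      obtain ⟨k, -, hk⟩ := (Nat.dvd_prime_pow Nat.prime_two (m := 1)).1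
        (orderOf_dvd_of_pow_eq_one (x := w) (by rw [pow_one, pow_two, hw2]))
      exact IsPGroup.of_card (n := k) (by rw [Nat.card_zpowers, hk])
    obtain ⟨m, hm, hle⟩ := hS.conj_le hp (zpowers_le.2 hw)
    exact ⟨m, hm, hle (conj_mem_cj (mem_zpowers w))⟩
  obtain ⟨m, hm, hmu⟩ := hinto u hu1 hu'
  obtain ⟨m', hm', hmv⟩ := hinto v hv hv'
  set k := m * g * m'⁻¹ with hk
  have hkv : k * (m' * v * m'⁻¹) * k⁻¹ = m * u * m⁻¹ := by rw [hk, ← e']; group
  set w := m * u * m⁻¹ with hw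
  have hw2 : w * w = 1 := by rw [hw, show m * u * m⁻¹ * (m * u * m⁻¹) = m * (u * u) * m⁻¹ by group, hu', mul_one,
    mul_inv_cancel]
  have hle : cj (P : Subgroup G) k ≤ centralizer ({w} : Set G) := by
    rintro _ ⟨s, hs, rfl⟩
    refine mem_centralizer_singleton_iff.2 ?_
    rw [← hkv]
    show k * s * k⁻¹ * (k * (m' * v * m'⁻¹) * k⁻¹) = k * (m' * v * m'⁻¹) * k⁻¹ * (k * s * k⁻¹)
    have hc := hcen _ hmv (by rw [show m' * v * m'⁻¹ * (m' * v * m'⁻¹) = m' * (v * v) * m'⁻¹ by group, hv', mul_one,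
      mul_inv_cancel]) s hs
    calc k * s * k⁻¹ * (k * (m' * v * m'⁻¹) * k⁻¹) = k * (s * (m' * v * m'⁻¹)) * k⁻¹ := by group
      _ = k * ((m' * v * m'⁻¹) * s) * k⁻¹ := by rw [hc.eq]
      _ = _ := by group
  have hPC : (P : Subgroup G) ≤ centralizer ({w} : Set G) := fun s hs =>
    mem_centralizer_singleton_iff.2 (hcen w hmu hw2 s hs).eq
  obtain ⟨c, hc, hcP⟩ := ((sylIn_top P).mono hPC le_top).conj_le (isPGroup_cj P.isPGroup' k) hle
  have hw1 : orderOf w = 2 := by
    rw [hw, show m * u * m⁻¹ = MulAut.conj m u from rfl, MulEquiv.orderOf_eq, hu]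
  have hck : c * k ∈ M := hN (mem_normalizer_iff_cj.2 (by
    rw [← cj_cj]; exact Subgroup.eq_of_le_of_card_ge hcP (by rw [card_cj, card_cj])))
  refine hg ?_
  have hkM : k ∈ M := by
    have := mul_mem (inv_mem (hC w hmu hw1 hc)) hck
    rwa [inv_mul_cancel_left] at this
  have := mul_mem (mul_mem (inv_mem hm) hkM) hm'
  rwa [show m⁻¹ * k * m' = g by rw [hk]; group] at this

/-- A Sylow subgroup centralised by its normaliser gives a normal complement. -/
theorem hnpc_of_burnside {p : ℕ} [Fact p.Prime] (P : Sylow p G)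
    (hP : normalizer ((P : Subgroup G) : Set G) ≤ centralizer ((P : Subgroup G) : Set G)) :
    Cfsg.HasNormalPComplement p G :=
  ⟨P, _, inferInstance, MonoidHom.ker_transferSylow_isComplement' P hP⟩

/-- The image of the type under a map with kernel of odd order. -/
theorem U4.map {H : Type v} [Group H] [Finite H] {S : Sylow 2 G} (h : U4 (S : Subgroup G)) (f : G →* H)
    (hf : Function.Surjective f) (hker : Odd (Nat.card f.ker)) [Fact (Nat.Prime 2)] :
    U4 (S.mapSurjective hf : Subgroup H) := by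
  have hinj : Function.Injective (f.comp (S : Subgroup G).subtype) := by
    refine (injective_iff_map_eq_one _).2 fun x hx => Subtype.ext ?_
    have : (x : G) ∈ (S : Subgroup G) ⊓ f.ker := ⟨x.2, hx⟩
    rwa [inf_odd_eq_bot S.isPGroup' hker, mem_bot] at this
  refine h.of_equiv ((MonoidHom.ofInjective hinj).trans (MulEquiv.subgroupCongr ?_))
  rw [Sylow.coe_mapSurjective, MonoidHom.range_eq_map, ← Subgroup.map_map, ← MonoidHom.range_eq_map,
    Subgroup.range_subtype]

end Cfsg.Agent.UFour
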