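import Cfsg.Agent.Lib.Char.PrincipalBlock
import Cfsg.Agent.Lib.Char.Induced
import Cfsg.Agent.Lib.Char.Linear

/-!
# Sections with a normal subgroup of small index in the centraliser, scalars and rational values
-/

set_option autoImplicit false
set_option linter.unusedSectionVars false
set_option linter.style.haveILetI false

open Cfsg Cfsg.Agent
open scoped ComplexConjugate

namespace Cfsg.Agent.UFour

universe u

variable {G : Type u} [Group G] [Fintype G] {M : Ideal AlgInt} {p : ℕ}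

open scoped Classical in
/-- The principal block on the section of `x`, when a normal `p'`-subgroup of the centraliser is given. -/
theorem principal_section (hM : IsPModular p M) {x : G} (hx : ∃ k : ℕ, orderOf x = p ^ k)
    (K : Subgroup ↥(Subgroup.centralizer ({x} : Set G))) (hKn : K.Normal) (hK : ¬ p ∣ Nat.card ↥K) :
    (∀ χ : IrrCharacter G, χ ∈ principalBlock M G → ∀ v ∈ K,
      (χ : G → ℂ) (x * ((v : ↥(Subgroup.centralizer ({x} : Set G))) : G)) = (χ : G → ℂ) x) ∧
    ∑ χ : IrrCharacter G with χ ∈ principalBlock M G, ‖(χ : G → ℂ) x‖ ^ 2 ≤ (K.index : ℝ) := by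
  haveI := hKn
  haveI : Fintype ↥(Subgroup.centralizer ({x} : Set G)) := Fintype.ofFinite _
  have hP := Char.pmod_prime hM
  set N : ℂ := ∑ ξ : IrrCharacter ↥(Subgroup.centralizer ({x} : Set G)) with
    ξ ∈ principalBlock M ↥(Subgroup.centralizer ({x} : Set G)), conj ((ξ : ↥(Subgroup.centralizer ({x} : Set G)) → ℂ) 1) * (ξ : ↥(Subgroup.centralizer ({x} : Set G)) → ℂ) 1 with hN
  have hreg : ∀ v ∈ K, ¬ p ∣ orderOf v := fun v hv h =>
    hK (h.trans (Subgroup.orderOf_mk v hv ▸ orderOf_dvd_natCard (⟨v, hv⟩ : ↥K)))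
  have hpair : ∀ v ∈ K, ∀ w ∈ K, ∑ χ : IrrCharacter G with χ ∈ principalBlock M G,
      conj ((χ : G → ℂ) (x * ((v : ↥(Subgroup.centralizer ({x} : Set G))) : G))) *
        (χ : G → ℂ) (x * ((w : ↥(Subgroup.centralizer ({x} : Set G))) : G)) = N := by
    intro v hv w hw
    rw [Char.sum_block_section_orth hM hx (Char.isPBlock_principalBlock (G := G) M) v w (hreg v hv) (hreg w hw),
      Char.principal_section_filter hM hx, Finset.sum_singleton, hN]
    refine Finset.sum_congr rfl fun ξ hξ => ?_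
    have ht := Char.principal_trivial_on hM K hK (Finset.mem_filter.1 hξ).2
    rw [ht v hv, ht w hw]
  have h11 := hpair 1 K.one_mem 1 K.one_mem
  simp only [OneMemClass.coe_one, mul_one] at h11
  refine ⟨fun χ hχ v hv => ?_, ?_⟩
  · have h1v := hpair 1 K.one_mem v hv
    have hv1 := hpair v hv 1 K.one_mem
    have hvv := hpair v hv v hv
    simp only [OneMemClass.coe_one, mul_one] at h1v hv1
    have h0 : ∑ ψ : IrrCharacter G with ψ ∈ principalBlock M G,
        conj ((ψ : G → ℂ) (x * (v : G)) - (ψ : G → ℂ) x) *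
          ((ψ : G → ℂ) (x * (v : G)) - (ψ : G → ℂ) x) = 0 := by
      simp only [map_sub, sub_mul, mul_sub, Finset.sum_sub_distrib]
      rw [h11, hv1, h1v, hvv]
      ring
    simp only [Complex.conj_mul'] at h0
    have h1 : ∑ ψ : IrrCharacter G with ψ ∈ principalBlock M G,
        ‖(ψ : G → ℂ) (x * (v : G)) - (ψ : G → ℂ) x‖ ^ 2 = 0 := by exact_mod_cast h0
    have h2 := (Finset.sum_eq_zero_iff_of_nonneg fun ψ _ => by positivity).1 h1 χ
      (Finset.mem_filter.2 ⟨Finset.mem_univ _, hχ⟩)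
    exact sub_eq_zero.1 (norm_eq_zero.1 (pow_eq_zero_iff two_ne_zero |>.1 h2))
  · have hle : ∑ ξ : IrrCharacter ↥(Subgroup.centralizer ({x} : Set G)) with
          ξ ∈ principalBlock M ↥(Subgroup.centralizer ({x} : Set G)), ‖(ξ : ↥(Subgroup.centralizer ({x} : Set G)) → ℂ) 1‖ ^ 2 ≤
        ∑ ξ : IrrCharacter ↥(Subgroup.centralizer ({x} : Set G)) with
          ξ ∈ {η : IrrCharacter ↥(Subgroup.centralizer ({x} : Set G)) | ∀ n ∈ K, (η : ↥(Subgroup.centralizer ({x} : Set G)) → ℂ) n = (η : ↥(Subgroup.centralizer ({x} : Set G)) → ℂ) 1}, ‖(ξ : ↥(Subgroup.centralizer ({x} : Set G)) → ℂ) 1‖ ^ 2 := by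
      refine Finset.sum_le_sum_of_subset_of_nonneg (fun ξ hξ => ?_) fun ξ _ _ => by positivity
      exact Finset.mem_filter.2 ⟨Finset.mem_univ _, Char.principal_trivial_on hM K hK (Finset.mem_filter.1 hξ).2⟩
    have h2 : ((∑ ξ : IrrCharacter ↥(Subgroup.centralizer ({x} : Set G)) with
          ξ ∈ {η : IrrCharacter ↥(Subgroup.centralizer ({x} : Set G)) | ∀ n ∈ K, (η : ↥(Subgroup.centralizer ({x} : Set G)) → ℂ) n = (η : ↥(Subgroup.centralizer ({x} : Set G)) → ℂ) 1}, ‖(ξ : ↥(Subgroup.centralizer ({x} : Set G)) → ℂ) 1‖ ^ 2 : ℝ) : ℂ) = (K.index : ℂ) := by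
      rw [← Char.sum_sq_trivial_on K hP, Complex.ofReal_sum]
      refine Finset.sum_congr (Finset.ext fun ξ => by simp) fun ξ _ => ?_
      obtain ⟨d, hd⟩ := Char.charOne_eq_natCast (Char.irr_isCharacter ξ.2)
      rw [hd, Complex.norm_natCast]
      push_cast
      ring
    have h2' : (∑ ξ : IrrCharacter ↥(Subgroup.centralizer ({x} : Set G)) with
          ξ ∈ {η : IrrCharacter ↥(Subgroup.centralizer ({x} : Set G)) | ∀ n ∈ K, (η : ↥(Subgroup.centralizer ({x} : Set G)) → ℂ) n = (η : ↥(Subgroup.centralizer ({x} : Set G)) → ℂ) 1}, ‖(ξ : ↥(Subgroup.centralizer ({x} : Set G)) → ℂ) 1‖ ^ 2 : ℝ) = (K.index : ℝ) := by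
      exact_mod_cast h2
    rw [← h2']
    refine le_trans (le_of_eq ?_) hle
    rw [hN] at h11
    simp only [Complex.conj_mul'] at h11
    exact_mod_cast h11

/-- An element of order dividing two in the centre acts by a sign. -/
theorem central_sign {χ : G → ℂ} (h : IsIrrCharacter G χ) {z : G} (hzc : z ∈ Subgroup.center G)
    (hz : z * z = 1) :
    ∃ ε : ℤ, (ε = 1 ∨ ε = -1) ∧ ∀ w, χ (z * w) = (ε : ℂ) * χ w := by
  classical
  obtain ⟨n, ρ, hρ, rfl⟩ := h
  haveI := hρ
  have hscal : ρ z = Char.omega ρ.character z • LinearMap.id := by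
    rw [← Char.classSum_eq_omega ρ z, Finset.sum_eq_single z]
    · intro x hx hne
      obtain ⟨c, hc⟩ := isConj_iff.mp (show IsConj z x by simpa using hx)
      exact absurd (by rw [← hc, Subgroup.mem_center_iff.mp hzc c, mul_inv_cancel_right]) hne
    · intro h0
      refine absurd ?_ h0
      simp only [Finset.mem_filter, Finset.mem_univ, true_and]
      exact IsConj.refl _
  set c := Char.omega ρ.character z with hc
  have hmul : ∀ w, ρ.character (z * w) = c * ρ.character w := fun w => by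
    simp [Representation.character, map_mul, hscal, ← Module.End.one_eq_id]
  have h1 : ρ.character 1 ≠ 0 := Char.irr_one_ne_zero (Char.isIrrCharacter_character ρ hρ)
  have hcc : c * c = 1 := by
    have e := hmul z
    rw [hz, show ρ.character z = c * ρ.character 1 by simpa using hmul 1, ← mul_assoc] at e
    exact mul_right_cancel₀ h1 (e.symm.trans (one_mul _).symm)
  rcases mul_self_eq_one_iff.1 hcc with e | e
  · exact ⟨1, Or.inl rfl, fun w => by rw [hmul, e, Int.cast_one]⟩
  · exact ⟨-1, Or.inr rfl, fun w => by rw [hmul, e, Int.cast_neg, Int.cast_one]⟩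

/-- An involution whose value has the norm of the degree has the commutators in the kernel. -/
theorem apply_eq_one_of_norm {χ : G → ℂ} (h : IsCharacter G χ) {z : G} (hz : z * z = 1)
    (hn : ‖χ z‖ = ‖χ 1‖) (g : G) : χ (z * (g * z * g⁻¹)) = χ 1 := by
  obtain ⟨n, ρ, rfl⟩ := h
  rw [Representation.char_one, Complex.norm_natCast] at hn
  obtain ⟨c, hc⟩ := (Char.eq_scalar_iff ρ z).1 hn
  have hconj : ρ (g * z * g⁻¹) = ρ z := by
    rw [map_mul, map_mul, hc, mul_smul_comm, smul_mul_assoc, ← Module.End.one_eq_id, mul_one, ← map_mul,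
      mul_inv_cancel, map_one]
  have he : ρ (z * (g * z * g⁻¹)) = LinearMap.id := by
    rw [map_mul, hconj, ← map_mul, hz, map_one, Module.End.one_eq_id]
  rw [(Char.eq_id_iff ρ _).2 he, Representation.char_one]

/-- An element of order dividing four conjugate to its inverse has integral values. -/
theorem char_four_int {χ : G → ℂ} (h : IsCharacter G χ) {s : G} (hs : s ^ 4 = 1)
    (hinv : ∃ g : G, g * s * g⁻¹ = s⁻¹) : ∃ z : ℤ, χ s = z := by
  obtain ⟨g, hg⟩ := hinv
  have hreal : conj (χ s) = χ s := by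
    rw [← Char.char_inv h, ← hg, Char.isClassFunction_character h]
  obtain ⟨n, ρ, rfl⟩ := h
  obtain ⟨μ, hμ, htr, -⟩ := Char.exists_eigenvalues ρ s
  have h1 : ρ.character s = ∑ i, μ i := by simpa using htr 1
  have hi : ∀ i, ∃ z : ℤ, (μ i).re = z := fun i => by
    have h4 : (μ i ^ 2) ^ 2 = 1 := by
      obtain ⟨k, hk⟩ := orderOf_dvd_of_pow_eq_one hs
      rw [← pow_mul, show 2 * 2 = orderOf s * k by rw [← hk], pow_mul, hμ i, one_pow]
    rcases sq_eq_one_iff.1 h4 with e | e
    · rcases sq_eq_one_iff.1 e with e' | e'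
      · exact ⟨1, by simp [e']⟩
      · exact ⟨-1, by simp [e']⟩
    · refine ⟨0, ?_⟩
      have e' : μ i ^ 2 = Complex.I ^ 2 := by rw [e, Complex.I_sq]
      rcases sq_eq_sq_iff_eq_or_eq_neg.1 e' with e'' | e'' <;> simp [e'']
  choose z hz using hi
  refine ⟨∑ i, z i, ?_⟩
  rw [← Complex.conj_eq_iff_re.1 hreal, h1, Complex.re_sum, Int.cast_sum, Complex.ofReal_sum]
  exact Finset.sum_congr rfl fun i _ => by rw [hz, Complex.ofReal_intCast]

end Cfsg.Agent.UFour
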