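import Cfsg.Agent.Lib.Lie.UnitarySylow
import Cfsg.Agent.Lib.Fusion.Basic

/-!
# The 2-groups of the type of a Sylow 2-subgroup of `U₃(4)`

The squaring map sends the fifteen non-trivial classes modulo the centre onto the three involutions, five to each, a
non-central element is conjugate to all the elements of its class, and no two elements generate a quaternion group.
-/

set_option autoImplicit false
set_option linter.style.haveILetI false
set_option linter.unusedSectionVars false

namespace Cfsg.Agent.UFour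

open Subgroup Cfsg.Agent
open scoped commutatorElement

universe u v

/-- The properties of a Sylow 2-subgroup of `U₃(4)` that are used. -/
structure U4 (T : Type u) [Group T] : Prop where
  card : Nat.card T = 64
  card_center : Nat.card (center T) = 4
  sq_one : ∀ x : T, x * x = 1 ↔ x ∈ center T
  sq_mem : ∀ x : T, x * x ∈ center T
  comm_mem : ∀ a b : T, ⁅a, b⁆ ∈ center T
  comm_surj : ∀ x : T, x ∉ center T → ∀ w ∈ center T, ∃ y, ⁅x, y⁆ = w
  fibre : ∀ w ∈ center T, w ≠ 1 → Nat.card {x : T // x * x = w} = 20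
  no_q8 : ∀ a b : T, a * a ≠ 1 → a * a = b * b → ⁅a, b⁆ ≠ a * a

theorem U4.of_equiv {T : Type u} {R : Type v} [Group T] [Group R] (h : U4 T) (e : T ≃* R) : U4 R := by
  have hc : ∀ x : T, e x ∈ center R ↔ x ∈ center T := fun x => by
    refine ⟨fun hx => mem_center_iff.2 fun g => e.injective ?_, fun hx => mem_center_iff.2 fun g => ?_⟩
    · rw [map_mul, map_mul]; exact mem_center_iff.1 hx (e g)
    · obtain ⟨g, rfl⟩ := e.surjective g
      rw [← map_mul, ← map_mul, mem_center_iff.1 hx g]
  have hcomm : ∀ a b : T, ⁅e a, e b⁆ = e ⁅a, b⁆ := fun a b => (map_commutatorElement _ a b).symm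
  refine ⟨?_, ?_, fun r => ?_, fun r => ?_, fun a b => ?_, fun r hr w hw => ?_, fun w hw hw1 => ?_,
    fun a b ha hab => ?_⟩
  · rw [← Nat.card_congr e.toEquiv]; exact h.card
  · rw [← h.card_center]
    exact (Nat.card_congr (e.toEquiv.subtypeEquiv fun x => (hc x).symm)).symm
  · obtain ⟨x, rfl⟩ := e.surjective r
    rw [← map_mul, map_eq_one_iff _ e.injective, hc]; exact h.sq_one x
  · obtain ⟨x, rfl⟩ := e.surjective r
    rw [← map_mul, hc]; exact h.sq_mem x
  · obtain ⟨a, rfl⟩ := e.surjective a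
    obtain ⟨b, rfl⟩ := e.surjective b
    rw [hcomm, hc]; exact h.comm_mem a b
  · obtain ⟨x, rfl⟩ := e.surjective r
    obtain ⟨w, rfl⟩ := e.surjective w
    obtain ⟨y, hy⟩ := h.comm_surj x (fun hx => hr ((hc x).2 hx)) w ((hc w).1 hw)
    exact ⟨e y, by rw [hcomm, hy]⟩
  · obtain ⟨w, rfl⟩ := e.surjective w
    rw [← h.fibre w ((hc w).1 hw) (fun e' => hw1 (by rw [e', map_one]))]
    exact (Nat.card_congr (e.toEquiv.subtypeEquiv fun x => by
      show x * x = w ↔ e x * e x = e w
      rw [← map_mul, e.injective.eq_iff])).symm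
  · obtain ⟨a, rfl⟩ := e.surjective a
    obtain ⟨b, rfl⟩ := e.surjective b
    rw [hcomm, ← map_mul, e.injective.ne_iff]
    refine h.no_q8 a b (fun e' => ha ?_) (e.injective ?_)
    · rw [← map_mul, e', map_one]
    · rw [map_mul, map_mul]; exact hab

open Cfsg.Agent.Lie.UnitarySylow in
/-- The coordinate group of `U₃(4)` has these properties. -/
theorem u4_coord {F : Type u} [Field F] [Fintype F] [CharP F 2] {σ : F ≃+* F}
    (hσ : Cfsg.Agent.Classical.IsUSigma 4 σ) :
    letI := uGroup hσ
    U4 (U σ) := by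
  letI := uGroup hσ
  haveI := finite_U hσ
  have h2 : (2 : F) = 0 := CharTwo.two_eq_zero
  have hinv : ∀ g : U σ, g⁻¹ = ⟨g.x, σ g.z, by rw [hσ.involutive, add_comm]; exact g.rel⟩ := fun g => rfl
  have hcommx : ∀ a b : U σ, (⁅a, b⁆ : U σ).x = 0 := fun a b => by
    rw [commutatorElement_def, mul_x hσ, mul_x hσ, mul_x hσ, hinv, hinv]
    show a.x + b.x + a.x + b.x = 0
    linear_combination (a.x + b.x) * h2
  have hcommz : ∀ a b : U σ, (⁅a, b⁆ : U σ).z = σ a.x * b.x + σ b.x * a.x := fun a b => by
    rw [commutatorElement_def, mul_z hσ, mul_z hσ, mul_z hσ, mul_x hσ, mul_x hσ, hinv, hinv]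
    show a.z + b.z + σ a.x * b.x + σ a.z + σ (a.x + b.x) * a.x + σ b.z + σ (a.x + b.x + a.x) * b.x = _
    rw [map_add, map_add, map_add]
    linear_combination a.rel + b.rel + (a.x * σ a.x + b.x * σ b.x + σ a.x * b.x) * h2
  have hfix := card_fix hσ
  refine ⟨by rw [card_U hσ]; norm_num, ?_, fun g => (sq_eq_one_iff hσ g).trans (mem_center_iff hσ g).symm,
    fun g => (mem_center_iff hσ _).2 (sq_x hσ g), fun a b => (mem_center_iff hσ _).2 (hcommx a b),
    fun g hg w hw => ?_, fun w hw hw1 => ?_, fun a b ha hab h => ?_⟩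
  · refine Eq.trans ?_ hfix.1
    exact Nat.card_congr ⟨fun g => ⟨g.1.z, z_fixed ((mem_center_iff hσ _).1 g.2)⟩,
      fun z => ⟨central z.1 z.2, (mem_center_iff hσ _).2 rfl⟩,
      fun g => Subtype.ext (U.ext ((mem_center_iff hσ _).1 g.2).symm rfl), fun z => rfl⟩
  · have hgx : g.x ≠ 0 := fun e => hg ((mem_center_iff hσ g).2 e)
    have hwx := (mem_center_iff hσ w).1 hw
    have : Nonempty {c : F // c + σ c = w.z} := (Nat.card_pos_iff.1 (by
      rw [hfix.2 _ (z_fixed hwx)]; norm_num)).1
    obtain ⟨c, hc⟩ := this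
    obtain ⟨k, hk⟩ := exists_z hσ (c * (σ g.x)⁻¹)
    have hs : σ g.x ≠ 0 := fun e => hgx ((map_eq_zero σ).1 e)
    refine ⟨k, U.ext (by rw [hcommx, hwx]) ?_⟩
    rw [hcommz, hk, map_mul, map_inv₀, hσ.involutive, ← hc]
    field_simp
  · have hwx := (mem_center_iff hσ w).1 hw
    have hwz : w.z ≠ 0 := fun e => hw1 (U.ext hwx e)
    have e1 : {g : U σ // g * g = w} ≃ Σ x : {x : F // x * σ x = w.z}, {z : F // z + σ z = x.1 * σ x.1} :=
      ⟨fun g => ⟨⟨g.1.x, by rw [← sq_z hσ g.1, g.2]⟩, g.1.z, g.1.rel⟩,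
        fun p => ⟨⟨p.1.1, p.2.1, p.2.2⟩, U.ext (by rw [sq_x hσ, hwx]) (by rw [sq_z hσ]; exact p.1.2)⟩,
        fun g => rfl, fun p => rfl⟩
    haveI : Fintype {x : F // x * σ x = w.z} := Fintype.ofFinite _
    rw [Nat.card_congr e1, Nat.card_sigma, Finset.sum_congr rfl fun x _ => hfix.2 _ (by
      rw [map_mul, hσ.involutive, mul_comm]), Finset.sum_const, Finset.card_univ, smul_eq_mul,
      show Fintype.card {x : F // x * σ x = w.z} = 5 from ?_]
    classical
    -- the three fibres of the norm cover the fifteen non-zero elements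
    have hle : ∀ t : F, (Finset.univ.filter fun x : F => x * σ x = t).card ≤ 5 := by
      intro t
      have hp : (Polynomial.X ^ 5 - Polynomial.C t : Polynomial F) ≠ 0 := Polynomial.X_pow_sub_C_ne_zero (by norm_num) t
      calc (Finset.univ.filter fun x : F => x * σ x = t).card
          ≤ (Polynomial.X ^ 5 - Polynomial.C t : Polynomial F).roots.toFinset.card := by
            refine Finset.card_le_card fun x hx => ?_
            rw [Multiset.mem_toFinset, Polynomial.mem_roots hp]
            simp only [Polynomial.IsRoot, Polynomial.eval_sub, Polynomial.eval_pow, Polynomial.eval_X,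
              Polynomial.eval_C, sub_eq_zero]
            rw [← (Finset.mem_filter.1 hx).2, hσ.apply_eq]
            ring
        _ ≤ _ := Multiset.toFinset_card_le _
        _ ≤ (Polynomial.X ^ 5 - Polynomial.C t : Polynomial F).natDegree := Polynomial.card_roots' _
        _ = 5 := Polynomial.natDegree_X_pow_sub_C
    set N := (Finset.univ.filter fun t : F => σ t = t ∧ t ≠ 0) with hN
    have hN3 : N.card = 3 := by
      have h4 : (Finset.univ.filter fun t : F => σ t = t).card = 4 := by
        rw [← Fintype.card_subtype, ← Nat.card_eq_fintype_card]; exact hfix.1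
      have : N = (Finset.univ.filter fun t : F => σ t = t).erase 0 := by
        ext t; simp [hN, and_comm]
      rw [this, Finset.card_erase_of_mem (by simp), h4]
    have h15 : (Finset.univ.filter fun x : F => x ≠ 0).card = 15 := by
      rw [Finset.filter_ne', Finset.card_erase_of_mem (Finset.mem_univ _), Finset.card_univ, hσ.card]
      norm_num
    have hpart := Finset.card_eq_sum_card_fiberwise (s := Finset.univ.filter fun x : F => x ≠ 0)
      (f := fun x : F => x * σ x) (t := N) fun x hx => by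
        simp only [hN, Finset.coe_filter, Set.mem_setOf_eq, Finset.mem_univ, true_and] at hx ⊢
        exact ⟨by rw [map_mul, hσ.involutive, mul_comm], mul_ne_zero hx fun e => hx ((map_eq_zero σ).1 e)⟩
    have hwN : w.z ∈ N := by simp [hN, z_fixed hwx, hwz]
    have hf : ∀ t ∈ N, ((Finset.univ.filter fun x : F => x ≠ 0).filter fun x => x * σ x = t).card ≤ 5 := fun t _ =>
      (Finset.card_le_card (fun x hx => by
        simp only [Finset.mem_filter, Finset.mem_univ, true_and] at hx ⊢; exact hx.2)).trans (hle t)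
    rw [h15, ← Finset.add_sum_erase _ _ hwN] at hpart
    have hrest := Finset.sum_le_card_nsmul (N.erase w.z)
      (fun t => ((Finset.univ.filter fun x : F => x ≠ 0).filter fun x => x * σ x = t).card) 5
      fun t ht => hf t (Finset.mem_of_mem_erase ht)
    rw [Finset.card_erase_of_mem hwN, hN3, smul_eq_mul] at hrest
    refine le_antisymm (by rw [Fintype.card_subtype]; exact hle w.z) ?_
    have h5 := Finset.card_le_card (s := (Finset.univ.filter fun x : F => x ≠ 0).filter fun x => x * σ x = w.z)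
      (t := Finset.univ.filter fun x : F => x * σ x = w.z) (fun x hx => by
        simp only [Finset.mem_filter, Finset.mem_univ, true_and] at hx ⊢; exact hx.2)
    rw [Fintype.card_subtype]
    omega
  · have hax : a.x ≠ 0 := fun e => ha ((sq_eq_one_iff hσ a).2 e)
    have hz := congrArg U.z h
    rw [hcommz, sq_z hσ] at hz
    have hn := congrArg U.z hab
    rw [sq_z hσ, sq_z hσ] at hn
    set n := a.x * σ a.x with hn'
    have hn0 : n ≠ 0 := mul_ne_zero hax fun e => hax ((map_eq_zero σ).1 e)
    set u := σ a.x * b.x / n with hu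
    have hsn : σ n = n := by rw [hn', map_mul, hσ.involutive, mul_comm]
    have hsu : σ u = σ b.x * a.x / n := by rw [hu, map_div₀, map_mul, hσ.involutive, hsn, mul_comm]
    have h1 : u + σ u = 1 := by rw [hsu, hu, ← add_div, hz, div_self hn0]
    have h3 : u * σ u = 1 := by
      rw [hsu, hu]; field_simp
      linear_combination (-n) * hn + (-(b.x * σ b.x)) * hn'
    have h4 : u ^ 3 = 1 := by linear_combination (1 - u) * h3 + (u - 1) * u * h1 + (u - 1) * u * h2
    have h5 : σ u = u := by rw [hσ.apply_eq, show u ^ 4 = u ^ 3 * u by ring, h4, one_mul]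
    rw [h5] at h1
    exact zero_ne_one (by linear_combination h1 - u * h2 : (0 : F) = 1)

/-- A Sylow 2-subgroup of `U₃(4)`. -/
theorem u4_psu {F : Type u} [Field F] [Fintype F] (hF : Fintype.card F = 16) (S : Sylow 2 (Cfsg.PSU 3 F 4)) :
    U4 (S : Subgroup (Cfsg.PSU 3 F 4)) := by
  haveI : Fact (Nat.Prime 2) := ⟨Nat.prime_two⟩
  haveI : CharP F 2 := charP_of_card_eq_prime_pow (p := 2) (f := 4) (by rw [hF]; norm_num)
  obtain ⟨σ, hσ⟩ := Cfsg.Agent.Lie.UnitarySylow.sigma_props (by norm_num : 1 ≤ 2)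
    (show Fintype.card F = (2 ^ 2) ^ 2 by rw [hF]; norm_num)
  replace hσ : Cfsg.Agent.Classical.IsUSigma 4 σ := hσ
  letI := Cfsg.Agent.Lie.UnitarySylow.uGroup hσ
  obtain ⟨e⟩ := Cfsg.Agent.Lie.UnitarySylow.sylow_PSU hσ (by norm_num : 1 ≤ 2) (show 4 = 2 ^ 2 by norm_num) S
  exact (u4_coord hσ).of_equiv e

end Cfsg.Agent.UFour
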