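import Cfsg.Agent.Lib.UFour.Data

/-!
# Automorphisms of odd order fixing the centre

They have fifth power one, and those different from one move every class outside the centre.
-/

set_option autoImplicit false
set_option linter.style.haveILetI false
set_option linter.unusedSectionVars false

namespace Cfsg.Agent.UFour

open Subgroup Cfsg.Agent
open scoped commutatorElement

universe u

variable {T : Type u} [Group T] [Finite T]

theorem U4.center_two (h : U4 T) {x : T} (hx : x ∈ center T) : x * x = 1 := (h.sq_one x).2 hx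

theorem U4.center_inv (h : U4 T) {x : T} (hx : x ∈ center T) : x⁻¹ = x :=
  inv_eq_of_mul_eq_one_right (h.center_two hx)

/-- The elements whose class modulo the centre is fixed. -/
def classFix (φ : MulAut T) : Subgroup T where
  carrier := {x | φ x * x⁻¹ ∈ center T}
  one_mem' := by simp
  mul_mem' {a b} ha hb := by
    show φ (a * b) * (a * b)⁻¹ ∈ center T
    have e : φ (a * b) * (a * b)⁻¹ = φ a * (φ b * b⁻¹) * a⁻¹ := by rw [map_mul]; group
    rw [e, mem_center_iff.1 hb (φ a), mul_assoc]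
    exact mul_mem hb ha
  inv_mem' {a} ha := by
    show φ a⁻¹ * a⁻¹⁻¹ ∈ center T
    have e : φ a⁻¹ * a⁻¹⁻¹ = (φ a)⁻¹ * (φ a * a⁻¹)⁻¹ * φ a := by rw [map_inv]; group
    rw [e, mul_assoc, ← mem_center_iff.1 (inv_mem ha) (φ a), inv_mul_cancel_left]
    exact inv_mem ha

theorem mem_classFix {φ : MulAut T} {x : T} : x ∈ classFix φ ↔ φ x * x⁻¹ ∈ center T := Iff.rfl

variable (h : U4 T) {φ : MulAut T} (hfix : ∀ z ∈ center T, φ z = z) (hodd : Odd (orderOf φ))

include hfix in
theorem center_le_classFix : center T ≤ classFix φ := fun z hz => by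
  rw [mem_classFix, hfix z hz, mul_inv_cancel]; exact one_mem _

include h hfix hodd in
/-- A fixed group of classes of index at most two is everything. -/
theorem eq_one_of_index_le (hi : (classFix φ).index ≤ 2) : φ = 1 := by
  have hmem : ∀ x, φ x * x⁻¹ ∈ classFix φ := by
    intro x
    by_cases hx : x ∈ classFix φ
    · exact center_le_classFix hfix (mem_classFix.1 hx)
    have hφx : φ x ∉ classFix φ := fun hc => hx (mem_classFix.2 (by
      rw [mem_classFix] at hc
      -- `φ (φ x x⁻¹) = φ x x⁻¹` modulo the centre forces `φ x x⁻¹` central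
      have h1 : φ (φ x) * (φ x)⁻¹ = φ (φ x * x⁻¹) := by rw [map_mul, map_inv]
      rw [h1] at hc
      have h2 : φ (φ (φ x * x⁻¹)) = φ (φ x * x⁻¹) := hfix _ hc
      exact (φ.injective h2 : φ (φ x * x⁻¹) = φ x * x⁻¹) ▸ hc))
    rcases Nat.lt_or_ge (classFix φ).index 2 with hlt | hge
    · have : (classFix φ).index = 1 := by have := index_ne_zero_of_finite (H := classFix φ); omega
      exact absurd (index_eq_one.1 this ▸ mem_top x) hx
    have h2 : (classFix φ).index = 2 := le_antisymm hi hge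
    exact (Subgroup.mul_mem_iff_of_index_two h2).2 (iff_of_false hφx fun hc => hx (by simpa using inv_mem hc))
  have hsq : ∀ x, φ (φ x) * x⁻¹ ∈ center T := fun x => by
    set k := φ x * x⁻¹ with hk
    have hc : φ k * k⁻¹ ∈ center T := hmem x
    have hkk : k * k ∈ center T := h.sq_mem k
    have e : φ (φ x) * x⁻¹ = φ k * k⁻¹ * (k * k) := by
      have : φ x = k * x := by rw [hk]; group
      rw [this, map_mul, this]; group
    rw [e]
    exact mul_mem hc hkk
  have h4 : φ ^ 4 = 1 := by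
    ext x
    show φ (φ (φ (φ x))) = x
    set d := φ (φ x) * x⁻¹ with hd
    have hx2 : φ (φ x) = d * x := by rw [hd]; group
    rw [hx2, map_mul, map_mul, hfix d (hsq x), hfix d (hsq x), hx2, ← mul_assoc, h.center_two (hsq x), one_mul]
  have hd : orderOf φ ∣ 4 := orderOf_dvd_of_pow_eq_one h4
  exact orderOf_eq_one_iff.1 (Nat.eq_one_of_dvd_coprimes
    (Nat.Coprime.pow_right 2 hodd.coprime_two_right) dvd_rfl (by simpa using hd))

include h in
theorem card_fibre_inf_mul (K : Subgroup T) (hK : center T ≤ K) {w : T} (hw : w ∈ center T) :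
    4 ∣ Nat.card {x : T // x * x = w ∧ x ∈ K} := by
  set Y : Set T := {x | x * x = w ∧ x ∈ K}
  have hY : ∀ y ∈ Y, ∀ c ∈ center T, y * c ∈ Y := fun y hy c hc => by
    refine ⟨?_, mul_mem hy.2 (hK hc)⟩
    have e : y * c * (y * c) = y * y * (c * c) := by
      rw [show y * c * (y * c) = y * (c * y) * c by group, ← mem_center_iff.1 hc y]; group
    rw [e, h.center_two hc, mul_one, hy.1]
  classical
  -- `Y` is a union of classes of the centre
  have e : (QuotientGroup.mk ⁻¹' ((QuotientGroup.mk : T → T ⧸ center T) '' Y)) = Y := by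
    ext x
    refine ⟨fun ⟨y, hy, hyx⟩ => ?_, fun hx => ⟨x, hx, rfl⟩⟩
    have := hY y hy _ (QuotientGroup.eq.1 hyx)
    rwa [mul_inv_cancel_left] at this
  have hcard := Nat.card_congr (QuotientGroup.preimageMkEquivSubgroupProdSet (center T)
    ((QuotientGroup.mk : T → T ⧸ center T) '' Y))
  rw [e, Nat.card_prod, h.card_center] at hcard
  exact ⟨_, hcard⟩

include h in
theorem card_classes (K : Subgroup T) (hK : center T ≤ K) {w₁ w₂ w₃ : T} (hall : ∀ c ∈ center T, c = 1 ∨ c = w₁ ∨ c = w₂ ∨ c = w₃)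
    (hw : w₁ ≠ 1 ∧ w₂ ≠ 1 ∧ w₃ ≠ 1) (hd : w₁ ≠ w₂ ∧ w₁ ≠ w₃ ∧ w₂ ≠ w₃) :
    Nat.card K = 4 + Nat.card {x : T // x * x = w₁ ∧ x ∈ K} + Nat.card {x : T // x * x = w₂ ∧ x ∈ K} +
      Nat.card {x : T // x * x = w₃ ∧ x ∈ K} := by
  classical
  haveI : Fintype T := Fintype.ofFinite T
  simp only [Nat.card_eq_fintype_card, Fintype.card_subtype]
  have hp := Finset.card_eq_sum_card_fiberwise (s := Finset.univ.filter fun x => x ∈ K) (f := fun x => x * x)
    (t := ({1, w₁, w₂, w₃} : Finset T)) fun x _ => by simpa using hall _ (h.sq_mem x)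
  rw [Finset.sum_insert (by simp [Ne.symm hw.1, Ne.symm hw.2.1, Ne.symm hw.2.2]),
    Finset.sum_insert (by simp [hd.1, hd.2.1]), Finset.sum_insert (by simp [hd.2.2]), Finset.sum_singleton,
    Finset.filter_filter, Finset.filter_filter, Finset.filter_filter, Finset.filter_filter] at hp
  have h1 : (Finset.univ.filter fun x => x ∈ K ∧ x * x = 1).card = 4 := by
    rw [← Fintype.card_subtype, ← Nat.card_eq_fintype_card, ← h.card_center]
    exact Nat.card_congr (Equiv.subtypeEquivRight fun x =>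
      ⟨fun hx => (h.sq_one x).1 hx.2, fun hx => ⟨hK hx, h.center_two hx⟩⟩)
  rw [hp, h1, ← add_assoc, ← add_assoc]
  simp only [and_comm]

include h in
theorem exists_center : ∃ w₁ w₂ w₃ : T, w₁ ∈ center T ∧ w₂ ∈ center T ∧ w₃ ∈ center T ∧
    (∀ c ∈ center T, c = 1 ∨ c = w₁ ∨ c = w₂ ∨ c = w₃) ∧ (w₁ ≠ 1 ∧ w₂ ≠ 1 ∧ w₃ ≠ 1) ∧
    (w₁ ≠ w₂ ∧ w₁ ≠ w₃ ∧ w₂ ≠ w₃) := by
  classical
  haveI : Fintype T := Fintype.ofFinite T
  have hc : ((Finset.univ.filter fun c : T => c ∈ center T).erase 1).card = 3 := by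
    rw [Finset.card_erase_of_mem (by simp), ← Fintype.card_subtype, ← Nat.card_eq_fintype_card]
    rw [show Nat.card {x : T // x ∈ center T} = 4 from h.card_center]
  obtain ⟨w₁, w₂, w₃, h12, h13, h23, he⟩ := Finset.card_eq_three.1 hc
  have hmem : ∀ c, (c ∈ center T ∧ c ≠ 1) ↔ (c = w₁ ∨ c = w₂ ∨ c = w₃) := fun c => by
    have := congrArg (fun s : Finset T => c ∈ s) he
    simp only [Finset.mem_erase, Finset.mem_filter, Finset.mem_univ, true_and, Finset.mem_insert,
      Finset.mem_singleton, eq_iff_iff] at this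
    rw [← this, and_comm]
  refine ⟨w₁, w₂, w₃, ((hmem w₁).2 (by simp)).1, ((hmem w₂).2 (by simp)).1, ((hmem w₃).2 (by simp)).1,
    fun c hc => ?_, ⟨((hmem w₁).2 (by simp)).2, ((hmem w₂).2 (by simp)).2, ((hmem w₃).2 (by simp)).2⟩,
    h12, h13, h23⟩
  by_cases h1 : c = 1
  · exact Or.inl h1
  · exact Or.inr ((hmem c).1 ⟨hc, h1⟩)

include h hfix in
/-- An automorphism of prime order moves the classes outside the fixed ones freely. -/
theorem fibre_mod {p : ℕ} [Fact p.Prime] (hp : φ ^ p = 1) {w : T} (hw : w ∈ center T) (hw1 : w ≠ 1) :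
    Nat.card {x : T // x * x = w ∧ x ∈ classFix φ} ≡ 20 [MOD p] ∨
      Nat.card {x : T // x * x = w ∧ x ∈ classFix φ} = 20 := by
  left
  let H : Subgroup (MulAut T) := zpowers φ
  have hH : IsPGroup p H := fun g => ⟨1, by
    obtain ⟨g, n, rfl⟩ := g
    refine Subtype.ext ?_
    show (φ ^ n) ^ (p ^ 1) = 1
    rw [pow_one, ← zpow_natCast, ← zpow_mul, mul_comm, zpow_mul, zpow_natCast, hp, one_zpow]⟩
  have hst : ∀ g : H, ∀ x : T, x * x = w → (g : MulAut T) x * (g : MulAut T) x = w := by
    rintro ⟨_, n, rfl⟩ x hx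
    show (φ ^ n) x * (φ ^ n) x = w
    rw [← map_mul, hx]
    have : φ ∈ (MulAction.stabilizer (MulAut T) w) := hfix w hw
    exact zpow_mem this n
  letI act : MulAction H {x : T // x * x = w} :=
    { smul := fun g x => ⟨(g : MulAut T) x.1, hst g x.1 x.2⟩
      one_smul := fun x => Subtype.ext rfl
      mul_smul := fun g k x => Subtype.ext rfl }
  -- the classes outside the fixed ones have no fixed element
  have hout : ∀ x : {x : T // x * x = w}, x ∈ MulAction.fixedPoints H {x : T // x * x = w} → x.1 ∈ classFix φ :=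
    fun x hx => by
      rw [mem_classFix]
      have h1 : φ x.1 = x.1 := congrArg Subtype.val (hx ⟨φ, mem_zpowers φ⟩)
      rw [h1, mul_inv_cancel]
      exact one_mem _
  have hmod := hH.card_modEq_card_fixedPoints {x : T // x * x = w}
  rw [show Nat.card {x : T // x * x = w} = 20 from h.fibre w hw hw1] at hmod
  -- the classes of `classFix` are stable
  have hst2 : ∀ g : H, ∀ x : {x : T // x * x = w ∧ x ∈ classFix φ},
      (g : MulAut T) x.1 * (g : MulAut T) x.1 = w ∧ (g : MulAut T) x.1 ∈ classFix φ := by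
    rintro ⟨_, n, rfl⟩ x
    refine ⟨hst ⟨_, n, rfl⟩ x.1 x.2.1, ?_⟩
    show φ ((φ ^ n) x.1) * ((φ ^ n) x.1)⁻¹ ∈ center T
    have e : φ ((φ ^ n) x.1) = (φ ^ n) (φ x.1) := by
      show (φ * φ ^ n) x.1 = (φ ^ n * φ) x.1
      rw [(Commute.self_zpow φ n).eq]
    rw [e, ← map_inv, ← map_mul]
    have : φ ∈ (MulAction.stabilizer (MulAut T) (φ x.1 * x.1⁻¹)) := hfix _ x.2.2
    rw [show (φ ^ n) (φ x.1 * x.1⁻¹) = φ x.1 * x.1⁻¹ from zpow_mem this n]
    exact x.2.2
  letI act2 : MulAction H {x : T // x * x = w ∧ x ∈ classFix φ} :=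
    { smul := fun g x => ⟨(g : MulAut T) x.1, hst2 g x⟩
      one_smul := fun x => Subtype.ext rfl
      mul_smul := fun g k x => Subtype.ext rfl }
  have hmod2 := hH.card_modEq_card_fixedPoints {x : T // x * x = w ∧ x ∈ classFix φ}
  have e : Nat.card (MulAction.fixedPoints H {x : T // x * x = w ∧ x ∈ classFix φ}) =
      Nat.card (MulAction.fixedPoints H {x : T // x * x = w}) :=
    Nat.card_congr
      { toFun := fun x => ⟨⟨x.1.1, x.1.2.1⟩, fun g => Subtype.ext (congrArg Subtype.val (x.2 g) :)⟩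
        invFun := fun x => ⟨⟨x.1.1, x.1.2, hout x.1 x.2⟩, fun g => Subtype.ext (congrArg Subtype.val (x.2 g) :)⟩
        left_inv := fun x => rfl
        right_inv := fun x => rfl }
  rw [e] at hmod2
  exact hmod2.trans hmod.symm

include h hfix in
/-- An odd prime order automorphism is of order five and fixes no class outside the centre. -/
theorem prime_cases {p : ℕ} [Fact p.Prime] (hp2 : p ≠ 2) (hp : orderOf φ = p) :
    p = 5 ∧ classFix φ ≤ center T := by
  have hne : φ ≠ 1 := fun e => (Fact.out : p.Prime).ne_one (by rw [← hp, e, orderOf_one])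
  have hodd' : Odd (orderOf φ) := hp ▸ (Fact.out : p.Prime).odd_of_ne_two hp2
  have hK := center_le_classFix (φ := φ) hfix
  have hi : 2 < (classFix φ).index := Nat.lt_of_not_le fun hi => hne (eq_one_of_index_le h hfix hodd' hi)
  have hc := (classFix φ).card_mul_index
  rw [h.card] at hc
  obtain ⟨w₁, w₂, w₃, hm1, hm2, hm3, hall, hw, hd⟩ := exists_center h
  have hcl := card_classes h (classFix φ) hK hall hw hd
  have hdat : ∀ w ∈ center T, w ≠ 1 →
      Nat.card {x : T // x * x = w ∧ x ∈ classFix φ} ≡ 20 [MOD p] ∧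
        4 ∣ Nat.card {x : T // x * x = w ∧ x ∈ classFix φ} := fun w hw hw1 =>
    ⟨(fibre_mod h hfix (hp ▸ pow_orderOf_eq_one φ) hw hw1).elim id fun e => e ▸ rfl,
      card_fibre_inf_mul h _ hK hw⟩
  obtain ⟨a1, b1⟩ := hdat w₁ hm1 hw.1
  obtain ⟨a2, b2⟩ := hdat w₂ hm2 hw.2.1
  obtain ⟨a3, b3⟩ := hdat w₃ hm3 hw.2.2
  set n₁ := Nat.card {x : T // x * x = w₁ ∧ x ∈ classFix φ}
  set n₂ := Nat.card {x : T // x * x = w₂ ∧ x ∈ classFix φ}
  set n₃ := Nat.card {x : T // x * x = w₃ ∧ x ∈ classFix φ}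
  have hle : Nat.card (classFix φ) ≤ 16 := by
    obtain ⟨i, hi', hKi⟩ := (Nat.dvd_prime_pow Nat.prime_two).1
      (show Nat.card (classFix φ) ∣ 2 ^ 6 by norm_num; exact Dvd.intro _ hc)
    have h3 : 3 * 2 ^ i ≤ 64 := by rw [← hKi]; nlinarith
    have : i ≤ 4 := by
      by_contra hh
      have := Nat.pow_le_pow_right (show 0 < 2 by norm_num) (show 5 ≤ i by omega)
      omega
    rw [hKi]
    exact (Nat.pow_le_pow_right (by norm_num) this).trans_eq (by norm_num)
  have hz : ∀ n, 4 ∣ n → n ≤ 12 → n ≡ 20 [MOD p] → p = 5 ∧ n = 0 ∨ p = 3 ∧ n = 8 := by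
    intro n h4 hn hmod
    have hdiv : p ∣ 20 - n := (Nat.modEq_iff_dvd' (by omega)).1 hmod
    obtain ⟨k, rfl⟩ := h4
    have hp' : p.Prime := Fact.out
    have hpl : p ≤ 20 - 4 * k := Nat.le_of_dvd (by omega) hdiv
    have hk : k ≤ 3 := by omega
    interval_cases k <;> interval_cases p <;> first | omega | exact absurd hp' (by norm_num)
  obtain ⟨h5, e1⟩ | ⟨h3, e1⟩ := hz n₁ b1 (by omega) a1
  · refine ⟨h5, fun x hx => ?_⟩
    have e2 : n₂ = 0 := by rcases hz n₂ b2 (by omega) a2 with ⟨-, e⟩ | ⟨e, -⟩ <;> omega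
    have e3 : n₃ = 0 := by rcases hz n₃ b3 (by omega) a3 with ⟨-, e⟩ | ⟨e, -⟩ <;> omega
    have heq : center T = classFix φ := Subgroup.eq_of_le_of_card_ge hK (by rw [h.card_center]; omega)
    exact heq ▸ hx
  · exfalso
    have e2 : n₂ = 8 := by rcases hz n₂ b2 (by omega) a2 with ⟨e, -⟩ | ⟨-, e⟩ <;> omega
    omega

include h hfix hodd in
theorem pow_five : φ ^ 5 = 1 := by
  have hpow : ∀ k : ℕ, ∀ z ∈ center T, (φ ^ k) z = z := fun k z hz => by
    have : φ ∈ MulAction.stabilizer (MulAut T) z := hfix z hz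
    exact pow_mem this k
  have key : ∀ p : ℕ, p.Prime → p ∣ orderOf φ → p = 5 := fun p hp hd => by
    haveI := Fact.mk hp
    have ho : orderOf (φ ^ (orderOf φ / p)) = p := orderOf_pow_orderOf_div (orderOf_pos φ).ne' hd
    exact (prime_cases h (hpow _) (fun e => by
      rw [e] at hd; exact Nat.not_even_iff_odd.2 hodd (even_iff_two_dvd.2 hd)) ho).1
  obtain ⟨k, hk⟩ : ∃ k, orderOf φ = 5 ^ k :=
    ⟨_, Nat.eq_prime_pow_of_unique_prime_dvd (orderOf_pos φ).ne' fun {q} hq hd => key q hq hd⟩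
  rcases Nat.lt_or_ge k 2 with hk2 | hk2
  · refine orderOf_dvd_iff_pow_eq_one.1 ?_
    rw [hk]; interval_cases k <;> norm_num
  · exfalso
    -- an element of order twenty-five would fix the class of some element of order four
    haveI : Fact (Nat.Prime 5) := ⟨by norm_num⟩
    set ψ := φ ^ 5 ^ (k - 2) with hψ
    have h25 : orderOf ψ = 25 := by
      rw [hψ, orderOf_pow_of_dvd (pow_ne_zero _ (by norm_num)) (hk ▸ pow_dvd_pow 5 (Nat.sub_le k 2)), hk,
        Nat.pow_div (Nat.sub_le k 2) (by norm_num), show k - (k - 2) = 2 by omega]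
    have h5 : orderOf (ψ ^ 5) = 5 := by
      rw [orderOf_pow_of_dvd (by norm_num) (by rw [h25]; norm_num), h25]
    have hψfix : ∀ z ∈ center T, ψ z = z := hpow _
    obtain ⟨-, hmov⟩ := prime_cases h (φ := ψ ^ 5) (fun z hz => by
      have : ψ ∈ MulAction.stabilizer (MulAut T) z := hψfix z hz
      exact pow_mem this 5) (by norm_num) h5
    obtain ⟨w, w', w'', hw, hm', hm'', hall', hw1, hd'⟩ := exists_center h
    obtain ⟨x, hx⟩ : ∃ x : T, x * x = w := by
      have : Nonempty {x : T // x * x = w} := (Nat.card_pos_iff.1 (by rw [h.fibre w hw hw1.1]; norm_num)).1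
      exact ⟨this.some.1, this.some.2⟩
    have hxnc : x ∉ center T := fun hc => hw1.1 (hx ▸ h.center_two hc)
    -- among six powers two classes agree
    classical
    haveI : Fintype T := Fintype.ofFinite T
    let Q : Type u := {q : T ⧸ center T // ∃ y : T, y * y = w ∧ QuotientGroup.mk y = q}
    have hQ : Nat.card Q = 5 := by
      have e : (QuotientGroup.mk ⁻¹' {q : T ⧸ center T | ∃ y : T, y * y = w ∧ QuotientGroup.mk y = q}) =
          {y : T | y * y = w} := by
        ext y
        refine ⟨fun ⟨y', hy', he⟩ => ?_, fun hy => ⟨y, hy, rfl⟩⟩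
        obtain ⟨c, hc, rfl⟩ : ∃ c ∈ center T, y = y' * c :=
          ⟨y'⁻¹ * y, QuotientGroup.eq.1 he, (mul_inv_cancel_left _ _).symm⟩
        show y' * c * (y' * c) = w
        rw [show y' * c * (y' * c) = y' * (c * y') * c by group, ← mem_center_iff.1 hc y',
          show y' * (y' * c) * c = y' * y' * (c * c) by group, h.center_two hc, mul_one, hy']
      have hcard := Nat.card_congr (QuotientGroup.preimageMkEquivSubgroupProdSet (center T)
        {q : T ⧸ center T | ∃ y : T, y * y = w ∧ QuotientGroup.mk y = q})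
      rw [e, Nat.card_prod, h.card_center] at hcard
      have h20 : Nat.card {y : T | y * y = w} = 20 := h.fibre w hw hw1.1
      rw [h20] at hcard
      have : 20 = 4 * Nat.card Q := hcard
      omega
    let f : Fin 6 → Q := fun i => ⟨QuotientGroup.mk ((ψ ^ (i : ℕ)) x), (ψ ^ (i : ℕ)) x, by
      rw [← map_mul, hx]
      have : ψ ∈ MulAction.stabilizer (MulAut T) w := hψfix w hw
      exact pow_mem this _, rfl⟩
    obtain ⟨i, j, hij, hf⟩ : ∃ i j, i ≠ j ∧ f i = f j := by
      by_contra hc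
      push Not at hc
      have hinj : Function.Injective f := fun a b hab => by
        by_contra hne; exact hc a b hne hab
      have := Nat.card_le_card_of_injective f hinj
      rw [hQ, Nat.card_eq_fintype_card, Fintype.card_fin] at this
      omega
    have main : ∀ a b : ℕ, a < b → b < 6 → QuotientGroup.mk ((ψ ^ a) x) = (QuotientGroup.mk ((ψ ^ b) x) : T ⧸ center T) →
        False := by
      intro a b hab hb he
      set n := b - a with hn
      have hmem : x ∈ classFix (ψ ^ n) := by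
        have h1 : ((ψ ^ a) x)⁻¹ * (ψ ^ b) x ∈ center T := QuotientGroup.eq.1 he
        rw [show b = a + n by omega, pow_add, MulAut.mul_apply, ← map_inv, ← map_mul] at h1
        have h2 : x⁻¹ * (ψ ^ n) x ∈ center T := by
          have h3 : (ψ ^ a) (x⁻¹ * (ψ ^ n) x) = (ψ ^ a) ((ψ ^ a) (x⁻¹ * (ψ ^ n) x)) := by
            have : ψ ∈ MulAction.stabilizer (MulAut T) ((ψ ^ a) (x⁻¹ * (ψ ^ n) x)) := hψfix _ h1
            exact (pow_mem this a).symm
          exact (ψ ^ a).injective h3 ▸ h1
        rw [mem_classFix, show (ψ ^ n) x * x⁻¹ = x * (x⁻¹ * (ψ ^ n) x) * x⁻¹ by group,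
          mem_center_iff.1 h2 x, mul_inv_cancel_right]
        exact h2
      obtain ⟨m, hm⟩ : ∃ m, ψ ^ 5 = (ψ ^ n) ^ m := by
        rcases (show n = 5 ∨ n ∈ ({1, 2, 3, 4} : Finset ℕ) by simp; omega) with h' | h'
        · exact ⟨1, by rw [h', pow_one]⟩
        · have hco : n.Coprime (orderOf ψ) := by
            rw [h25]
            simp only [Finset.mem_insert, Finset.mem_singleton] at h'
            rcases h' with e | e | e | e <;> rw [e] <;> norm_num
          obtain ⟨m, hm⟩ := exists_pow_eq_self_of_coprime hco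
          exact ⟨m * 5, by rw [pow_mul, hm]⟩
      have hstep : ∀ m : ℕ, x ∈ classFix ((ψ ^ n) ^ m) := by
        intro m
        induction m with
        | zero => simp [mem_classFix]
        | succ m ih =>
          rw [mem_classFix] at ih hmem ⊢
          rw [pow_succ, MulAut.mul_apply,
            show ((ψ ^ n) ^ m) ((ψ ^ n) x) * x⁻¹ = ((ψ ^ n) ^ m) ((ψ ^ n) x * x⁻¹) * (((ψ ^ n) ^ m) x * x⁻¹) by
              rw [map_mul, map_inv]; group]
          refine mul_mem ?_ ih
          have : ψ ∈ MulAction.stabilizer (MulAut T) ((ψ ^ n) x * x⁻¹) := hψfix _ hmem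
          have h4 : ((ψ ^ n) ^ m) ((ψ ^ n) x * x⁻¹) = (ψ ^ n) x * x⁻¹ := by
            have := pow_mem this (n * m)
            rw [pow_mul] at this
            exact this
          rw [h4]
          exact hmem
      exact hxnc (hmov (hm ▸ hstep m))
    have hf' := congrArg Subtype.val hf
    rcases lt_trichotomy (i : ℕ) (j : ℕ) with hlt | heq | hgt
    · exact main i j hlt j.2 hf'
    · exact hij (Fin.ext heq)
    · exact main j i hgt i.2 hf'.symm

include h hfix hodd in
/-- A non-trivial automorphism of odd order fixing the centre moves every class outside it. -/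
theorem classFix_le (hne : φ ≠ 1) : classFix φ ≤ center T := by
  haveI : Fact (Nat.Prime 5) := ⟨by norm_num⟩
  exact (prime_cases h hfix (by norm_num)
    (orderOf_eq_prime (pow_five h hfix hodd) hne)).2

end Cfsg.Agent.UFour
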