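import Cfsg.Agent.Lib.UFour.Auto
import Cfsg.Agent.Lib.Fusion.PiClosed.Unitary
import Cfsg.Agent.Lib.Fusion.NPC

/-!
# A Sylow 2-subgroup of the type of `U₃(4)` inside a group

`Ez S` is its group of involutions, a central four group; `od L` is the odd core of `L`.
-/

set_option autoImplicit false
set_option linter.style.haveILetI false
set_option linter.unusedSectionVars false

namespace Cfsg.Agent.UFour

open Subgroup Cfsg.Agent Cfsg.Agent.Fusion
open scoped commutatorElement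

universe u

variable {G : Type u} [Group G]

/-- The central involutions of a Sylow 2-subgroup, with the identity. -/
abbrev Ez (S : Sylow 2 G) : Subgroup G := PiClosed.omegaZ (S : Subgroup G)

/-- The odd core of a subgroup, in the group. -/
def od (L : Subgroup G) : Subgroup G := (Cfsg.oddCore ↥L).map L.subtype

theorem od_le (L : Subgroup G) : od L ≤ L := map_subtype_le _

variable [Finite G]

theorem od_odd (L : Subgroup G) : Odd (Nat.card (od L)) := by
  rw [od, card_map_of_injective L.subtype_injective]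
  exact Nat.coprime_two_right.1 (card_pPrimeCore_coprime 2 _)

theorem le_od {L R : Subgroup G} (hR : R ≤ L) (hn : L ≤ normalizer (R : Set G)) (hodd : Odd (Nat.card R)) :
    R ≤ od L := by
  haveI : (R.subgroupOf L).Normal := normal_subgroupOf_of_le_normalizer hn
  rw [od, ← map_subgroupOf_eq_of_le hR]
  refine map_mono (Fusion.le_pPrimeCore ?_)
  rw [Nat.card_congr (subgroupOfEquivOfLe hR).toEquiv]
  exact Nat.coprime_two_right.2 hodd

theorem od_norm (L : Subgroup G) : L ≤ normalizer (od L : Set G) := by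
  intro g hg
  refine mem_normalizer_fintype ?_
  rintro _ ⟨x, hx, rfl⟩
  exact ⟨⟨g, hg⟩ * x * ⟨g, hg⟩⁻¹, (inferInstance : (Cfsg.oddCore ↥L).Normal).conj_mem x hx _, rfl⟩

theorem od_cj (L : Subgroup G) (g : G) : cj (od L) g = od (cj L g) := by
  have key : ∀ (M : Subgroup G) (k : G), cj (od M) k ≤ od (cj M k) := fun M k => by
    refine le_od (cj_mono (od_le M) k) ?_ (by rw [card_cj]; exact od_odd M)
    rw [← cj_normalizer]
    exact cj_mono (od_norm M) k
  refine le_antisymm (key L g) ?_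
  have h := cj_mono (key (cj L g) g⁻¹) g
  rw [cj_inv_cj] at h
  rwa [cj_cj_inv] at h

theorem odd_of_le {H K : Subgroup G} (h : H ≤ K) (hK : Odd (Nat.card K)) : Odd (Nat.card H) :=
  hK.of_dvd_nat (card_dvd_of_le h)

theorem orderOf_odd {H : Subgroup G} (hH : Odd (Nat.card H)) {x : G} (hx : x ∈ H) : Odd (orderOf x) :=
  hH.of_dvd_nat (orderOf_dvd_natCard H hx)

theorem inf_odd_eq_bot {P X : Subgroup G} (hP : IsPGroup 2 P) (hX : Odd (Nat.card X)) : P ⊓ X = ⊥ := by
  haveI : Fact (Nat.Prime 2) := ⟨Nat.prime_two⟩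
  refine Subgroup.inf_eq_bot_of_coprime ?_
  obtain ⟨j, hj⟩ := IsPGroup.iff_card.1 hP
  rw [hj]
  exact (Nat.coprime_two_left.2 hX).pow_left _

omit [Finite G] in
theorem eq_one_of_sq_of_odd {x : G} (h2 : x * x = 1) (hodd : Odd (orderOf x)) : x = 1 :=
  orderOf_eq_one_iff.1 (Nat.eq_one_of_dvd_coprimes hodd.coprime_two_left
    (orderOf_dvd_of_pow_eq_one (by rw [pow_two, h2])) dvd_rfl)

variable {S : Sylow 2 G}

omit [Finite G] in
theorem Ez_comm {a b : G} (ha : a ∈ Ez S) (hb : b ∈ Ez S) : Commute a b := PiClosed.omegaZ_comm ha hb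

omit [Finite G] in
theorem commute_Ez {x e : G} (hx : x ∈ (S : Subgroup G)) (he : e ∈ Ez S) : Commute x e := he.2.2 x hx

omit [Finite G] in
theorem le_cent {e : G} (he : e ∈ Ez S) : (S : Subgroup G) ≤ centralizer ({e} : Set G) :=
  PiClosed.le_centralizer_omegaZ he

omit [Finite G] in
theorem sylow_le_centEz : (S : Subgroup G) ≤ centralizer (Ez S : Set G) := fun x hx =>
  mem_centralizer_iff.2 fun _ he => (commute_Ez hx he).eq.symm

omit [Finite G] in
theorem Ez_inv {e : G} (he : e ∈ Ez S) : e⁻¹ = e := inv_eq_of_mul_eq_one_right he.2.1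

theorem syl_cent {e : G} (he : e ∈ Ez S) : SylIn 2 (S : Subgroup G) (centralizer ({e} : Set G)) :=
  (sylIn_top S).mono (le_cent he) le_top

variable (h : U4 (S : Subgroup G))
include h

theorem mem_Ez_iff {x : G} (hx : x ∈ (S : Subgroup G)) :
    x ∈ Ez S ↔ (⟨x, hx⟩ : ↥(S : Subgroup G)) ∈ center (S : Subgroup G) := by
  refine ⟨fun hE => mem_center_iff.2 fun g => Subtype.ext (hE.2.2 g g.2), fun hc => ⟨hx, ?_, fun s hs => ?_⟩⟩
  · exact congrArg Subtype.val ((h.sq_one _).2 hc)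
  · exact congrArg Subtype.val (mem_center_iff.1 hc ⟨s, hs⟩)

theorem mem_Ez_of_sq {x : G} (hx : x ∈ (S : Subgroup G)) (h2 : x * x = 1) : x ∈ Ez S :=
  (mem_Ez_iff h hx).2 ((h.sq_one ⟨x, hx⟩).1 (Subtype.ext h2))

theorem card_Ez : Nat.card (Ez S) = 4 := by
  rw [← h.card_center]
  exact Nat.card_congr ⟨fun e => ⟨⟨e, e.2.1⟩, (mem_Ez_iff h e.2.1).1 e.2⟩,
    fun c => ⟨c.1, (mem_Ez_iff h c.1.2).2 c.2⟩, fun e => rfl, fun c => rfl⟩

theorem sq_mem_Ez {x : G} (hx : x ∈ (S : Subgroup G)) : x * x ∈ Ez S :=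
  (mem_Ez_iff h (mul_mem hx hx)).2 (h.sq_mem ⟨x, hx⟩)

theorem comm_mem_Ez {a b : G} (ha : a ∈ (S : Subgroup G)) (hb : b ∈ (S : Subgroup G)) : ⁅a, b⁆ ∈ Ez S :=
  (mem_Ez_iff h (SetLike.coe_mem ⁅(⟨a, ha⟩ : ↥(S : Subgroup G)), (⟨b, hb⟩ : ↥(S : Subgroup G))⁆)).2
    (h.comm_mem ⟨a, ha⟩ ⟨b, hb⟩)

theorem comm_surj' {x w : G} (hx : x ∈ (S : Subgroup G)) (hxE : x ∉ Ez S) (hw : w ∈ Ez S) :
    ∃ y ∈ (S : Subgroup G), ⁅x, y⁆ = w := by
  obtain ⟨y, hy⟩ := h.comm_surj ⟨x, hx⟩ (fun hc => hxE ((mem_Ez_iff h hx).2 hc)) ⟨w, hw.1⟩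
    ((mem_Ez_iff h hw.1).1 hw)
  exact ⟨y, y.2, congrArg Subtype.val hy⟩

theorem card_fibre {w : G} (hw : w ∈ Ez S) (hw1 : w ≠ 1) :
    Nat.card {x : G // x ∈ (S : Subgroup G) ∧ x * x = w} = 20 := by
  rw [← h.fibre ⟨w, hw.1⟩ ((mem_Ez_iff h hw.1).1 hw) (fun e => hw1 (congrArg Subtype.val e))]
  exact Nat.card_congr ⟨fun x => ⟨⟨x.1, x.2.1⟩, Subtype.ext x.2.2⟩,
    fun x => ⟨x.1.1, x.1.2, congrArg Subtype.val x.2⟩, fun x => rfl, fun x => rfl⟩

theorem exists_root {w : G} (hw : w ∈ Ez S) (hw1 : w ≠ 1) :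
    ∃ x ∈ (S : Subgroup G), x * x = w ∧ x ∉ Ez S := by
  obtain ⟨⟨x, hx, hxw⟩⟩ : Nonempty {x : G // x ∈ (S : Subgroup G) ∧ x * x = w} :=
    (Nat.card_pos_iff.1 (by rw [card_fibre h hw hw1]; norm_num)).1
  exact ⟨x, hx, hxw, fun hE => hw1 (hxw.symm.trans hE.2.1)⟩

theorem mem_Ez_cases {z e : G} (hz : z ∈ Ez S) (he : e ∈ Ez S) (hz1 : z ≠ 1) (he1 : e ≠ 1) (hze : z ≠ e) {x : G}
    (hx : x ∈ Ez S) : x = 1 ∨ x = z ∨ x = e ∨ x = z * e := by
  classical
  have h3 : z * e ≠ 1 := fun e' => hze ((mul_eq_one_iff_eq_inv.1 e').trans (Ez_inv he))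
  have h4 : z * e ≠ z := fun e' => he1 (by simpa using e')
  have h5 : z * e ≠ e := fun e' => hz1 (by simpa using e')
  haveI : Fintype (Ez S) := Fintype.ofFinite _
  let T : Finset (Ez S) := {1, ⟨z, hz⟩, ⟨e, he⟩, ⟨z * e, mul_mem hz he⟩}
  have hT : T = Finset.univ := by
    refine Finset.eq_univ_of_card _ ?_
    rw [← Nat.card_eq_fintype_card, card_Ez h]
    rw [show T.card = 4 from ?_]
    rw [Finset.card_insert_of_notMem, Finset.card_insert_of_notMem, Finset.card_insert_of_notMem,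
      Finset.card_singleton]
    · simp [Subtype.ext_iff, h5.symm]
    · simp [Subtype.ext_iff, hze, h4.symm]
    · simp [Subtype.ext_iff, hz1.symm, he1.symm, h3.symm]
  have := Finset.mem_univ (⟨x, hx⟩ : Ez S)
  rw [← hT] at this
  simpa [T, Subtype.ext_iff] using this

theorem exists_other {z : G} (hz : z ∈ Ez S) : ∃ e ∈ Ez S, e ≠ 1 ∧ e ≠ z := by
  classical
  haveI : Fintype (Ez S) := Fintype.ofFinite _
  by_contra hc
  push Not at hc
  have hle : Nat.card (Ez S) ≤ ({1, ⟨z, hz⟩} : Finset (Ez S)).card := by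
    rw [Nat.card_eq_fintype_card]
    refine Finset.card_le_card fun x _ => ?_
    simp only [Finset.mem_insert, Finset.mem_singleton]
    by_cases hx1 : (x : G) = 1
    · exact Or.inl (Subtype.ext hx1)
    · exact Or.inr (Subtype.ext (hc x x.2 hx1))
  have := hle.trans Finset.card_le_two
  rw [card_Ez h] at this
  omega

/-- Every involution is conjugate into `Ez S`. -/
theorem exists_conj_mem_Ez {t : G} (ht : t * t = 1) : ∃ g : G, g * t * g⁻¹ ∈ Ez S := by
  haveI : Fact (Nat.Prime 2) := ⟨Nat.prime_two⟩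
  have hp : IsPGroup 2 (zpowers t) := by
    obtain ⟨k, -, hk⟩ := (Nat.dvd_prime_pow Nat.prime_two (m := 1)).1
      (orderOf_dvd_of_pow_eq_one (x := t) (by rw [pow_one, pow_two, ht]))
    exact IsPGroup.of_card (n := k) (by rw [Nat.card_zpowers, hk])
  obtain ⟨g, -, hg⟩ := (sylIn_top S).conj_le hp le_top
  exact ⟨g, mem_Ez_of_sq h (hg (conj_mem_cj (mem_zpowers t)))
    (by rw [show g * t * g⁻¹ * (g * t * g⁻¹) = g * (t * t) * g⁻¹ by group, ht, mul_one, mul_inv_cancel])⟩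

omit h in
/-- An element normalising `S` whose square centralises a central involution centralises it. -/
theorem commute_of_sq {n e : G} (hn : n ∈ normalizer ((S : Subgroup G) : Set G)) (he : e ∈ Ez S)
    (h2 : Commute (n * n) e) : Commute n e := by
  haveI : Fact (Nat.Prime 2) := ⟨Nat.prime_two⟩
  obtain ⟨a, m, hm, hnm⟩ := Nat.exists_eq_two_pow_mul_odd (orderOf_pos n).ne'
  have h1 : n ^ m ∈ (S : Subgroup G) := by
    have hp : IsPGroup 2 (zpowers (n ^ m)) := by
      obtain ⟨k, -, hk⟩ := (Nat.dvd_prime_pow Nat.prime_two (m := a)).1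
        (orderOf_dvd_of_pow_eq_one (x := n ^ m) (by rw [← pow_mul, mul_comm, ← hnm, pow_orderOf_eq_one]))
      exact IsPGroup.of_card (n := k) (by rw [Nat.card_zpowers, hk])
    have hj : IsPGroup 2 ((S : Subgroup G) ⊔ zpowers (n ^ m) : Subgroup G) :=
      S.isPGroup'.to_sup_of_normal_left' hp (zpowers_le.2 (pow_mem hn m))
    exact S.is_maximal' hj le_sup_left ▸ mem_sup_right (mem_zpowers _)
  obtain ⟨k, rfl⟩ := hm
  have h3 : Commute (n ^ (2 * k + 1)) e := commute_Ez h1 he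
  have h4 : Commute ((n * n) ^ k) e := h2.pow_left k
  have e1 : n = ((n * n) ^ k)⁻¹ * n ^ (2 * k + 1) := by
    rw [← pow_two, ← pow_mul, pow_succ, inv_mul_cancel_left]
  rw [e1]
  exact h4.inv_left.mul_left h3

/-- An element normalising `S` that moves a central involution cycles all three. -/
theorem cycle {n z e : G} (hn : n ∈ normalizer ((S : Subgroup G) : Set G)) (hz : z ∈ Ez S) (hz1 : z ≠ 1)
    (hnz : n * z * n⁻¹ ≠ z) (he : e ∈ Ez S) (he1 : e ≠ 1) :
    e = z ∨ e = n * z * n⁻¹ ∨ e = n * (n * z * n⁻¹) * n⁻¹ := by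
  set a := n * z * n⁻¹ with ha
  set b := n * a * n⁻¹ with hb
  have haE : a ∈ Ez S := PiClosed.omegaZ_normalizer hn hz
  have hbE : b ∈ Ez S := PiClosed.omegaZ_normalizer hn haE
  have ha1 : a ≠ 1 := fun e' => hz1 (conj_eq_one_iff.1 e')
  have hb1 : b ≠ 1 := fun e' => ha1 (conj_eq_one_iff.1 e')
  have hab : a ≠ b := fun e' => hnz (mul_left_cancel (mul_right_cancel (e'.symm : n * a * n⁻¹ = a)))
  have hzb : z ≠ b := fun e' => hnz (by
    have h2 : Commute (n * n) z := by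
      have e2 : n * n * z * (n * n)⁻¹ = z := by
        conv_rhs => rw [e', hb, ha]
        group
      exact mul_inv_eq_iff_eq_mul.1 e2
    exact mul_inv_eq_iff_eq_mul.2 (commute_of_sq hn hz h2).eq)
  rcases mem_Ez_cases h hz haE hz1 ha1 (Ne.symm hnz) he with h1 | h1 | h1 | h1
  · exact absurd h1 he1
  · exact Or.inl h1
  · exact Or.inr (Or.inl h1)
  · rcases mem_Ez_cases h hz haE hz1 ha1 (Ne.symm hnz) hbE with h2 | h2 | h2 | h2
    · exact absurd h2 hb1
    · exact absurd h2.symm hzb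
    · exact absurd h2.symm hab
    · exact Or.inr (Or.inr (h1.trans h2.symm))

/-- Fusion of central involutions is controlled by the normaliser. -/
theorem fusion {z g : G} (hz : z ∈ Ez S) (hg : g * z * g⁻¹ ∈ (S : Subgroup G)) :
    ∃ n ∈ normalizer ((S : Subgroup G) : Set G), n * z * n⁻¹ = g * z * g⁻¹ := by
  set w := g * z * g⁻¹ with hw
  have hw2 : w * w = 1 := by
    rw [hw, show g * z * g⁻¹ * (g * z * g⁻¹) = g * (z * z) * g⁻¹ by group, hz.2.1, mul_one, mul_inv_cancel]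
  have hwE : w ∈ Ez S := mem_Ez_of_sq h hg hw2
  have hle : cj (S : Subgroup G) g ≤ centralizer ({w} : Set G) := by
    rintro _ ⟨s, hs, rfl⟩
    rw [mem_centralizer_singleton_iff, hw]
    show g * s * g⁻¹ * (g * z * g⁻¹) = g * z * g⁻¹ * (g * s * g⁻¹)
    calc g * s * g⁻¹ * (g * z * g⁻¹) = g * (s * z) * g⁻¹ := by group
      _ = g * (z * s) * g⁻¹ := by rw [hz.2.2 s hs]
      _ = g * z * g⁻¹ * (g * s * g⁻¹) := by group
  obtain ⟨c, hc, hcS⟩ := (syl_cent hwE).conj_le (isPGroup_cj S.isPGroup' g) hle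
  refine ⟨c * g, mem_normalizer_iff_cj.2 ?_, ?_⟩
  · rw [← cj_cj]; exact Subgroup.eq_of_le_of_card_ge hcS (by rw [card_cj, card_cj])
  · rw [show c * g * z * (c * g)⁻¹ = c * w * c⁻¹ by rw [hw]; group, mem_centralizer_singleton_iff.1 hc,
      mul_inv_cancel_right]

/-- An element of odd order of the normaliser, fixing the centre and a class outside it, centralises `S`. -/
theorem centralizes_of_fix {n x : G} (hn : n ∈ normalizer ((S : Subgroup G) : Set G))
    (hodd : Odd (orderOf n)) (hfix : ∀ e ∈ Ez S, n * e * n⁻¹ = e) (hx : x ∈ (S : Subgroup G)) (hxE : x ∉ Ez S)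
    (hcls : n * x * n⁻¹ * x⁻¹ ∈ Ez S) : n ∈ centralizer ((S : Subgroup G) : Set G) := by
  set φ : MulAut (S : Subgroup G) := (S : Subgroup G).normalizerMonoidHom ⟨n, hn⟩ with hφ
  have happ : ∀ y : (S : Subgroup G), ((φ y : (S : Subgroup G)) : G) = n * y * n⁻¹ := fun y => rfl
  have hfix' : ∀ c ∈ center (S : Subgroup G), φ c = c := fun c hc =>
    Subtype.ext ((happ c).trans (hfix c ((mem_Ez_iff h c.2).2 hc)))
  have hoddφ : Odd (orderOf φ) := hodd.of_dvd_nat (by
    refine (orderOf_map_dvd _ _).trans ?_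
    rw [Subgroup.orderOf_mk])
  have hne : φ = 1 := by
    by_contra hne
    refine hxE ((mem_Ez_iff h hx).2 (classFix_le h hfix' hoddφ hne ?_))
    exact (mem_Ez_iff h _).1 (show ((φ ⟨x, hx⟩ * (⟨x, hx⟩ : ↥(S : Subgroup G))⁻¹ : (S : Subgroup G)) : G) ∈ Ez S
      from hcls)
  refine mem_centralizer_iff.2 fun y hy => ?_
  have e1 := happ ⟨y, hy⟩
  rw [hne] at e1
  exact (mul_inv_eq_iff_eq_mul.1 e1.symm).symm

theorem pow_five' {n : G} (hn : n ∈ normalizer ((S : Subgroup G) : Set G)) (hodd : Odd (orderOf n))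
    (hfix : ∀ e ∈ Ez S, n * e * n⁻¹ = e) : n ^ 5 ∈ centralizer ((S : Subgroup G) : Set G) := by
  set φ : MulAut (S : Subgroup G) := (S : Subgroup G).normalizerMonoidHom ⟨n, hn⟩ with hφ
  have hfix' : ∀ c ∈ center (S : Subgroup G), φ c = c := fun c hc =>
    Subtype.ext (hfix c ((mem_Ez_iff h c.2).2 hc))
  have hoddφ : Odd (orderOf φ) := hodd.of_dvd_nat (by
    refine (orderOf_map_dvd _ _).trans ?_
    rw [Subgroup.orderOf_mk])
  have h5 : ((S : Subgroup G).normalizerMonoidHom (⟨n, hn⟩ ^ 5) : MulAut (S : Subgroup G)) = 1 := by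
    rw [map_pow]; exact pow_five h hfix' hoddφ
  have h6 := MonoidHom.mem_ker.2 h5
  rw [normalizerMonoidHom_ker, mem_subgroupOf] at h6
  exact h6

omit h in
theorem class_fix_of_conj {n x s : G} (he : n * x * n⁻¹ = s * x * s⁻¹) :
    n * x * n⁻¹ * x⁻¹ = ⁅s, x⁆ := by
  rw [he, commutatorElement_def]

/-- An element outside the centre has four conjugates in `S`. -/
theorem card_cent_inf {x : G} (hx : x ∈ (S : Subgroup G)) (hxE : x ∉ Ez S) :
    Nat.card ((S : Subgroup G) ⊓ centralizer ({x} : Set G) : Subgroup G) = 16 := by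
  haveI : Fintype (Ez S) := Fintype.ofFinite _
  let f : ↥(S : Subgroup G) → ↥(Ez S) := fun y => ⟨⁅x, (y : G)⁆, comm_mem_Ez h hx y.2⟩
  have hxx : ∀ w ∈ Ez S, Nat.card {y : (S : Subgroup G) // ⁅x, (y : G)⁆ = w} =
      Nat.card ((S : Subgroup G) ⊓ centralizer ({x} : Set G) : Subgroup G) := by
    intro w hw
    obtain ⟨y₀, hy₀, hy₀w⟩ := comm_surj' h hx hxE hw
    have hk : ∀ a b : (S : Subgroup G), ⁅x, ((a * b : (S : Subgroup G)) : G)⁆ = ⁅x, (a : G)⁆ * ⁅x, (b : G)⁆ := by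
      intro a b
      have hc : Commute (a : G) ⁅x, (b : G)⁆ := commute_Ez a.2 (comm_mem_Ez h hx b.2)
      rw [Subgroup.coe_mul, commutatorElement_def, commutatorElement_def, commutatorElement_def]
      rw [commutatorElement_def] at hc
      calc x * (↑a * ↑b) * x⁻¹ * (↑a * ↑b)⁻¹
          = x * ↑a * x⁻¹ * (x * ↑b * x⁻¹ * (↑b)⁻¹) * (↑a)⁻¹ := by group
        _ = x * ↑a * x⁻¹ * ((↑a)⁻¹ * (↑a * (x * ↑b * x⁻¹ * (↑b)⁻¹))) * (↑a)⁻¹ := by group
        _ = x * ↑a * x⁻¹ * ((↑a)⁻¹ * (x * ↑b * x⁻¹ * (↑b)⁻¹ * ↑a)) * (↑a)⁻¹ := by rw [hc.eq]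
        _ = _ := by group
    refine Nat.card_congr
      { toFun := fun y => ⟨(⟨y₀, hy₀⟩⁻¹ * y.1 : (S : Subgroup G)), SetLike.coe_mem _, ?_⟩
        invFun := fun c => ⟨⟨y₀, hy₀⟩ * ⟨c.1, c.2.1⟩, ?_⟩
        left_inv := fun y => Subtype.ext (mul_inv_cancel_left _ _)
        right_inv := fun c => Subtype.ext (inv_mul_cancel_left _ _) }
    · refine mem_centralizer_singleton_iff.2 ?_
      have h1 := hk ⟨y₀, hy₀⟩⁻¹ y.1
      have h2 := hk ⟨y₀, hy₀⟩⁻¹ ⟨y₀, hy₀⟩
      rw [inv_mul_cancel, OneMemClass.coe_one, commutatorElement_one_right] at h2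
      rw [y.2] at h1
      rw [show ((⟨y₀, hy₀⟩ : (S : Subgroup G)) : G) = y₀ from rfl, hy₀w] at h2
      rw [← h2] at h1
      exact (commutatorElement_eq_one_iff_commute.1 h1).eq.symm
    · rw [hk]
      show ⁅x, y₀⁆ * ⁅x, c.1⁆ = w
      rw [hy₀w, commutatorElement_eq_one_iff_commute.2 (mem_centralizer_singleton_iff.1 c.2.2).symm, mul_one]
  have hcard := Nat.card_congr (Equiv.sigmaFiberEquiv f).symm
  rw [Nat.card_sigma, Finset.sum_congr rfl (g := fun _ : Ez S => Nat.card ((S : Subgroup G) ⊓ centralizer ({x} : Set G) :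
    Subgroup G)) (fun w _ => (Nat.card_congr (Equiv.subtypeEquivRight fun y => Subtype.ext_iff)).trans (hxx w w.2)),
    Finset.sum_const, smul_eq_mul, Finset.card_univ, ← Nat.card_eq_fintype_card, card_Ez h, h.card] at hcard
  omega

theorem facts_planes : PiClosed.Facts (S : Subgroup G) := by
  haveI : Fact (Nat.Prime 2) := ⟨Nat.prime_two⟩
  set T := (S : Subgroup G)
  refine ⟨h.card, fun x hx => sq_mem_Ez h hx, fun x hx hxE f hf => ?_, ?_⟩
  · obtain ⟨y, hy, hxy⟩ := comm_surj' h hx hxE hf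
    refine ⟨y, hy, ?_⟩
    have h1 : ⁅y, x⁆ = f := by rw [← commutatorElement_inv, hxy, Ez_inv hf]
    have h2 : y * x * y⁻¹ = ⁅y, x⁆ * x := by rw [commutatorElement_def]; group
    rw [h2, h1]
    exact (commute_Ez hx hf).eq.symm
  let Q : Type u := ↥T ⧸ center ↥T
  haveI : IsMulCommutative Q := ⟨⟨fun a b => by
    induction a using QuotientGroup.induction_on with | _ a =>
    induction b using QuotientGroup.induction_on with | _ b =>
    refine QuotientGroup.eq.2 ?_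
    rw [show (a * b)⁻¹ * (b * a) = ⁅b⁻¹, a⁻¹⁆ by rw [commutatorElement_def]; group]
    exact h.comm_mem _ _⟩⟩
  letI : CommGroup Q := { (inferInstance : Group Q) with mul_comm := fun a b => mul_comm' a b }
  have hsq : ∀ q : Q, q * q = 1 := fun q => by
    induction q using QuotientGroup.induction_on with | _ a =>
    exact (QuotientGroup.eq_one_iff _).2 (h.sq_mem a)
  letI : Module (ZMod 2) (Additive Q) := AddCommGroup.zmodModule fun q => by
    rw [two_nsmul]
    exact hsq q.toMul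
  have hcard : Nat.card (Additive Q) = 16 := by
    have := Subgroup.card_eq_card_quotient_mul_card_subgroup (center ↥T)
    rw [h.card, h.card_center] at this
    have h' : 64 = Nat.card Q * 4 := this
    show Nat.card Q = 16
    omega
  haveI : Finite (Additive Q) := inferInstanceAs (Finite Q)
  haveI : Fintype (Additive Q) := Fintype.ofFinite _
  have hrank : Module.finrank (ZMod 2) (Additive Q) = 4 := by
    have h1 := Module.card_eq_pow_finrank (K := ZMod 2) (V := Additive Q)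
    rw [← Nat.card_eq_fintype_card, hcard, ZMod.card] at h1
    exact Nat.pow_right_injective le_rfl (h1.symm.trans (by norm_num : (16 : ℕ) = 2 ^ 4))
  let v := (Module.finBasisOfFinrankEq (ZMod 2) (Additive Q) hrank).equivFun
  let θ : ↥T →* Multiplicative (Fin 4 → ZMod 2) :=
    (AddMonoidHom.toMultiplicativeRight v.toAddMonoidHom).comp (QuotientGroup.mk' (center ↥T))
  refine ⟨θ, fun w => ?_, fun x => ?_⟩
  · obtain ⟨a, ha⟩ := QuotientGroup.mk_surjective (v.symm (Multiplicative.toAdd w)).toMul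
    refine ⟨a, ?_⟩
    show Multiplicative.ofAdd (v (Additive.ofMul (QuotientGroup.mk a : Q))) = w
    rw [show Additive.ofMul (QuotientGroup.mk a : Q) = v.symm (Multiplicative.toAdd w) by rw [ha]; rfl,
      v.apply_symm_apply]
    rfl
  · show Multiplicative.ofAdd (v (Additive.ofMul (QuotientGroup.mk x : Q))) = 1 ↔ _
    rw [ofAdd_eq_one, LinearEquiv.map_eq_zero_iff, ofMul_eq_zero, QuotientGroup.eq_one_iff, mem_Ez_iff h x.2]

end Cfsg.Agent.UFour
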