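import Cfsg.Agent.Lib.UFour.Members

/-!
# Members containing each other's Fitting subgroup

Two closed members containing each other's Fitting subgroup are equal if two primes divide the Fitting subgroup of one of
them, and the centres of its `O_r` draw the `O_r` of another member into it.
-/

set_option autoImplicit false
set_option linter.style.haveILetI false
set_option linter.unusedSectionVars false

namespace Cfsg.Agent.UFour

open Subgroup Cfsg.Agent Cfsg.Agent.Fusion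
open scoped commutatorElement Pointwise

universe u

variable {G : Type u} [Group G] [Finite G]

theorem le_cent_of_disjoint {A B : Subgroup G} (hA : A ≤ normalizer (B : Set G)) (hB : B ≤ normalizer (A : Set G))
    (h : A ⊓ B = ⊥) : A ≤ centralizer (B : Set G) := fun a ha => mem_centralizer_iff.2 fun b hb => by
  have h1 : ⁅a, b⁆ ∈ A ⊓ B := by
    refine mem_inf.2 ⟨?_, ?_⟩
    · rw [show ⁅a, b⁆ = a * (b * a⁻¹ * b⁻¹) by rw [commutatorElement_def]; group]
      exact mul_mem ha ((mem_normalizer_iff.1 (hB hb) _).1 (inv_mem ha))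
    · rw [commutatorElement_def]
      exact mul_mem ((mem_normalizer_iff.1 (hA ha) _).1 hb) (inv_mem hb)
  rw [h, Subgroup.mem_bot] at h1
  exact (commutatorElement_eq_one_iff_mul_comm.1 h1).symm

theorem inf_eq_bot_of_pGroup_coprime {r : ℕ} [Fact r.Prime] {A B : Subgroup G} (hA : IsPGroup r A)
    (hB : (Nat.card B).Coprime r) : A ⊓ B = ⊥ := by
  obtain ⟨j, hj⟩ := IsPGroup.iff_card.1 hA
  exact Subgroup.inf_eq_bot_of_coprime (by rw [hj]; exact hB.symm.pow_left j)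

theorem coprime_of_pGroup {r q : ℕ} [Fact r.Prime] [Fact q.Prime] (hrq : r ≠ q) {B : Subgroup G}
    (hB : IsPGroup q B) : (Nat.card B).Coprime r := by
  obtain ⟨j, hj⟩ := IsPGroup.iff_card.1 hB
  rw [hj]
  exact ((Nat.coprime_primes Fact.out Fact.out).2 hrq.symm).pow_left j

theorem Ox_le_cent {X : Subgroup G} {r q : ℕ} [Fact r.Prime] [Fact q.Prime] (hrq : r ≠ q) :
    SSF.Ox r X ≤ centralizer (SSF.Ox q X : Set G) :=
  le_cent_of_disjoint ((SSF.Ox_le r X).trans (SSF.self_le_normalizer_Ox q X))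
    ((SSF.Ox_le q X).trans (SSF.self_le_normalizer_Ox r X))
    (inf_eq_bot_of_pGroup_coprime (SSF.isPGroup_Ox r X) (coprime_of_pGroup hrq (SSF.isPGroup_Ox q X)))

theorem Ox_le_cent_Opc {X : Subgroup G} (r : ℕ) [Fact r.Prime] :
    SSF.Ox r X ≤ centralizer (SSF.Opc r X : Set G) :=
  le_cent_of_disjoint ((SSF.Ox_le r X).trans (SSF.self_le_normalizer_Opc r X))
    ((SSF.Opc_le r X).trans (SSF.self_le_normalizer_Ox r X))
    (inf_eq_bot_of_pGroup_coprime (SSF.isPGroup_Ox r X) (SSF.Opc_coprime r X))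

/-- The centre of `O_r`. -/
def Zc (r : ℕ) (M : Subgroup G) : Subgroup G := SSF.Ox r M ⊓ centralizer (SSF.Ox r M : Set G)

theorem Zc_le_Ox (r : ℕ) (M : Subgroup G) : Zc r M ≤ SSF.Ox r M := inf_le_left

theorem Zc_le (r : ℕ) (M : Subgroup G) : Zc r M ≤ M := inf_le_left.trans (SSF.Ox_le r M)

theorem normalizer_le_normalizer_Zc (r : ℕ) (M : Subgroup G) :
    normalizer (M : Set G) ≤ normalizer (Zc r M : Set G) := fun g hg => by
  have h := cj_eq_self (SSF.normalizer_le_normalizer_Ox r M hg)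
  exact mem_normalizer_iff_cj.2 (by rw [Zc, cj_inf, cj_centralizer, h])

theorem cj_Ox (r : ℕ) (M : Subgroup G) (g : G) : cj (SSF.Ox r M) g = SSF.Ox r (cj M g) := by
  have key : ∀ (X : Subgroup G) (k : G), cj (SSF.Ox r X) k ≤ SSF.Ox r (cj X k) := fun X k => by
    refine SSF.le_Ox (cj_mono (SSF.Ox_le r X) k) ?_ (isPGroup_cj (SSF.isPGroup_Ox r X) k)
    rw [← cj_normalizer]
    exact cj_mono (SSF.self_le_normalizer_Ox r X) k
  refine le_antisymm (key M g) ?_
  have h := cj_mono (key (cj M g) g⁻¹) g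
  rwa [cj_inv_cj, cj_cj_inv] at h

theorem Zc_cj (r : ℕ) (M : Subgroup G) (g : G) : cj (Zc r M) g = Zc r (cj M g) := by
  rw [Zc, Zc, cj_inf, cj_centralizer, cj_Ox]

theorem Zc_ne_bot {r : ℕ} [Fact r.Prime] {M : Subgroup G} (h : SSF.Ox r M ≠ ⊥) : Zc r M ≠ ⊥ :=
  SSF.meet_center (SSF.isPGroup_Ox r M) le_rfl le_normalizer h

variable {S : Sylow 2 G}

theorem mem_Zc {M : Subgroup G} (hM : Mem S M) (r : ℕ) : Mem S (Zc r M) :=
  (mem_Ox hM r).inf_normalized (norm_centralizer_of_norm (mem_Ox hM r).norm)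

theorem Mx.cj {M : Subgroup G} (hM : Mx S M) {n : G} (hn : n ∈ normalizer ((S : Subgroup G) : Set G)) :
    Mx S (Fusion.cj M n) := by
  refine ⟨hM.mem.cj hn, fun e => hM.ne ?_, fun Y hY h => ?_⟩
  · exact (Subgroup.map_eq_bot_iff_of_injective _ (MulAut.conj n).injective).1 e
  · have h1 := hM.max (Fusion.cj Y n⁻¹) (hY.cj (inv_mem hn)) ((cj_cj_inv M n).ge.trans (cj_mono h n⁻¹))
    exact (cj_inv_cj Y n).ge.trans (cj_mono h1 n)

/-- One half of the identification of the cores. -/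
theorem Opc_le_of_fitting {M N : Subgroup G} (hM : Cl S M) (hN : Cl S N)
    (hMN : ∀ r : ℕ, r.Prime → SSF.Ox r M ≤ N) (hNM : ∀ r : ℕ, r.Prime → SSF.Ox r N ≤ M) {p : ℕ} [Fact p.Prime]
    (hpM : SSF.Ox p M ≠ ⊥) (hpN : SSF.Ox p N ≠ ⊥) : SSF.Opc p N ≤ SSF.Opc p M := by
  set K := SSF.Opc p N
  have hp : p.Prime := Fact.out
  have hKc : SSF.Ox p M ≤ centralizer (K : Set G) := by
    refine centralizes_of_fitting (mem_Opc hN.mem p).solvable
      ((hMN p hp).trans (SSF.self_le_normalizer_Opc p N)) ?_ fun q hq => ?_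
    · obtain ⟨j, hj⟩ := IsPGroup.iff_card.1 (SSF.isPGroup_Ox p M)
      rw [hj]; exact (SSF.Opc_coprime p N).symm.pow_left j
    haveI := Fact.mk hq
    by_cases hqp : q = p
    · subst hqp
      have : SSF.Ox q K = ⊥ := le_bot_iff.1 ((inf_eq_bot_of_pGroup_coprime (SSF.isPGroup_Ox q K)
        (SSF.Opc_coprime q N)) ▸ le_inf le_rfl (SSF.Ox_le q K))
      rw [this]
      exact fun x _ => mem_centralizer_iff.2 fun y hy => by simp [Subgroup.mem_bot.1 hy]
    · refine le_trans ?_ (centralizer_le (SetLike.coe_subset_coe.2 (SSF.subnormal_le_Ox (SSF.Ox_le q K)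
        (SSF.self_le_normalizer_Ox q K) (SSF.Opc_le p N) (SSF.self_le_normalizer_Opc p N) (SSF.isPGroup_Ox q K))))
      exact le_cent_of_disjoint ((hMN p hp).trans (SSF.self_le_normalizer_Ox q N))
        ((hNM q hq).trans (SSF.self_le_normalizer_Ox p M))
        (inf_eq_bot_of_pGroup_coprime (SSF.isPGroup_Ox p M) (coprime_of_pGroup (Ne.symm hqp) (SSF.isPGroup_Ox q N)))
  have hKM : K ≤ M := hM.closed _ (mem_Ox hM.mem p) hpM (SSF.Ox_le p M) (SSF.normalizer_le_normalizer_Ox p M) K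
    (mem_Opc hN.mem p) ((le_centralizer_iff.1 hKc).trans (centralizer_le_normalizer _))
  refine SSF.bel hM.mem.solvable (hNM p hp) (SSF.isPGroup_Ox p N) hKM (SSF.Opc_coprime p N)
    (le_centralizer_iff.1 (Ox_le_cent_Opc p)) ?_
  refine (hN.closed _ (mem_Ox hN.mem p) hpN (SSF.Ox_le p N) (SSF.normalizer_le_normalizer_Ox p N) _ ?_
    (inf_le_right.trans (centralizer_le_normalizer _))).trans (SSF.self_le_normalizer_Opc p N)
  exact hM.mem.inf_normalized (norm_centralizer_of_norm (mem_Ox hN.mem p).norm)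

theorem Ox_ne_bot_of_fitting {M N : Subgroup G} (hN : Cl S N)
    (hMN : ∀ r : ℕ, r.Prime → SSF.Ox r M ≤ N) (hNM : ∀ r : ℕ, r.Prime → SSF.Ox r N ≤ M) {p : ℕ} [Fact p.Prime]
    (hpM : SSF.Ox p M ≠ ⊥) : SSF.Ox p N ≠ ⊥ := fun e => hpM (le_bot_iff.1 (e ▸
  SSF.le_Ox_of_centralizes hN.mem.solvable (hMN p Fact.out) (SSF.isPGroup_Ox p M) fun q hq => by
    haveI := Fact.mk hq
    by_cases hqp : q = p
    · subst hqp
      rw [e]
      exact fun x _ => mem_centralizer_iff.2 fun y hy => by simp [Subgroup.mem_bot.1 hy]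
    exact le_cent_of_disjoint ((hMN p Fact.out).trans (SSF.self_le_normalizer_Ox q N))
      ((hNM q hq).trans (SSF.self_le_normalizer_Ox p M))
      (inf_eq_bot_of_pGroup_coprime (SSF.isPGroup_Ox p M) (coprime_of_pGroup (Ne.symm hqp) (SSF.isPGroup_Ox q N)))))

/-- Closed members containing each other's Fitting subgroup. -/
theorem bender {M N : Subgroup G} (hM : Cl S M) (hN : Cl S N)
    (hMN : ∀ r : ℕ, r.Prime → SSF.Ox r M ≤ N) (hNM : ∀ r : ℕ, r.Prime → SSF.Ox r N ≤ M) {p q : ℕ} [Fact p.Prime]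
    [Fact q.Prime] (hpq : p ≠ q) (hpM : SSF.Ox p M ≠ ⊥) (hqM : SSF.Ox q M ≠ ⊥) : M = N := by
  have hpN := Ox_ne_bot_of_fitting hN hMN hNM hpM
  have hK : SSF.Opc p M = SSF.Opc p N :=
    le_antisymm (Opc_le_of_fitting hN hM hNM hMN hpN hpM) (Opc_le_of_fitting hM hN hMN hNM hpM hpN)
  have hne : SSF.Opc p M ≠ ⊥ := fun e => hqM (le_bot_iff.1 (e ▸ SSF.le_Opc (SSF.Ox_le q M)
    (SSF.self_le_normalizer_Ox q M) (coprime_of_pGroup hpq (SSF.isPGroup_Ox q M))))
  refine le_antisymm ?_ ?_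
  · exact hN.closed _ (mem_Opc hN.mem p) (hK ▸ hne) (SSF.Opc_le p N) (SSF.normalizer_le_normalizer_Opc p N) M
      hM.mem (hK ▸ SSF.self_le_normalizer_Opc p M)
  · exact hM.closed _ (mem_Opc hM.mem p) hne (SSF.Opc_le p M) (SSF.normalizer_le_normalizer_Opc p M) N
      hN.mem (hK.symm ▸ SSF.self_le_normalizer_Opc p N)

namespace Ctx

variable (c : Ctx S)
include c

/-- What centralises a centre inside a maximal member lies in it. -/
theorem inf_cent_Zc_le {M W : Subgroup G} (hM : Mx S M) (hW : Mem S W) {r : ℕ} [Fact r.Prime]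
    (hr : SSF.Ox r M ≠ ⊥) : W ⊓ centralizer (Zc r M : Set G) ≤ M := by
  have hZ := mem_Zc hM.mem r
  refine le_trans ?_ (c.mx_eq_od hM hZ (Zc_ne_bot hr) (le_normalizer.trans (normalizer_le_normalizer_Zc r M))).ge
  exact c.mem_le hZ (Zc_ne_bot hr) (hW.inf_normalized (norm_centralizer_of_norm hZ.norm))
    (inf_le_right.trans (centralizer_le_normalizer _))

theorem Ox_le_of_Zc {M W : Subgroup G} (hM : Mx S M) (hW : Mem S W)
    (hZ : ∀ r : ℕ, r.Prime → Zc r M ≤ W) {r q : ℕ} [Fact r.Prime] [Fact q.Prime] (hrq : r ≠ q)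
    (hr : SSF.Ox r M ≠ ⊥) (hq : SSF.Ox q M ≠ ⊥) : SSF.Ox r W ≤ M := by
  have h : Zc q M ≤ SSF.Opc r W := SSF.bel hW.solvable (hZ r Fact.out)
    ((SSF.isPGroup_Ox r M).to_le (Zc_le_Ox r M)) (hZ q Fact.out)
    (coprime_of_pGroup hrq ((SSF.isPGroup_Ox q M).to_le (Zc_le_Ox q M)))
    ((Zc_le_Ox q M).trans ((Ox_le_cent hrq.symm).trans (centralizer_le (SetLike.coe_subset_coe.2 (Zc_le_Ox r M)))))
    ((c.inf_cent_Zc_le hM hW hr).trans (le_normalizer.trans (normalizer_le_normalizer_Zc q M)))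
  exact (le_inf (SSF.Ox_le r W) ((Ox_le_cent_Opc r).trans (centralizer_le (SetLike.coe_subset_coe.2 h)))).trans
    (c.inf_cent_Zc_le hM hW hq)

end Ctx

end Cfsg.Agent.UFour
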