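import Cfsg.Agent.Lib.UFour.CharOdd
import Cfsg.Agent.Lib.Char.DihedralOrder
import Cfsg.Agent.Lib.Char.DihedralColumns
import Cfsg.Agent.Lib.Char.FrobSylowThree
import Cfsg.Agent.Lib.Char.BlockLink
import Cfsg.Agent.Lib.Char.Q8Columns
import Cfsg.Agent.Lib.Char.Ortho

/-!
# The principal 2-block against a large odd p-group over an involution
-/

set_option autoImplicit false
set_option linter.unusedSectionVars false
set_option linter.style.haveILetI false

open Cfsg Cfsg.Agent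
open scoped ComplexConjugate

namespace Cfsg.Agent.UFour

universe u

variable {G : Type u} [Group G]

/-- The multiplicity of a sign times the trivial character on `⟨z⟩ × P`. -/
theorem two_card_dvd [Fintype G] {z : G} (hz : z * z = 1) (hz1 : z ≠ 1) (P : Subgroup G) [Fintype ↥P]
    (hcomm : ∀ y ∈ P, Commute z y) {χ : G → ℂ} (h : IsCharacter G χ)
    {ε a d : ℤ} (hε : ε = 1 ∨ ε = -1) (ha : χ z = a) (hd : χ 1 = d)
    (hy : ∀ y ∈ P, y ≠ 1 → χ (z * y) = (ε : ℂ) * χ y) :
    ((2 * Nat.card ↥P : ℕ) : ℤ) ∣ d - ε * a := by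
  classical
  haveI : Fintype ↥(Subgroup.zpowers z) := Fintype.ofFinite _
  have hzo : orderOf z = 2 := orderOf_eq_prime (by rw [sq, hz]) hz1
  let f : ↥(Subgroup.zpowers z) × ↥P →* G :=
    { toFun := fun c => (c.1 : G) * c.2
      map_one' := by simp
      map_mul' := fun b c => by
        obtain ⟨i, hi⟩ := Subgroup.mem_zpowers_iff.1 c.1.2
        have hcm : Commute (b.2 : G) (c.1 : G) := hi ▸ ((hcomm _ b.2.2).zpow_left i).symm
        simp only [Prod.fst_mul, Prod.snd_mul, Subgroup.coe_mul]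
        rw [mul_assoc (b.1 : G) b.2, ← mul_assoc (b.2 : G) c.1, hcm.eq]
        simp only [mul_assoc] }
  have hzcases : ∀ c : ↥(Subgroup.zpowers z), (c : G) = 1 ∨ (c : G) = z := fun c => by
    obtain ⟨i, hi⟩ := Subgroup.mem_zpowers_iff.1 c.2
    rw [← hi, ← zpow_mod_orderOf, hzo]
    rcases Int.emod_two_eq_zero_or_one i with e | e <;> simp [e]
  have hεC : (ε : ℂ) * ε = 1 := by rcases hε with rfl | rfl <;> simp
  let l : ↥(Subgroup.zpowers z) × ↥P →* ℂˣ :=
    { toFun := fun c => if (c.1 : G) = 1 then 1 else Units.mkOfMulEqOne (-(ε : ℂ)) (-(ε : ℂ)) (by rw [neg_mul_neg, hεC])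
      map_one' := by simp
      map_mul' := fun b c => by
        rcases hzcases b.1 with e | e <;> rcases hzcases c.1 with e' | e' <;>
          simp only [Prod.fst_mul, Subgroup.coe_mul, e, e', mul_one, one_mul, hz, hz1, if_true, if_false]
        refine Units.ext ?_
        show (1 : ℂ) = -(ε : ℂ) * -(ε : ℂ)
        rw [neg_mul_neg, hεC] }
  obtain ⟨n, hn⟩ := Char.classInner_natCast (Char.isCharacter_comp f h) (Char.isCharacter_linear l)
  rw [classInner, Fintype.sum_prod_type] at hn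
  have hpair : ∀ F : ↥(Subgroup.zpowers z) → ℂ, ∑ c, F c = F 1 + F ⟨z, Subgroup.mem_zpowers z⟩ := fun F => by
    refine Fintype.sum_eq_add (1 : ↥(Subgroup.zpowers z)) ⟨z, Subgroup.mem_zpowers z⟩
      (fun e => hz1 (congrArg Subtype.val e).symm) fun c hc => ?_
    rcases hzcases c with e | e
    · exact absurd (Subtype.ext e : c = 1) hc.1
    · exact absurd (Subtype.ext e : c = ⟨z, Subgroup.mem_zpowers z⟩) hc.2
  rw [hpair, ← Finset.sum_add_distrib] at hn
  have hterm : ∀ y : ↥P, f ((1 : ↥(Subgroup.zpowers z)), y) = y ∧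
      f ((⟨z, Subgroup.mem_zpowers z⟩ : ↥(Subgroup.zpowers z)), y) = z * y := fun y =>
    ⟨by show (1 : G) * y = y; rw [one_mul], rfl⟩
  rw [Finset.sum_eq_single (1 : ↥P) (fun y _ hy1 => ?_) (fun h => absurd (Finset.mem_univ _) h)] at hn
  swap
  · simp only [Function.comp_apply, (hterm y).1, (hterm y).2]
    simp [l, hz1, hy y y.2 fun e => hy1 (Subtype.ext e)]
    linear_combination -(χ (y : G)) * hεC
  simp only [Function.comp_apply, (hterm 1).1, (hterm 1).2] at hn
  simp [l, hz1, ha, hd] at hn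
  rw [show Fintype.card ↥(Subgroup.zpowers z) = 2 by rw [← Nat.card_eq_fintype_card, Nat.card_zpowers, hzo],
    ← Nat.card_eq_fintype_card] at hn
  refine ⟨n, ?_⟩
  have h2 : ((d - ε * a : ℤ) : ℂ) = (((2 * Nat.card ↥P : ℕ) : ℤ) * (n : ℤ) : ℤ) := by
    have hc : (Nat.card ↥P : ℂ) ≠ 0 := Nat.cast_ne_zero.2 Nat.card_pos.ne'
    field_simp at hn
    push_cast at hn ⊢
    linear_combination hn
  exact_mod_cast h2

open scoped Classical in
/-- The principal block of a simple group excludes such a large odd p-group over an involution. -/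
theorem false_of_chars [Finite G] [IsSimpleGroup G] (hna : ¬ IsMulCommutative G) {z s : G} (hz : orderOf z = 2)
    (hs : s * s = z) (hinv : ∃ g : G, g * s * g⁻¹ = s⁻¹)
    (T : Subgroup G) (hTC : T ≤ Subgroup.centralizer ({z} : Set G))
    (hTn : Subgroup.centralizer ({z} : Set G) ≤ Subgroup.normalizer (T : Set G)) (hTo : Odd (Nat.card ↥T))
    (hTi : (T.subgroupOf (Subgroup.centralizer ({z} : Set G))).index ≤ 320)
    (hV : ∃ V : Subgroup ↥(Subgroup.centralizer ({s} : Set G)), V.Normal ∧ Odd (Nat.card ↥V) ∧ V.index ≤ 16)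
    (hpair : ∀ c u v : G, Commute c s → Odd (orderOf c) → IsConj z u → IsConj z v → u * v ≠ s * c)
    {p : ℕ} [Fact p.Prime] (hp2 : p ≠ 2) (P : Subgroup G) (hP : IsPGroup p ↥P) (hPT : P ≤ T)
    (hbig : 625 ≤ Nat.card ↥P)
    (hcen : ∀ y ∈ P, y ≠ 1 → Subgroup.centralizer ({y} : Set G) ≤ Subgroup.centralizer ({z} : Set G))
    (huniq : ∀ y ∈ P, y ≠ 1 → ∀ g : G, Commute (g * z * g⁻¹) y → g * z * g⁻¹ = z) : False := by
  haveI : Fintype G := Fintype.ofFinite G
  haveI : Fintype ↥P := Fintype.ofFinite _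
  haveI : Fact (Nat.Prime 2) := ⟨Nat.prime_two⟩
  obtain ⟨M, hM⟩ := Char.exists_pModular Nat.prime_two
  obtain ⟨V, hVn, hVo, hVi⟩ := hV
  have hzz : z * z = 1 := by rw [← sq, ← hz]; exact pow_orderOf_eq_one z
  have hz1 : z ≠ 1 := fun e => by rw [e, orderOf_one] at hz; omega
  have hs4 : orderOf s = 2 ^ 2 := orderOf_eq_prime_pow (n := 1)
    (fun e => hz1 (by rw [← hs, ← sq]; simpa using e)) (by rw [show 2 ^ (1 + 1) = 2 * 2 from rfl, pow_mul, sq s, hs, sq, hzz])
  -- the two sections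
  have hTK : ¬ 2 ∣ Nat.card ↥(T.subgroupOf (Subgroup.centralizer ({z} : Set G))) := by
    rw [Nat.card_congr (Subgroup.subgroupOfEquivOfLe hTC).toEquiv]
    exact Nat.not_even_iff_odd.2 hTo ∘ (even_iff_two_dvd.2 ·)
  obtain ⟨hzconst, hznorm⟩ := principal_section hM ⟨1, by rw [hz, pow_one]⟩ _
    ((Subgroup.normal_subgroupOf_iff_le_normalizer hTC).2 hTn) hTK
  obtain ⟨-, hsnorm⟩ := principal_section hM ⟨2, hs4⟩ V hVn
    (Nat.not_even_iff_odd.2 hVo ∘ (even_iff_two_dvd.2 ·))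
  set B : Finset (IrrCharacter G) := Finset.univ.filter (fun χ => χ ∈ principalBlock M G) with hBdef
  have hmemB : ∀ χ : IrrCharacter G, χ ∈ B ↔ χ ∈ principalBlock M G := fun χ => by simp [hBdef]
  -- integral values
  choose a ha using fun χ : IrrCharacter G =>
    Char.char_involution_int (Char.irr_isCharacter χ.2) (show z ^ 2 = 1 by rw [sq, hzz])
  choose b hb using fun χ : IrrCharacter G =>
    char_four_int (Char.irr_isCharacter χ.2) (show s ^ 4 = 1 by
      have e := pow_orderOf_eq_one s; rwa [hs4] at e) hinv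
  let d : IrrCharacter G → ℤ := fun χ => (Char.deg (χ : G → ℂ) : ℤ)
  have hd : ∀ χ : IrrCharacter G, (χ : G → ℂ) 1 = (d χ : ℂ) := fun χ => by
    rw [Char.char_one_eq_deg (Char.irr_isCharacter χ.2)]; simp [d]
  have hA : ∑ χ ∈ B, a χ * a χ ≤ 320 := by
    have e : ∑ χ ∈ B, ((a χ * a χ : ℤ) : ℝ) ≤ ((320 : ℕ) : ℝ) := by
      refine le_trans (le_of_eq ?_) (hznorm.trans (Nat.cast_le.2 hTi))
      refine Finset.sum_congr rfl fun χ _ => ?_
      rw [ha χ, Complex.norm_intCast, sq_abs]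
      push_cast; ring
    exact_mod_cast e
  have hB16 : ∑ χ ∈ B, b χ * b χ ≤ 16 := by
    have e : ∑ χ ∈ B, ((b χ * b χ : ℤ) : ℝ) ≤ ((16 : ℕ) : ℝ) := by
      refine le_trans (le_of_eq ?_) (hsnorm.trans (Nat.cast_le.2 hVi))
      refine Finset.sum_congr rfl fun χ _ => ?_
      rw [hb χ, Complex.norm_intCast, sq_abs]
      push_cast; ring
    exact_mod_cast e
  -- the class equation
  have hprod : ∀ g k : G, ∑ χ ∈ B, (b χ : ℂ) * (χ : G → ℂ) (g * z * g⁻¹ * (k * z * k⁻¹)) = 0 := by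
    intro g k
    obtain ⟨w, c, hwc, hcomm, hw, hc⟩ := Char.exists_isPPart Nat.prime_two (g * z * g⁻¹ * (k * z * k⁻¹))
    have hnc : ¬ IsConj w s := by
      intro h
      obtain ⟨r, hr⟩ := isConj_iff.1 h
      refine hpair (r * c * r⁻¹) (r * g * z * (r * g)⁻¹) (r * k * z * (r * k)⁻¹) ?_ ?_
        (isConj_iff.2 ⟨_, rfl⟩) (isConj_iff.2 ⟨_, rfl⟩) ?_
      · rw [← hr, ← MulAut.conj_apply, ← MulAut.conj_apply]
        exact (hcomm.map (MulAut.conj r)).symm
      · rw [← MulAut.conj_apply, MulEquiv.orderOf_eq, ← Nat.not_even_iff_odd, even_iff_two_dvd]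
        exact hc
      · calc r * g * z * (r * g)⁻¹ * (r * k * z * (r * k)⁻¹) = r * (g * z * g⁻¹ * (k * z * k⁻¹)) * r⁻¹ := by group
          _ = r * (w * c) * r⁻¹ := by rw [hwc]
          _ = s * (r * c * r⁻¹) := by rw [← hr]; group
    have h0 := Char.sum_block_column_orth hM (Char.isPBlock_principalBlock (G := G) M)
      (⟨c, hwc, hcomm, hw, hc⟩ : IsPPart 2 (g * z * g⁻¹ * (k * z * k⁻¹)) w)
      (⟨1, mul_one s, Commute.one_right s, ⟨2, hs4⟩, by simp⟩ : IsPPart 2 s s) hnc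
    refine Eq.trans ?_ h0
    refine Finset.sum_congr rfl fun χ _ => ?_
    rw [hb χ, map_intCast]
  have heq : ∑ χ ∈ B, (b χ : ℂ) * ((a χ : ℂ) ^ 2 / (d χ : ℂ)) = 0 := by
    have h : ((Nat.card G : ℂ) ^ 2) * ∑ χ ∈ B, (b χ : ℂ) * ((a χ : ℂ) ^ 2 / (d χ : ℂ)) = 0 := by
      rw [Finset.mul_sum, Finset.sum_congr rfl fun χ _ => show
        (Nat.card G : ℂ) ^ 2 * ((b χ : ℂ) * ((a χ : ℂ) ^ 2 / (d χ : ℂ))) =
          ∑ g : G, ∑ k : G, (b χ : ℂ) * (χ : G → ℂ) (g * z * g⁻¹ * (k * z * k⁻¹)) by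
        simp only [← Finset.mul_sum]
        rw [Char.sum_pair_irr χ z, ha, hd]; ring, Finset.sum_comm]
      refine Finset.sum_eq_zero fun g _ => ?_
      rw [Finset.sum_comm]
      exact Finset.sum_eq_zero fun k _ => hprod g k
    exact (mul_eq_zero.1 h).resolve_left (pow_ne_zero 2 (Nat.cast_ne_zero.2 Nat.card_pos.ne'))
  -- the trivial character
  set one : IrrCharacter G := Char.irrOne with hone
  have honeB : one ∈ B := (hmemB _).2 (Char.irrOne_mem (Char.pmod_prime hM))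
  have h1a : a one = 1 := by
    have e := ha one
    rw [hone, Char.irrOne_apply] at e
    exact_mod_cast e.symm
  have h1b : b one = 1 := by
    have e := hb one
    rw [hone, Char.irrOne_apply] at e
    exact_mod_cast e.symm
  have h1d : d one = 1 := by
    have e := hd one
    rw [hone, Char.irrOne_apply] at e
    exact_mod_cast e.symm
  -- the degrees
  have hbig' : ∀ χ ∈ B.erase one, 1232 ≤ d χ ∧ |b χ| ≤ 3 := by
    intro χ hχ
    obtain ⟨hne, hχB⟩ := Finset.mem_erase.1 hχ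
    have hχ0 := (hmemB χ).1 hχB
    obtain ⟨ε, hε, hsgn⟩ := exists_sign hp2 hz P hP hcen huniq χ
    have hcomm : ∀ y ∈ P, Commute z y := fun y hy =>
      (Subgroup.mem_centralizer_singleton_iff.1 (hTC (hPT hy))).symm
    obtain ⟨m, hm⟩ := two_card_dvd hzz hz1 P hcomm (Char.irr_isCharacter χ.2) hε (ha χ) (hd χ) hsgn
    have hdpos : 0 < d χ := by have := Char.deg_pos χ.2; simp only [d]; omega
    have hna' : |a χ| < d χ := by
      have hle : |a χ| ≤ d χ := by
        have e := Char.char_norm_le (Char.irr_isCharacter χ.2) z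
        rw [ha, hd, Complex.norm_intCast, Complex.intCast_re] at e
        exact_mod_cast e
      refine lt_of_le_of_ne hle fun e => hne (Subtype.ext ?_)
      have hn : ‖(χ : G → ℂ) z‖ = ‖(χ : G → ℂ) 1‖ := by
        rw [ha, hd, Complex.norm_intCast, Complex.norm_intCast]
        rw [← abs_of_pos hdpos] at e
        exact_mod_cast e
      by_contra hne'
      refine hna ⟨⟨fun g k => ?_⟩⟩
      have hcent : ∀ g : G, g * z * g⁻¹ = z := fun g => by
        have hker : z * (g * z * g⁻¹) ∈ Char.blockKerSub {χ} := fun ψ hψ => by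
          rw [Set.mem_singleton_iff.1 hψ]
          exact apply_eq_one_of_norm (Char.irr_isCharacter χ.2) hzz hn g
        haveI := Char.blockKerSub_normal ({χ} : Set (IrrCharacter G))
        rcases IsSimpleGroup.eq_bot_or_eq_top_of_normal (Char.blockKerSub ({χ} : Set (IrrCharacter G))) inferInstance with hK | hK
        · rw [hK, Subgroup.mem_bot] at hker
          rw [← inv_eq_of_mul_eq_one_right hker, inv_eq_of_mul_eq_one_right hzz]
        · refine absurd (Char.eq_one_of_apply_eq (t := z) (fun K hKn hzK => ?_) ?_) hne'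
          · exact (IsSimpleGroup.eq_bot_or_eq_top_of_normal K hKn).resolve_left fun hb =>
              hz1 (Subgroup.mem_bot.1 (hb ▸ hzK))
          · exact (hK ▸ Subgroup.mem_top z : z ∈ Char.blockKerSub {χ}) χ rfl
      have hzc : z ∈ Subgroup.center G := Subgroup.mem_center_iff.2 fun g =>
        mul_inv_eq_iff_eq_mul.1 (hcent g)
      have htop : Subgroup.center G = ⊤ := (IsSimpleGroup.eq_bot_or_eq_top_of_normal _ inferInstance).resolve_left
        fun hb => hz1 (Subgroup.mem_bot.1 (hb ▸ hzc))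
      exact (Subgroup.mem_center_iff.1 (htop ▸ Subgroup.mem_top g : g ∈ Subgroup.center G) k).symm
    have haa : a χ * a χ ≤ 320 :=
      le_trans (Finset.single_le_sum (f := fun χ => a χ * a χ) (fun i _ => mul_self_nonneg _) hχB) hA
    have hbb : b χ * b χ ≤ 15 := by
      have e := Finset.sum_le_sum_of_subset_of_nonneg (Finset.erase_subset one B)
        (f := fun χ => b χ * b χ) (fun i _ _ => mul_self_nonneg _)
      rw [← Finset.add_sum_erase B _ honeB, h1b] at hB16
      have e1 := Finset.single_le_sum (f := fun χ => b χ * b χ) (fun i _ => mul_self_nonneg _) hχ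
      linarith
    have ha17 : |a χ| ≤ 17 := by
      have : |a χ| * |a χ| ≤ 320 := by rwa [abs_mul_abs_self]
      nlinarith [abs_nonneg (a χ)]
    have hb3 : |b χ| ≤ 3 := by
      have : |b χ| * |b χ| ≤ 15 := by rwa [abs_mul_abs_self]
      nlinarith [abs_nonneg (b χ)]
    refine ⟨?_, hb3⟩
    have hεa : |ε * a χ| = |a χ| := by rcases hε with rfl | rfl <;> simp
    have hlt := abs_lt.1 (hεa ▸ hna' : |ε * a χ| < d χ)
    have hle := abs_le.1 (hεa ▸ ha17 : |ε * a χ| ≤ 17)
    have hcard : (625 : ℤ) ≤ (Nat.card ↥P : ℤ) := by exact_mod_cast hbig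
    have hm1 : 1 ≤ m := by
      by_contra hm0
      push_cast at hm
      nlinarith
    push_cast at hm
    nlinarith
  -- the contradiction
  have hre := congrArg Complex.re heq
  rw [Complex.re_sum, Complex.zero_re] at hre
  have hre' : ∑ χ ∈ B, ((b χ : ℝ) * ((a χ : ℝ) ^ 2 / (d χ : ℝ))) = 0 := by
    refine Eq.trans (Finset.sum_congr rfl fun χ _ => ?_) hre
    rw [show ((b χ : ℂ) * ((a χ : ℂ) ^ 2 / (d χ : ℂ))) = (((b χ : ℝ) * ((a χ : ℝ) ^ 2 / (d χ : ℝ)) : ℝ) : ℂ) by
      push_cast; ring, Complex.ofReal_re]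
  rw [← Finset.add_sum_erase B _ honeB, h1a, h1b, h1d] at hre'
  have hlow : ∑ χ ∈ B.erase one, -((3 : ℝ) / 1232 * (a χ : ℝ) ^ 2) ≤
      ∑ χ ∈ B.erase one, ((b χ : ℝ) * ((a χ : ℝ) ^ 2 / (d χ : ℝ))) := by
    refine Finset.sum_le_sum fun χ hχ => ?_
    obtain ⟨h1, h2⟩ := hbig' χ hχ
    have h1' : (1232 : ℝ) ≤ (d χ : ℝ) := by exact_mod_cast h1
    have h2' : (-3 : ℝ) ≤ (b χ : ℝ) := by exact_mod_cast (abs_le.1 h2).1
    have h3 : (a χ : ℝ) ^ 2 / (d χ : ℝ) ≤ (a χ : ℝ) ^ 2 / 1232 :=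
      div_le_div_of_nonneg_left (sq_nonneg _) (by norm_num) h1'
    have h4 : 0 ≤ (a χ : ℝ) ^ 2 / (d χ : ℝ) := div_nonneg (sq_nonneg _) (by linarith)
    nlinarith
  rw [Finset.sum_neg_distrib, ← Finset.mul_sum] at hlow
  have hA' : ∑ χ ∈ B.erase one, (a χ : ℝ) ^ 2 ≤ 319 := by
    rw [← Finset.add_sum_erase B _ honeB, h1a] at hA
    have e : ∑ χ ∈ B.erase one, a χ * a χ ≤ 319 := by linarith
    have e2 : ((∑ χ ∈ B.erase one, a χ * a χ : ℤ) : ℝ) ≤ 319 := by exact_mod_cast e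
    push_cast at e2
    simpa [sq] using e2
  norm_num at hre'
  nlinarith

end Cfsg.Agent.UFour
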