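import Cfsg.Agent.Lib.UFour.Unlinked
import Cfsg.Agent.Lib.UFour.CharTwo

/-!
# The inverted `O_p` of `O(C(z))`

Its elements have centralisers inside `C(z)`; hence it has order less than six hundred and twenty-five.
-/

set_option autoImplicit false
set_option linter.style.haveILetI false
set_option linter.unusedSectionVars false

namespace Cfsg.Agent.UFour

open Subgroup Cfsg.Agent Cfsg.Agent.Fusion
open scoped commutatorElement Pointwise

universe u

variable {G : Type u} [Group G] [Finite G] {S : Sylow 2 G}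

/-- The elements killed by `p` of an inverted subgroup. -/
theorem Iv.exists_omega (c : Ctx S) {z : G} (hz : z ∈ Ez S) {p : ℕ} [Fact p.Prime] {P : Subgroup G}
    (hP : Iv S z P) (hPp : IsPGroup p P) :
    ∃ A : Subgroup G, Iv S z A ∧ (∀ a, a ∈ A ↔ a ∈ P ∧ a ^ p = 1) ∧
      normalizer (P : Set G) ≤ normalizer (A : Set G) := by
  let A : Subgroup G :=
    { carrier := {a | a ∈ P ∧ a ^ p = 1}
      one_mem' := ⟨one_mem _, one_pow _⟩
      mul_mem' := fun {a b} ha hb => ⟨mul_mem ha.1 hb.1, by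
        rw [(hP.commute c hz ha.1 hb.1).mul_pow, ha.2, hb.2, one_mul]⟩
      inv_mem' := fun {a} ha => ⟨inv_mem ha.1, by rw [inv_pow, ha.2, inv_one]⟩ }
  have hle : A ≤ P := fun a ha => ha.1
  have hn : normalizer (P : Set G) ≤ normalizer (A : Set G) := fun g hg => mem_normalizer_fintype fun a ha =>
    ⟨(mem_normalizer_iff.1 hg a).1 ha.1, by rw [conj_pow, ha.2, mul_one, mul_inv_cancel]⟩
  obtain ⟨x, hx, hx1⟩ : ∃ x ∈ P, x ≠ 1 := by
    by_contra hh; push Not at hh
    exact hP.ne ((Subgroup.eq_bot_iff_forall _).2 hh)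
  obtain ⟨k, hk, hkp⟩ := (hP.real hx hx1).order_p hPp hx
  have hxA : x ^ k ∈ A := ⟨pow_mem hx k, hkp⟩
  exact ⟨A, hP.sub ⟨odd_of_le hle hP.mem.odd, hP.mem.norm.trans hn⟩ (fun e => hk.ne (Subgroup.mem_bot.1 (e ▸ hxA)))
    hle, fun a => Iff.rfl, hn⟩

namespace Ctx

variable (c : Ctx S)
include c

/-- The elements of an inverted `O_p` have centralisers inside `C(z)`. -/
theorem cent_le {z : G} (hz : z ∈ Ez S) (hz1 : z ≠ 1) (hM : Mx S (th z)) {p : ℕ} [Fact p.Prime]
    (hP : Iv S z (SSF.Ox p (th z))) :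
    p ^ 4 ≤ Nat.card (SSF.Ox p (th z)) ∧ ∀ y ∈ SSF.Ox p (th z), y ≠ 1 →
      centralizer ({y} : Set G) ≤ centralizer ({z} : Set G) ∧
      ∀ g : G, Commute (g * z * g⁻¹) y → g * z * g⁻¹ = z := by
  set P := SSF.Ox p (th z) with hPdef
  have hPp : IsPGroup p P := SSF.isPGroup_Ox p _
  have hzi : z⁻¹ = z := Ez_inv hz
  obtain ⟨A, hA, hAm, hAn⟩ := hP.exists_omega c hz hPp
  have hAP : A ≤ P := fun a ha => ((hAm a).1 ha).1
  have hAp : ∀ a ∈ A, a ^ p = 1 := fun a ha => ((hAm a).1 ha).2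
  have hTA : th z ≤ normalizer (A : Set G) := (SSF.self_le_normalizer_Ox p _).trans hAn
  obtain ⟨hU, hUp, -, -⟩ := Uf_data c hz hz1 hA hAp
  set U := Uf p A
  have hUT : U ≤ th z :=
    le_sup_left.trans (hM.max _ (hU.sup hM.mem (hTA.trans (Uf_norm p A))) le_sup_right)
  have hMA : th z = od (normalizer (A : Set G)) := c.mx_eq_od hM hA.mem hA.ne hTA
  have hcA : od (centralizer (A : Set G)) ≤ centralizer ({z} : Set G) :=
    ((c.mem_le hA.mem hA.ne (mem_od (norm_centralizer_of_norm hA.mem.norm))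
      ((od_le _).trans (centralizer_le_normalizer _))).trans hMA.ge).trans (th_le z)
  have key : ∀ b ∈ A, b ≠ 1 → centralizer ({b} : Set G) ≤ centralizer ({z} : Set G) := by
    intro b hb hb1
    obtain ⟨hod, hsplit⟩ := (hA.real hb hb1).npc c hz hz1
    refine hsplit.trans (sup_le ?_ inf_le_right)
    set X := od (centralizer ({b} : Set G)) with hX
    have hXo : Odd (Nat.card X) := od_odd _
    have hzX : z ∈ normalizer (X : Set G) := od_norm _ (mem_cent_singleton.2 (hA.real hb hb1).comm)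
    have hAX : A ≤ X := fun a ha => hod a (hA.commute c hz ha hb) (orderOf_odd hA.mem.odd ha)
    have hzOx : ∀ q : ℕ, z ∈ normalizer (SSF.Ox q X : Set G) := fun q => SSF.normalizer_le_normalizer_Ox q X hzX
    set Q₁ := SSF.Ox p X ⊔ A with hQ₁
    have hQX : Q₁ ≤ X := sup_le (SSF.Ox_le p X) hAX
    have hQp : IsPGroup p Q₁ := (SSF.isPGroup_Ox p X).to_sup_of_normal_left' (isPGroup_of_pow hAp)
      (hAX.trans (SSF.self_le_normalizer_Ox p X))
    have hzA : z ∈ normalizer (A : Set G) := Ez_le_normalizer hA.mem hz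
    have hzQ : z ∈ normalizer (Q₁ : Set G) := mem_normalizer_iff_cj.2 (by
      rw [hQ₁, cj_sup, cj_eq_self (hzOx p), cj_eq_self hzA])
    set P₀ := Q₁ ⊓ centralizer ({z} : Set G) with hP₀
    have hAP₀ : A ≤ P₀ := le_inf le_sup_right hA.cent
    have hPQ : P₀ = Q₁ := by
      by_contra hne
      obtain ⟨g, hg, hgP⟩ := SetLike.exists_of_lt (SylIn.normalizer_growth inf_le_left hne hQp)
      obtain ⟨hgQ, hgN⟩ := mem_inf.1 hg
      set g' := g⁻¹ * (z * g * z) with hg'
      have hg'Q : g' ∈ Q₁ := mul_mem (inv_mem hgQ) (by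
        have := (mem_normalizer_iff.1 hzQ g).1 hgQ
        rwa [hzi] at this)
      have hg'A : g' ∈ centralizer (A : Set G) := mem_centralizer_iff.2 fun a ha => by
        have h1 : z * a * z⁻¹ = a := conj_eq_of_commute (mem_cent_singleton.1 (hA.cent ha)).symm
        have h2 : z * (g * a * g⁻¹) * z⁻¹ = g * a * g⁻¹ := conj_eq_of_commute
          (mem_cent_singleton.1 ((mem_normalizer_iff.1 hgN a).1 (hAP₀ ha)).2).symm
        refine (mul_inv_eq_iff_eq_mul.1 (?_ : g' * a * g'⁻¹ = a)).symm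
        rw [hg', show g⁻¹ * (z * g * z) * a * (g⁻¹ * (z * g * z))⁻¹ =
          g⁻¹ * (z * (g * (z * a * z⁻¹) * g⁻¹) * z⁻¹) * g by group, h1, h2]
        group
      have hcA' : X ⊓ centralizer (A : Set G) ≤ od (centralizer (A : Set G)) := by
        refine le_od inf_le_right (fun x hx => mem_normalizer_of_cj_le ?_) (odd_of_le inf_le_left hXo)
        rw [cj_inf, cj_eq_self (od_norm _ (centralizer_le (Set.singleton_subset_iff.2 hb) hx)),
          cj_eq_self (le_normalizer hx)]
      have hcomm : Commute z g' := (mem_cent_singleton.1 (hcA (hcA' (mem_inf.2 ⟨hQX hg'Q, hg'A⟩)))).symm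
      have hinv : z * g' * z⁻¹ = g'⁻¹ := by
        rw [hg', show z * (g⁻¹ * (z * g * z)) * z⁻¹ = z * g⁻¹ * z * g by group, mul_inv_rev, mul_inv_rev,
          mul_inv_rev, inv_inv, hzi, mul_assoc z g⁻¹ z]
      rw [conj_eq_of_commute hcomm] at hinv
      have h1 := eq_one_of_inv_eq hinv.symm (orderOf_odd hXo (hQX hg'Q))
      refine hgP (mem_inf.2 ⟨hgQ, mem_cent_singleton.2 (commute_of_conj_eq (e := z) ?_).symm⟩)
      rw [hzi]; exact (inv_mul_eq_one.1 h1).symm
    have hX' : zpowers z ≤ centralizer (X : Set G) := by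
      refine centralizes_of_fitting (Lie.CoreFun.solvable_of_odd hXo) (zpowers_le.2 hzX) ?_ fun q hq => ?_
      · rw [Nat.card_zpowers, PiClosed.orderOf_involution hz.2.1 hz1]
        exact Nat.coprime_two_left.2 hXo
      rw [zpowers_le]
      suffices h : SSF.Ox q X ≤ centralizer ({z} : Set G) from
        mem_centralizer_iff.2 fun x hx => (mem_cent_singleton.1 (h hx)).eq
      haveI := Fact.mk hq
      by_cases hqp : q = p
      · subst hqp
        exact (le_sup_left.trans hPQ.ge).trans inf_le_right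
      · exact ((SSF.le_Opc (SSF.Ox_le q X) (SSF.self_le_normalizer_Ox q X)
          (coprime_of_pGroup (Ne.symm hqp) (SSF.isPGroup_Ox q X))).trans
          ((sg_le_Uf hb hb1).trans hUT)).trans (th_le z)
    exact fun x hx => mem_cent_singleton.2
      (mem_centralizer_iff.1 (hX' (mem_zpowers z)) x hx : Commute x z)
  refine ⟨(hA.card_ge c hz hz1 hAp).trans (card_le_of_le hAP), fun y hy hy1 => ?_⟩
  obtain ⟨k, hk, hkp⟩ := (hP.real hy hy1).order_p hPp hy
  have hbA : y ^ k ∈ A := (hAm _).2 ⟨pow_mem hy k, hkp⟩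
  have hC : centralizer ({y} : Set G) ≤ centralizer ({y ^ k} : Set G) := fun x hx =>
    mem_cent_singleton.2 ((mem_cent_singleton.1 hx).pow_right k)
  refine ⟨hC.trans (key _ hbA hk.ne), fun g hg => ?_⟩
  have h1 : g * z * g⁻¹ ∈ centralizer ({y ^ k} : Set G) := hC (mem_cent_singleton.2 hg)
  refine (hk.cent_unique c hz hz1 (mem_cent_singleton.1 h1) (mem_cent_singleton.1 (key _ hbA hk.ne h1)) ?_).resolve_left
    fun e => hz1 (conj_eq_one_iff.1 e)
  rw [show g * z * g⁻¹ * (g * z * g⁻¹) = g * (z * z) * g⁻¹ by group, hz.2.1, mul_one, mul_inv_cancel]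

/-- The principal block excludes a large one. -/
theorem big_false {z : G} (hz : z ∈ Ez S) (hz1 : z ≠ 1) (hM : Mx S (th z)) {p : ℕ} [Fact p.Prime]
    (hP : Iv S z (SSF.Ox p (th z))) (hbig : 625 ≤ Nat.card (SSF.Ox p (th z))) : False := by
  haveI := c.simple
  obtain ⟨-, hcu⟩ := c.cent_le hz hz1 hM hP
  obtain ⟨s, hs, hsz, hsE⟩ := exists_root c.u4 hz hz1
  obtain ⟨y, hy, hsy⟩ := comm_surj' c.u4 hs hsE hz
  have hinv : ∃ g : G, g * s * g⁻¹ = s⁻¹ := ⟨y, by
    rw [commutatorElement_def] at hsy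
    have h2 : y * s⁻¹ * y⁻¹ = s := by
      calc y * s⁻¹ * y⁻¹ = s⁻¹ * (s * y * s⁻¹ * y⁻¹) := by group
        _ = s⁻¹ * (s * s) := by rw [hsy, hsz]
        _ = s := by group
    rw [← inv_inj, inv_inv, show (y * s * y⁻¹)⁻¹ = y * s⁻¹ * y⁻¹ by group, h2]⟩
  have hsC : centralizer ({s} : Set G) ≤ centralizer ({z} : Set G) := fun g hg =>
    mem_cent_singleton.2 (hsz ▸ (mem_cent_singleton.1 hg).mul_right (mem_cent_singleton.1 hg))
  set R := (S : Subgroup G) ⊓ centralizer ({s} : Set G) with hR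
  have hRp : IsPGroup 2 R := S.isPGroup'.to_le inf_le_left
  have hRn : R ≤ normalizer (th z : Set G) := inf_le_right.trans (hsC.trans (th_norm z))
  have hroot := root_cent_le c.u4 hz hz1 hs hsz
  refine false_of_chars c.nonab (PiClosed.orderOf_involution hz.2.1 hz1) hsz hinv (th z) (th_le z) (th_norm z)
    (th_odd z) ?_ ⟨(th z).subgroupOf (centralizer ({s} : Set G)), ?_, ?_, ?_⟩ ?_ ?_ (SSF.Ox p (th z))
    (SSF.isPGroup_Ox p _) (SSF.Ox_le p _) hbig (fun x hx hx1 => (hcu x hx hx1).1) fun x hx hx1 => (hcu x hx hx1).2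
  · have h1 := ((th z).subgroupOf (centralizer ({z} : Set G))).card_mul_index
    rw [Nat.card_congr (subgroupOfEquivOfLe (th_le z)).toEquiv, mul_comm] at h1
    have h2 := card_cent_le c.u4 hz hz1
    rw [← h1] at h2
    exact Nat.le_of_mul_le_mul_right h2 Nat.card_pos
  · exact normal_subgroupOf_of_le_normalizer (hsC.trans (th_norm z))
  · exact (th_odd z).of_dvd_nat (card_comap_dvd_of_injective _ _ (subtype_injective _))
  · set V := th z ⊓ centralizer ({s} : Set G) with hV
    have hcard : Nat.card (centralizer ({s} : Set G)) ≤ Nat.card V * 16 := by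
      have hle : centralizer ({s} : Set G) ≤ V ⊔ R := fun g hg => by
        obtain ⟨t, ht, r, hr, rfl⟩ := exists_sup_mul hRn (hroot hg)
        refine mul_mem (mem_sup_left (mem_inf.2 ⟨ht, ?_⟩)) (mem_sup_right hr)
        rw [show t = t * r * r⁻¹ by group]
        exact mul_mem hg (inv_mem hr.2)
      have hn : R ≤ normalizer (V : Set G) := fun r hr => mem_normalizer_of_cj_le (by
        rw [hV, cj_inf, cj_eq_self (hRn hr), cj_eq_self (le_normalizer hr.2)])
      have h1 := Solv.card_sup_mul_card_inf' V R hn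
      rw [card_cent_inf c.u4 hs hsE] at h1
      exact (card_le_of_le hle).trans (Nat.le_of_dvd (Nat.mul_pos Nat.card_pos (by norm_num)) (Dvd.intro _ h1))
    have h1 := ((th z).subgroupOf (centralizer ({s} : Set G))).card_mul_index
    rw [← inf_subgroupOf_right, Nat.card_congr (subgroupOfEquivOfLe inf_le_right).toEquiv] at h1
    rw [← h1] at hcard
    rw [← inf_subgroupOf_right]
    exact Nat.le_of_mul_le_mul_left hcard Nat.card_pos
  · intro a u v has hao hu hv huv
    have hu2 : ∀ {u : G}, IsConj z u → u * u = 1 := fun {u} h => by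
      obtain ⟨g, rfl⟩ := isConj_iff.1 h
      rw [show g * z * g⁻¹ * (g * z * g⁻¹) = g * (z * z) * g⁻¹ by group, hz.2.1, mul_one, mul_inv_cancel]
    have huu := hu2 hu
    have hvv := hu2 hv
    have hinvu : u * (s * a) * u⁻¹ = (s * a)⁻¹ := by
      rw [← huv, inv_eq_of_mul_eq_one_right huu, mul_inv_rev, inv_eq_of_mul_eq_one_right huu,
        inv_eq_of_mul_eq_one_right hvv, ← mul_assoc, huu, one_mul]
    have hs4 : s ^ 4 = 1 := by rw [show 4 = 2 * 2 from rfl, pow_mul, pow_two s, hsz, pow_two, hz.2.1]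
    have hco : Nat.Coprime 4 (orderOf a) := (Nat.coprime_two_left.2 hao).pow_left 2
    obtain ⟨k, hk1, hk2⟩ := Nat.chineseRemainder hco 1 0
    have hk : (s * a) ^ k = s := by
      rw [has.symm.mul_pow, show a ^ k = 1 by
        rw [← pow_zero a]; exact pow_eq_pow_iff_modEq.2 hk2, mul_one]
      conv_rhs => rw [← pow_one s]
      exact pow_eq_pow_iff_modEq.2 (Nat.ModEq.of_dvd (orderOf_dvd_of_pow_eq_one hs4) hk1)
    have hus : u * s * u⁻¹ = s⁻¹ := by
      conv_lhs => rw [← hk, ← conj_pow, hinvu, inv_pow, hk]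
    have huz : Commute u z := commute_of_conj_eq (by
      conv_lhs => rw [← hsz]
      rw [show u * (s * s) * u⁻¹ = u * s * u⁻¹ * (u * s * u⁻¹) by group, hus, ← mul_inv_rev, hsz, Ez_inv hz])
    have hsz' : Commute s z := commute_Ez hs hz
    have haz : Commute a z := hsz ▸ has.mul_right has
    have hvz : Commute v z := by
      rw [show v = u⁻¹ * (s * a) by rw [← huv]; group]
      exact huz.inv_left.mul_left (hsz'.mul_left haz)
    have hsa := mul_mem (invol_mem c.u4 hz hz1 (mem_cent_singleton.2 huz) huu)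
      (invol_mem c.u4 hz hz1 (mem_cent_singleton.2 hvz) hvv)
    rw [huv] at hsa
    have haT : a ∈ th z := mem_of_odd_mem_sup hRp hRn (hroot (mem_cent_singleton.2 has)) hao
    have hsT : s ∈ th z ⊔ Ez S := by
      rw [show s = s * a * a⁻¹ by group]; exact mul_mem hsa (mem_sup_left (inv_mem haT))
    obtain ⟨t, ht, w, hw, hsw⟩ := exists_sup_mul ((centEz_le_cent hz).trans (th_norm z) |>.trans' (fun x hx =>
      mem_centralizer_iff.2 fun e he => (Ez_comm he hx).eq)) hsT
    have htS : t ∈ (S : Subgroup G) ⊓ th z := mem_inf.2 ⟨by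
      rw [show t = s * w⁻¹ by rw [hsw]; group]; exact mul_mem hs (inv_mem hw.1), ht⟩
    rw [inf_th_eq_bot, mem_bot] at htS
    rw [htS, one_mul] at hsw
    exact hsE (hsw ▸ hw)
  · rintro rfl
    exact hP.ne (le_bot_iff.1 ((inf_odd_eq_bot (SSF.isPGroup_Ox 2 _) (th_odd z)) ▸ le_inf le_rfl (SSF.Ox_le 2 _)))

end Ctx

end Cfsg.Agent.UFour
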