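import Cfsg.Agent.Lib.UFour.Tools
import Cfsg.Agent.Lib.Fusion.TwoNilpCent.RankThree
import Cfsg.Agent.Lib.Fusion.StronglyEmbeddedPairs

/-!
# The centraliser of the group of involutions of a Sylow 2-subgroup of the type of `U₃(4)`

It is the odd core extended by the normaliser of the Sylow 2-subgroup. The quotient by the involutions has an abelian
Sylow 2-subgroup; the signalizer group of its functor would give a strongly embedded subgroup, hence one class of
involutions, while the square values separate three.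
-/

set_option autoImplicit false
set_option linter.style.haveILetI false
set_option linter.unusedSectionVars false

open Cfsg Cfsg.Agent.Fusion Cfsg.Agent.Local

namespace Cfsg.Agent.UFour

open Subgroup
open Cfsg.Agent.TwoNilpCent (InvNPC theta theta_le theta_cj wset theta_le_wset wset_cj theta_odd theta_solvable
  theta_balance centralizer_le_normalizer_theta decomp)

universe u

variable {K : Type u} [Group K] [Finite K]

theorem Ez_eq_of_central {S : Sylow 2 K} (h : U4 (S : Subgroup K)) (hc : Ez S ≤ center K) (R : Sylow 2 K) :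
    U4 (R : Subgroup K) ∧ Ez R = Ez S := by
  haveI : Fact (Nat.Prime 2) := ⟨Nat.prime_two⟩
  have hR : U4 (R : Subgroup K) := h.of_equiv (S.equiv R)
  haveI : (Ez S).Normal := ⟨fun e he g => by
    rwa [mem_center_iff.1 (hc he) g, mul_inv_cancel_right]⟩
  have hp : IsPGroup 2 (Ez S) := S.isPGroup'.to_le (PiClosed.omegaZ_le _)
  have hle : Ez S ≤ Ez R := fun e he => mem_Ez_of_sq hR (hp.le_sylow_of_normal R he) he.2.1
  exact ⟨hR, (Subgroup.eq_of_le_of_card_ge hle (by rw [card_Ez hR, card_Ez h])).symm⟩

section Quot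

variable {S : Sylow 2 K} (h : U4 (S : Subgroup K)) {W : Type u} [Group W] [Finite W] {π : K →* W}
  (hπ : Function.Surjective π) (hker : π.ker = Ez S)

include h hπ hker in
theorem map_abelian {a b : W} (ha : a ∈ (S : Subgroup K).map π) (hb : b ∈ (S : Subgroup K).map π) :
    Commute a b := by
  obtain ⟨x, hx, rfl⟩ := ha
  obtain ⟨y, hy, rfl⟩ := hb
  refine commutatorElement_eq_one_iff_commute.1 ?_
  rw [← map_commutatorElement, ← MonoidHom.mem_ker, hker]
  exact comm_mem_Ez h hx hy

include h hπ hker in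
theorem map_exp_two {a : W} (ha : a ∈ (S : Subgroup K).map π) : a ^ 2 = 1 := by
  obtain ⟨x, hx, rfl⟩ := ha
  rw [pow_two, ← map_mul, ← MonoidHom.mem_ker, hker]
  exact sq_mem_Ez h hx

include h hπ hker in
theorem map_card : Nat.card ((S : Subgroup K).map π) = 16 := by
  have e := Subgroup.card_eq_card_quotient_mul_card_subgroup ((π.comp (S : Subgroup K).subtype).ker)
  rw [Nat.card_congr (QuotientGroup.quotientKerEquivRange (π.comp (S : Subgroup K).subtype)).toEquiv,
    MonoidHom.range_eq_map, ← Subgroup.map_map, ← MonoidHom.range_eq_map, Subgroup.range_subtype, h.card] at e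
  have hk : (π.comp (S : Subgroup K).subtype).ker = (Ez S).subgroupOf (S : Subgroup K) := by
    ext x; rw [MonoidHom.mem_ker, mem_subgroupOf, ← hker, MonoidHom.mem_ker]; rfl
  rw [hk, Nat.card_congr (subgroupOfEquivOfLe (PiClosed.omegaZ_le _)).toEquiv] at e
  have h4 : Nat.card (Ez S) = 4 := card_Ez h
  rw [h4] at e
  omega

end Quot

theorem invNPC_quot {S : Sylow 2 K} (h : U4 (S : Subgroup K)) (hc : Ez S ≤ center K) {W : Type u} [Group W]
    [Finite W] {π : K →* W} (hπ : Function.Surjective π) (hker : π.ker = Ez S) : InvNPC W := by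
  haveI : Fact (Nat.Prime 2) := ⟨Nat.prime_two⟩
  intro t ht
  obtain ⟨P, hP⟩ := (IsPGroup.of_card (n := 1) (by rw [Nat.card_zpowers, ht, pow_one]) :
    IsPGroup 2 (zpowers t)).exists_le_sylow
  obtain ⟨R, rfl⟩ := Sylow.mapSurjective_surjective hπ 2 P
  obtain ⟨hR, hE⟩ := Ez_eq_of_central h hc R
  rw [← hE] at hker
  obtain ⟨x, hx, rfl⟩ : t ∈ (R : Subgroup K).map π := hP (mem_zpowers t)
  have hxE : x ∉ Ez R := fun hxE => by
    rw [← hker, MonoidHom.mem_ker] at hxE
    rw [hxE, orderOf_one] at ht
    exact absurd ht (by norm_num)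
  set V := (R : Subgroup K).map π with hV
  set C := centralizer ({π x} : Set W)
  have hVC : V ≤ C := fun v hv =>
    mem_centralizer_singleton_iff.2 (map_abelian hR hπ hker hv ⟨x, hx, rfl⟩).eq
  obtain ⟨Q, hQ⟩ := ((sylIn_top (R.mapSurjective hπ)).mono (K := C) (by rwa [Sylow.coe_mapSurjective])
    le_top).exists_sylow_subgroupOf
  rw [Sylow.coe_mapSurjective] at hQ
  refine hnpc_of_burnside Q fun c hcN => ?_
  rw [hQ] at hcN ⊢
  rw [← Subgroup.subgroupOf_normalizer_eq hVC, mem_subgroupOf] at hcN
  -- lift to the normaliser of `R`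
  obtain ⟨k, hk⟩ := hπ (c : W)
  have hkN : k ∈ normalizer ((R : Subgroup K) : Set K) := by
    refine mem_normalizer_fintype fun y hy => ?_
    have h1 : π (k * y * k⁻¹) ∈ V := by
      rw [map_mul, map_mul, map_inv, hk]
      exact (mem_normalizer_iff.1 hcN _).1 ⟨y, hy, rfl⟩
    obtain ⟨y', hy', he⟩ := h1
    have h2 : y'⁻¹ * (k * y * k⁻¹) ∈ Ez R := by
      rw [← hker, MonoidHom.mem_ker, map_mul, map_inv, he, inv_mul_cancel]
    have := mul_mem hy' h2.1
    rwa [mul_inv_cancel_left] at this
  have hcx : Commute (π k) (π x) := by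
    rw [hk]; exact mem_centralizer_singleton_iff.1 c.2
  suffices hkV : π k ∈ centralizer (V : Set W) by
    refine mem_centralizer_iff.2 fun v hv => Subtype.ext ?_
    exact mem_centralizer_iff.1 (hk ▸ hkV) _ hv
  suffices k ∈ (centralizer (V : Set W)).comap π from this
  refine mem_of_split R hkN (fun j hj => ?_) fun j hj => ?_
  · -- an element of odd order fixing the class of `x` centralises `R`
    have hfix : ∀ e ∈ Ez R, k ^ j * e * (k ^ j)⁻¹ = e := fun e he => by
      rw [mem_center_iff.1 (hc (hE ▸ he)) (k ^ j), mul_inv_cancel_right]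
    have hcls : k ^ j * x * (k ^ j)⁻¹ * x⁻¹ ∈ Ez R := by
      rw [← hker, MonoidHom.mem_ker, map_mul, map_mul, map_mul, map_inv, map_inv, map_pow,
        (hcx.pow_left j).eq, mul_inv_cancel_right, mul_inv_cancel]
    have hcent := centralizes_of_fix hR (pow_mem hkN j) hj hfix hx hxE hcls
    refine mem_centralizer_iff.2 ?_
    rintro _ ⟨y, hy, rfl⟩
    rw [← map_mul, ← map_mul, mem_centralizer_iff.1 hcent y hy]
  · exact mem_centralizer_iff.2 fun v hv => (map_abelian hR hπ hker hv ⟨_, hj, rfl⟩).eq

/-- In a group with trivial odd core in which the involutions of a Sylow 2-subgroup of this type are central, it is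
normal. -/
theorem normal_of_central {S : Sylow 2 K} (h : U4 (S : Subgroup K)) (hc : Ez S ≤ center K)
    (hO : Cfsg.oddCore K = ⊥) : (S : Subgroup K).Normal := by
  haveI : Fact (Nat.Prime 2) := ⟨Nat.prime_two⟩
  haveI hEn : (Ez S).Normal := ⟨fun e he g => by
    rwa [mem_center_iff.1 (hc he) g, mul_inv_cancel_right]⟩
  set π := QuotientGroup.mk' (Ez S) with hπdef
  have hπ : Function.Surjective π := QuotientGroup.mk'_surjective _
  have hker : π.ker = Ez S := QuotientGroup.ker_mk' _
  have hI : InvNPC (K ⧸ Ez S) := invNPC_quot h hc hπ hker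
  set P := S.mapSurjective hπ with hP
  set V := (S : Subgroup K).map π with hVdef
  have hPV : (P : Subgroup (K ⧸ Ez S)) = V := Sylow.coe_mapSurjective hπ S
  have hV : Cfsg.IsElementaryAbelian 2 V :=
    ⟨⟨⟨fun a b => Subtype.ext (map_abelian h hπ hker a.2 b.2).eq⟩⟩, fun a ha => map_exp_two h hπ hker ha⟩
  have hV16 : Nat.card V = 16 := map_card h hπ hker
  have h2 : ∀ a ∈ V, a ≠ 1 → orderOf a = 2 := fun a ha ha1 => TwoNilpCent.orderOf_of_mem hV ha ha1
  obtain ⟨hodd', -⟩ := S0217.result (p := 2) V (fun a ha b hb => elemAb_commute hV ha hb) hV.2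
    (by rw [hV16]; norm_num) theta
    (fun a _ _ => theta_le a)
    (fun a ha ha1 hd => Nat.not_even_iff_odd.2 (theta_odd hI (h2 a ha ha1)) (even_iff_two_dvd.2 hd))
    (fun a ha _ b hb x hx => (mem_normalizer_iff.1
      (centralizer_le_normalizer_theta a (mem_centralizer_singleton_iff.2 (elemAb_commute hV hb ha))) x).1 hx)
    (fun a ha ha1 => theta_solvable hI (h2 a ha ha1))
    (fun a ha ha1 b hb hb1 => theta_balance hI (h2 a ha ha1) (h2 b hb hb1))
  have hodd : Odd (Nat.card (wset V)) := Nat.not_even_iff_odd.1 fun he => hodd' (even_iff_two_dvd.1 he)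
  -- centralisers and the normaliser
  have hcent : ∀ v ∈ V, orderOf v = 2 → centralizer ({v} : Set (K ⧸ Ez S)) ≤ theta v ⊔ V := fun v hv hv2 =>
    TwoNilpCent.centralizer_le_sup hI hv2 ((hPV ▸ sylIn_top P).mono
      (fun w hw => mem_centralizer_singleton_iff.2 (elemAb_commute hV hw hv)) le_top)
  have hNV : normalizer (V : Set (K ⧸ Ez S)) ≤ normalizer (wset V : Set (K ⧸ Ez S)) := fun g hg => by
    refine mem_normalizer_iff_cj.2 ?_
    rw [wset_cj, cj_eq_self hg]
  have hinW : ∀ v ∈ V, orderOf v = 2 → theta v ≤ wset V := fun v hv hv2 =>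
    theta_le_wset hv fun e => by rw [e, orderOf_one] at hv2; exact absurd hv2 (by norm_num)
  suffices hVn : V.Normal by
    rw [show (S : Subgroup K) = V.comap π by
      rw [hVdef, comap_map_eq_self (hker.le.trans (PiClosed.omegaZ_le _))]]
    exact hVn.comap π
  by_contra hVn
  obtain ⟨M, hM, hNM, hCM⟩ : ∃ M : Subgroup (K ⧸ Ez S), M ≠ ⊤ ∧ normalizer (V : Set (K ⧸ Ez S)) ≤ M ∧
      ∀ v ∈ V, orderOf v = 2 → centralizer ({v} : Set (K ⧸ Ez S)) ≤ M := by
    by_cases hw : wset V = ⊥
    · refine ⟨_, fun e => hVn (normalizer_eq_top_iff.1 e), le_rfl, fun v hv hv2 => (hcent v hv hv2).trans ?_⟩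
      exact sup_le ((hinW v hv hv2).trans (hw ▸ bot_le)) le_normalizer
    · refine ⟨_, fun e => hw ?_, hNV, fun v hv hv2 => (hcent v hv hv2).trans
        (sup_le ((hinW v hv hv2).trans le_normalizer) (le_normalizer.trans hNV))⟩
      haveI hWn : (wset V).Normal := normalizer_eq_top_iff.1 e
      set N := (wset V).comap π with hN
      haveI : N.Normal := hWn.comap π
      haveI : ((Ez S).subgroupOf N).Normal := inferInstance
      -- the preimage has a central Sylow 2-subgroup, hence a normal complement, which is trivial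
      have hEN : Ez S ≤ N := fun e he => by
        rw [hN, mem_comap, show π e = 1 from MonoidHom.mem_ker.1 (hker.ge he)]
        exact one_mem _
      have hcardN : Nat.card N = 4 * Nat.card (wset V) := by
        have e1 := N.card_mul_index
        have e2 := (wset V).card_mul_index
        have e3 := Subgroup.card_eq_card_quotient_mul_card_subgroup (Ez S)
        have h4 : Nat.card (Ez S) = 4 := card_Ez h
        rw [hN, index_comap_of_surjective _ hπ, ← hN] at e1
        rw [h4, ← e2, ← e1] at e3
        have hpos : 0 < (wset V).index := Nat.pos_of_ne_zero index_ne_zero_of_finite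
        nlinarith
      obtain ⟨Q, hQ⟩ := ((S.isPGroup'.to_le (PiClosed.omegaZ_le _)).comap_subtype :
        IsPGroup 2 ((Ez S).subgroupOf N)).exists_le_sylow
      have hQE : (Q : Subgroup N) = (Ez S).subgroupOf N := by
        refine (Subgroup.eq_of_le_of_card_ge hQ ?_).symm
        obtain ⟨k, hk⟩ := IsPGroup.iff_card.1 Q.isPGroup'
        have hd : 2 ^ k ∣ 4 * Nat.card (wset V) := hk ▸ hcardN ▸ card_subgroup_dvd_card _
        have := ((Nat.coprime_two_left.2 hodd).pow_left k).dvd_of_dvd_mul_right hd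
        rw [hk]
        refine (Nat.le_of_dvd (by norm_num) this).trans (le_of_eq ?_)
        exact (card_Ez h).symm.trans (Nat.card_congr (subgroupOfEquivOfLe hEN).toEquiv).symm
      have hnp : Cfsg.HasNormalPComplement 2 N := hnpc_of_burnside Q fun n _ => by
        refine mem_centralizer_iff.2 fun q hq => Subtype.ext ?_
        rw [hQE] at hq
        exact (mem_center_iff.1 (hc hq) (n : K)).symm
      haveI : (pResidual 2 N).Characteristic := inferInstance
      have hres : (pResidual 2 N).map N.subtype = ⊥ := by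
        refine le_bot_iff.1 (hO ▸ Fusion.le_pPrimeCore ?_)
        rw [card_map_of_injective N.subtype_injective]
        exact hnpc_iff.1 hnp
      have hres' : pResidual 2 N = ⊥ := (map_eq_bot_iff_of_injective _ N.subtype_injective).1 hres
      have hc4 : Nat.card N = Nat.card (Q : Subgroup N) := by
        have hcp := isComplement'_of_coprime_card Q (hnpc_iff.1 hnp)
        rw [hres', isComplement'_bot_left] at hcp
        rw [hcp, Subgroup.card_top]
      rw [hcardN, hQE, Nat.card_congr (subgroupOfEquivOfLe hEN).toEquiv, card_Ez h] at hc4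
      exact Subgroup.card_eq_one.1 (by omega)
  have hse : Cfsg.IsStronglyEmbedded M := by
    refine se_of_cent P ?_ (fun v hv _ s hs => ?_) hM (by rwa [hPV]) (fun v hv => hCM v (hPV ▸ hv))
    · rw [hPV, hV16]; decide
    · rw [hPV] at hv hs; exact elemAb_commute hV hs hv
  -- the squares separate the classes of involutions
  obtain ⟨z, hz, hz1, -⟩ := exists_other h (one_mem (Ez S))
  obtain ⟨e, he, he1, hez⟩ := exists_other h hz
  obtain ⟨x, hx, hxz, hxE⟩ := exists_root h hz hz1
  obtain ⟨y, hy, hye, hyE⟩ := exists_root h he he1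
  have hord : ∀ {w : K}, w ∈ (S : Subgroup K) → w ∉ Ez S → orderOf (π w) = 2 := fun {w} hw hwE => by
    refine h2 _ ⟨w, hw, rfl⟩ fun e' => hwE ?_
    rw [← hker, MonoidHom.mem_ker, e']
  obtain ⟨g, hg⟩ := isConj_iff.1 (SEPairs.involutions_conj hse (hord hx hxE) (hord hy hyE))
  obtain ⟨k, rfl⟩ := hπ g
  rw [← map_inv, ← map_mul, ← map_mul] at hg
  have hw : y⁻¹ * (k * x * k⁻¹) ∈ Ez S := by
    rw [← hker, MonoidHom.mem_ker, map_mul, map_inv, hg, inv_mul_cancel]
  set w := y⁻¹ * (k * x * k⁻¹) with hwdef
  refine hez (?_ : e = z)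
  have h1 : k * z * k⁻¹ = y * w * (y * w) := by rw [hwdef, ← hxz]; group
  rw [mem_center_iff.1 (hc hz) k, mul_inv_cancel_right,
    show y * w * (y * w) = y * (w * y) * w by group, ← (commute_Ez hy hw).eq,
    show y * (y * w) * w = y * y * (w * w) by group, hye, hw.2.1, mul_one] at h1
  exact h1.symm

end Cfsg.Agent.UFour
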