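import Cfsg.Agent.Lib.UFour.CentE
import Cfsg.Agent.Lib.Char.ZStar

/-!
# Centralisers of involutions

`C(z)` is the odd core `th z` extended by `N1 S`, the normaliser of `S` centralising its involutions.
-/

set_option autoImplicit false
set_option linter.style.haveILetI false
set_option linter.unusedSectionVars false

namespace Cfsg.Agent.UFour

open Subgroup Cfsg.Agent Cfsg.Agent.Fusion
open scoped commutatorElement Pointwise

universe u

variable {G : Type u} [Group G]

/-- The odd core of the centraliser. -/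
def th (z : G) : Subgroup G := od (centralizer ({z} : Set G))

/-- The normaliser of `S` centralising its involutions. -/
def N1 (S : Sylow 2 G) : Subgroup G := centralizer (Ez S : Set G) ⊓ normalizer ((S : Subgroup G) : Set G)

theorem th_le (z : G) : th z ≤ centralizer ({z} : Set G) := od_le _

theorem cj_cent (z g : G) : cj (centralizer ({z} : Set G)) g = centralizer ({g * z * g⁻¹} : Set G) := by
  ext x
  rw [mem_cj, mem_centralizer_singleton_iff, mem_centralizer_singleton_iff]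
  constructor
  · intro hx
    calc x * (g * z * g⁻¹) = g * (g⁻¹ * x * g * z) * g⁻¹ := by group
      _ = g * (z * (g⁻¹ * x * g)) * g⁻¹ := by rw [hx]
      _ = g * z * g⁻¹ * x := by group
  · intro hx
    calc g⁻¹ * x * g * z = g⁻¹ * (x * (g * z * g⁻¹)) * g := by group
      _ = g⁻¹ * (g * z * g⁻¹ * x) * g := by rw [hx]
      _ = z * (g⁻¹ * x * g) := by group

theorem N1_le_normalizer {S : Sylow 2 G} : N1 S ≤ normalizer ((S : Subgroup G) : Set G) := inf_le_right

theorem sylow_le_N1 {S : Sylow 2 G} : (S : Subgroup G) ≤ N1 S := le_inf sylow_le_centEz le_normalizer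

theorem centEz_le_cent {S : Sylow 2 G} {e : G} (he : e ∈ Ez S) :
    centralizer (Ez S : Set G) ≤ centralizer ({e} : Set G) :=
  centralizer_le (Set.singleton_subset_iff.2 he)

theorem N1_le_cent {S : Sylow 2 G} {e : G} (he : e ∈ Ez S) : N1 S ≤ centralizer ({e} : Set G) :=
  inf_le_left.trans (centEz_le_cent he)

variable [Finite G]

theorem th_odd (z : G) : Odd (Nat.card (th z)) := od_odd _

theorem th_norm (z : G) : centralizer ({z} : Set G) ≤ normalizer (th z : Set G) := od_norm _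

theorem th_cj (z g : G) : cj (th z) g = th (g * z * g⁻¹) := by rw [th, od_cj, cj_cent]; rfl

theorem inf_th_eq_bot {S : Sylow 2 G} (z : G) : (S : Subgroup G) ⊓ th z = ⊥ :=
  inf_odd_eq_bot S.isPGroup' (th_odd z)

variable {S : Sylow 2 G} (h : U4 (S : Subgroup G))
include h

/-- `C(E) = O(C(E)) N_{C(E)}(S)`. -/
theorem centEz_decomp {g : G} (hg : g ∈ centralizer (Ez S : Set G)) :
    ∃ t ∈ od (centralizer (Ez S : Set G)), ∃ n ∈ N1 S, g = t * n := by
  haveI : Fact (Nat.Prime 2) := ⟨Nat.prime_two⟩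
  set K := centralizer (Ez S : Set G) with hK
  have hSK : (S : Subgroup G) ≤ K := sylow_le_centEz
  set π := QuotientGroup.mk' (Cfsg.oddCore ↥K) with hπd
  have hπ : Function.Surjective π := QuotientGroup.mk'_surjective _
  have hS' : U4 ((S.subtype hSK : Sylow 2 ↥K) : Subgroup ↥K) := by
    rw [Sylow.coe_subtype]
    exact h.of_equiv (subgroupOfEquivOfLe hSK).symm
  have hker : π.ker = Cfsg.oddCore ↥K := QuotientGroup.ker_mk' _
  have hQ : U4 ((S.subtype hSK).mapSurjective hπ : Subgroup (↥K ⧸ Cfsg.oddCore ↥K)) :=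
    hS'.map π hπ (by rw [hker]; exact Char.card_oddCore_odd ↥K)
  have hQc : Ez ((S.subtype hSK).mapSurjective hπ) ≤ center (↥K ⧸ Cfsg.oddCore ↥K) := by
    intro a ha
    obtain ⟨x, hx, rfl⟩ : a ∈ ((S.subtype hSK : Sylow 2 ↥K) : Subgroup ↥K).map π :=
      Sylow.coe_mapSurjective hπ (S.subtype hSK) ▸ ha.1
    rw [Sylow.coe_subtype] at hx
    replace hx : (x : G) ∈ (S : Subgroup G) := hx
    have hxx : (x : G) * x ∈ (S : Subgroup G) ⊓ od K := by
      refine ⟨mul_mem hx hx, x * x, ?_, rfl⟩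
      rw [SetLike.mem_coe, ← hker, MonoidHom.mem_ker, map_mul]
      exact ha.2.1
    rw [inf_odd_eq_bot S.isPGroup' (od_odd K), mem_bot] at hxx
    have hxE := mem_Ez_of_sq h hx hxx
    refine mem_center_iff.2 fun b => ?_
    obtain ⟨y, rfl⟩ := hπ b
    rw [← map_mul, ← map_mul]
    congr 1
    exact Subtype.ext (mem_centralizer_iff.1 y.2 _ hxE).symm
  have hn := normal_of_central hQ hQc (pPrimeCore_quotient_eq_bot (p := 2))
  rw [Sylow.coe_mapSurjective] at hn
  have hM : K ≤ normalizer (((((S.subtype hSK : Sylow 2 ↥K) : Subgroup ↥K).map π).comap π).map K.subtype : Set G) := by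
    haveI := hn.comap π
    intro x hx
    refine mem_normalizer_fintype ?_
    rintro _ ⟨y, hy, rfl⟩
    exact ⟨⟨x, hx⟩ * y * ⟨x, hx⟩⁻¹, (hn.comap π).conj_mem y hy _, rfl⟩
  have hM' : ((((S.subtype hSK : Sylow 2 ↥K) : Subgroup ↥K).map π).comap π).map K.subtype =
      (S : Subgroup G) ⊔ od K := by
    rw [comap_map_eq, hker, Sylow.coe_subtype, Subgroup.map_sup, map_subgroupOf_eq_of_le hSK]
    rfl
  rw [hM'] at hM
  obtain ⟨m, hm, hmg⟩ := frattini_conj (T := (S : Subgroup G))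
    ((sylIn_top S).mono le_sup_left le_top) hM hg
  have hm' : m⁻¹ ∈ ((od K : Subgroup G) : Set G) * ((S : Subgroup G) : Set G) := by
    rw [← coe_mul_of_right_le_normalizer_left (od K) (S : Subgroup G) (hSK.trans (od_norm K)), sup_comm]
    exact inv_mem hm
  obtain ⟨t, ht, s, hs, hts⟩ := hm'
  have hts' : t * s = m⁻¹ := hts
  refine ⟨t, ht, s * (m * g), ⟨mul_mem (hSK hs) (mul_mem ?_ hg), mul_mem (le_normalizer hs) hmg⟩, ?_⟩
  · exact (sup_le hSK (od_le K)) hm
  · rw [← mul_assoc, hts', inv_mul_cancel_left]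

/-- The other central involutions are isolated in `C(z)`. -/
theorem isolated {z e : G} (hz : z ∈ Ez S) (hz1 : z ≠ 1) (he : e ∈ Ez S) (he1 : e ≠ 1) (hez : e ≠ z) {g : G}
    (hg : g ∈ centralizer ({z} : Set G)) (hc : Commute e (g * e * g⁻¹)) : g * e * g⁻¹ = e := by
  set w := g * e * g⁻¹ with hw
  have hgz : g * z * g⁻¹ = z := by rw [mem_centralizer_singleton_iff.1 hg, mul_inv_cancel_right]
  have hw2 : w * w = 1 := by
    rw [hw, show g * e * g⁻¹ * (g * e * g⁻¹) = g * (e * e) * g⁻¹ by group, he.2.1, mul_one, mul_inv_cancel]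
  have hwz : Commute w z := by
    have h1 : Commute (g * e * g⁻¹) (g * z * g⁻¹) := (Ez_comm he hz).map (MulAut.conj g).toMonoidHom
    rwa [hgz] at h1
  have hwE : w ∈ centralizer (Ez S : Set G) := mem_centralizer_iff.2 fun c hc' => by
    rcases mem_Ez_cases h hz he hz1 he1 hez.symm hc' with rfl | rfl | rfl | rfl
    · simp
    · exact hwz.eq.symm
    · exact hc.eq
    · exact (hwz.symm.mul_left hc).eq
  have hsyl : SylIn 2 (S : Subgroup G) (centralizer (Ez S : Set G)) := (sylIn_top S).mono sylow_le_centEz le_top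
  have hp : IsPGroup 2 (zpowers w) := by
    obtain ⟨k, -, hk⟩ := (Nat.dvd_prime_pow Nat.prime_two (m := 1)).1
      (orderOf_dvd_of_pow_eq_one (x := w) (by rw [pow_one, pow_two, hw2]))
    exact IsPGroup.of_card (n := k) (by rw [Nat.card_zpowers, hk])
  haveI : Fact (Nat.Prime 2) := ⟨Nat.prime_two⟩
  obtain ⟨c, hcK, hcS⟩ := hsyl.conj_le hp (zpowers_le.2 hwE)
  have hcw : c * w * c⁻¹ ∈ Ez S := mem_Ez_of_sq h (hcS (conj_mem_cj (mem_zpowers w))) (by
    rw [show c * w * c⁻¹ * (c * w * c⁻¹) = c * (w * w) * c⁻¹ by group, hw2, mul_one, mul_inv_cancel])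
  have hwS : w ∈ Ez S := by
    have h1 := mem_centralizer_iff.1 hcK _ hcw
    have h2 : c * w * c⁻¹ = w := by
      apply mul_left_cancel (a := c)
      rw [← h1, inv_mul_cancel_right]
    rwa [h2] at hcw
  -- fusion inside `C(z)`
  have hle : cj (S : Subgroup G) g ≤ centralizer ({w} : Set G) ⊓ centralizer ({z} : Set G) := by
    refine le_inf ((cj_mono (le_cent he) g).trans (cj_cent e g).le) ((cj_mono (le_cent hz) g).trans ?_)
    rw [cj_cent, hgz]
  obtain ⟨d, hd, hdS⟩ := ((sylIn_top S).mono (le_inf (le_cent hwS) (le_cent hz)) le_top).conj_le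
    (isPGroup_cj S.isPGroup' g) hle
  have hn : d * g ∈ normalizer ((S : Subgroup G) : Set G) := mem_normalizer_iff_cj.2 (by
    rw [← cj_cj]; exact Subgroup.eq_of_le_of_card_ge hdS (by rw [card_cj, card_cj]))
  have hnz : Commute (d * g) z :=
    Commute.mul_left (mem_centralizer_singleton_iff.1 hd.2) (mem_centralizer_singleton_iff.1 hg)
  have hne : d * g * e * (d * g)⁻¹ = w := by
    rw [show d * g * e * (d * g)⁻¹ = d * w * d⁻¹ by rw [hw]; group, mem_centralizer_singleton_iff.1 hd.1,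
      mul_inv_cancel_right]
  rcases mem_Ez_cases h hz he hz1 he1 hez.symm hwS with h1 | h1 | h1 | h1
  · exact absurd (conj_eq_one_iff.1 h1) he1
  · refine absurd (mul_left_cancel (mul_right_cancel (h1.trans hgz.symm : g * e * g⁻¹ = g * z * g⁻¹))) hez
  · exact h1
  · -- the square fixes `e`, so the element does
    rw [h1] at hne
    have h2 : Commute (d * g * (d * g)) e := by
      refine mul_inv_eq_iff_eq_mul.1 ?_
      calc d * g * (d * g) * e * (d * g * (d * g))⁻¹ = d * g * (d * g * e * (d * g)⁻¹) * (d * g)⁻¹ := by group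
        _ = d * g * (z * e) * (d * g)⁻¹ := by rw [hne]
        _ = d * g * z * (d * g)⁻¹ * (d * g * e * (d * g)⁻¹) := by group
        _ = z * (z * e) := by rw [hnz.eq, mul_inv_cancel_right, hne]
        _ = e := by rw [← mul_assoc, hz.2.1, one_mul]
    have h3 := (commute_of_sq hn he h2).eq
    rw [h3, mul_inv_cancel_right] at hne
    exact absurd (mul_eq_right.1 hne.symm) hz1

/-- `C(z) = O(C(z)) C(E)`. -/
theorem cent_decomp {z : G} (hz : z ∈ Ez S) (hz1 : z ≠ 1) {g : G} (hg : g ∈ centralizer ({z} : Set G)) :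
    ∃ t ∈ th z, ∃ n ∈ N1 S, g = t * n := by
  obtain ⟨e, he, he1, hez⟩ := exists_other h hz
  set C := centralizer ({z} : Set G) with hC
  set K := centralizer (Ez S : Set G) with hK
  have heC : e ∈ C := mem_centralizer_singleton_iff.2 (Ez_comm he hz).eq
  have hiso : Cfsg.IsIsolatedInvolution (⟨e, heC⟩ : ↥C) := by
    refine ⟨by rw [Subgroup.orderOf_mk]; exact PiClosed.orderOf_involution he.2.1 he1, fun k hk => ?_⟩
    exact Subtype.ext (isolated h hz hz1 he he1 hez k.2 (hk.map C.subtype))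
  obtain ⟨s, hs, hse⟩ := isolated_exists_zpowers hiso ⟨g, hg⟩
  have hsO : s ∈ Cfsg.oddCore ↥C := by
    refine zpowers_le.2 ?_ hs
    have h1 := Char.zStar_isolated hiso ⟨g, hg⟩
    have h2 : (⟨e, heC⟩ : ↥C)⁻¹ = ⟨e, heC⟩ := Subtype.ext (Ez_inv he)
    rwa [h2, mul_assoc _ _ (⟨g, hg⟩ : ↥C)⁻¹, mul_assoc, ← mul_assoc (⟨g, hg⟩ : ↥C)] at h1
  have hsth : (s : G) ∈ th z := ⟨s, hsO, rfl⟩
  have hsg : (s : G) * g ∈ K := by
    have h1 : (s : G) * g * e * ((s : G) * g)⁻¹ = e := by
      have h2 : (s : G) * (g * e * g⁻¹) * (s : G)⁻¹ = e := congrArg Subtype.val hse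
      calc (s : G) * g * e * ((s : G) * g)⁻¹ = (s : G) * (g * e * g⁻¹) * (s : G)⁻¹ := by group
        _ = e := h2
    have hce : Commute ((s : G) * g) e := mul_inv_eq_iff_eq_mul.1 h1
    have hcz : Commute ((s : G) * g) z := mem_centralizer_singleton_iff.1 (mul_mem s.2 hg)
    refine mem_centralizer_iff.2 fun c hc => ?_
    rcases mem_Ez_cases h hz he hz1 he1 hez.symm hc with rfl | rfl | rfl | rfl
    · simp
    · exact hcz.eq.symm
    · exact hce.eq.symm
    · exact (hcz.mul_right hce).eq.symm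
  obtain ⟨t, ht, n, hn, htn⟩ := centEz_decomp h hsg
  -- the core of `C(E)` lies in the core of `C(z)`
  have hKC : K ≤ C := centEz_le_cent hz
  have hgen : C ≤ th z ⊔ K := fun x hx => by
    obtain ⟨s', hs', hs'e⟩ := isolated_exists_zpowers hiso ⟨x, hx⟩
    have hsO' : s' ∈ Cfsg.oddCore ↥C := by
      refine zpowers_le.2 ?_ hs'
      have h1 := Char.zStar_isolated hiso ⟨x, hx⟩
      have h2 : (⟨e, heC⟩ : ↥C)⁻¹ = ⟨e, heC⟩ := Subtype.ext (Ez_inv he)
      rwa [h2, mul_assoc _ _ (⟨x, hx⟩ : ↥C)⁻¹, mul_assoc, ← mul_assoc (⟨x, hx⟩ : ↥C)] at h1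
    have hce : Commute ((s' : G) * x) e := mul_inv_eq_iff_eq_mul.1 (by
      have h2 : (s' : G) * (x * e * x⁻¹) * (s' : G)⁻¹ = e := congrArg Subtype.val hs'e
      calc (s' : G) * x * e * ((s' : G) * x)⁻¹ = (s' : G) * (x * e * x⁻¹) * (s' : G)⁻¹ := by group
        _ = e := h2)
    have hcz : Commute ((s' : G) * x) z := mem_centralizer_singleton_iff.1 (mul_mem s'.2 hx)
    rw [← inv_mul_cancel_left (s' : G) x]
    refine mul_mem (mem_sup_left (inv_mem ⟨s', hsO', rfl⟩)) (mem_sup_right (mem_centralizer_iff.2 fun c hc => ?_))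
    rcases mem_Ez_cases h hz he hz1 he1 hez.symm hc with rfl | rfl | rfl | rfl
    · simp
    · exact hcz.eq.symm
    · exact hce.eq.symm
    · exact (hcz.mul_right hce).eq.symm
  have hle : od K ≤ th z := by
    have hn1 : th z ≤ normalizer (od K ⊔ th z : Subgroup G) := le_sup_right.trans le_normalizer
    have hn2 : K ≤ normalizer (od K ⊔ th z : Subgroup G) :=
      fun x hx => mem_normalizer_of_cj_le (by
        rw [cj_sup, cj_eq_self (od_norm K hx), cj_eq_self (th_norm z (hKC hx))])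
    have hodd : Odd (Nat.card ↥(od K ⊔ th z)) := by
      rw [sup_comm]
      exact odd_sup (((od_le K).trans hKC).trans (th_norm z)) (th_odd z) (od_odd K)
    exact le_sup_left.trans (le_od (sup_le ((od_le K).trans hKC) (th_le z))
      (hgen.trans (sup_le hn1 hn2)) hodd)
  refine ⟨(s : G)⁻¹ * t, mul_mem (inv_mem hsth) (hle ht), n, hn, ?_⟩
  rw [mul_assoc, ← htn, inv_mul_cancel_left]

/-- An element of odd order centralising `S` lies in every `th z`. -/
theorem odd_cent_mem {z : G} (hz : z ∈ Ez S) (hz1 : z ≠ 1) {c : G}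
    (hc : c ∈ centralizer ((S : Subgroup G) : Set G)) (ho : Odd (orderOf c)) : c ∈ th z := by
  haveI : Fact (Nat.Prime 2) := ⟨Nat.prime_two⟩
  set C := centralizer ((S : Subgroup G) : Set G) with hC
  have hEC : Ez S ≤ C := fun e he => mem_centralizer_iff.2 fun x hx => he.2.2 x hx
  have hsylE : SylIn 2 (Ez S) C := by
    refine ⟨hEC, S.isPGroup'.to_le (PiClosed.omegaZ_le _), ?_⟩
    obtain ⟨R, hR, hER⟩ := exists_sylIn_ge (p := 2) (S.isPGroup'.to_le (PiClosed.omegaZ_le _)) hEC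
    have hRS : R ≤ Ez S := fun r hr => by
      have hp : IsPGroup 2 ((S : Subgroup G) ⊔ R : Subgroup G) := S.isPGroup'.to_sup_of_normal_left' hR.isPGroup
        (hR.le.trans (fun x hx => (mem_centralizer_iff.1 hx |> fun hx' => mem_normalizer_fintype fun y hy => by
          rw [← hx' y hy, mul_inv_cancel_right]; exact hy)))
      have hrS : r ∈ (S : Subgroup G) := S.is_maximal' hp le_sup_left ▸ mem_sup_right hr
      refine (mem_Ez_iff h hrS).2 (mem_center_iff.2 fun y => Subtype.ext ?_)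
      exact mem_centralizer_iff.1 (hR.le hr) y y.2
    have hRE : R = Ez S := le_antisymm hRS hER
    rw [← hRE]
    exact hR.not_dvd
  obtain ⟨Q, hQ⟩ := hsylE.exists_sylow_subgroupOf
  have hnp : Cfsg.HasNormalPComplement 2 C := hnpc_of_burnside Q fun n _ => by
    refine mem_centralizer_iff.2 fun q hq => Subtype.ext ?_
    rw [hQ] at hq
    exact mem_centralizer_iff.1 n.2 _ (PiClosed.omegaZ_le (S : Subgroup G) hq)
  set D := (pResidual 2 ↥C).map C.subtype with hD
  have hDodd : Odd (Nat.card D) := by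
    rw [hD, card_map_of_injective C.subtype_injective]
    exact Nat.coprime_two_right.1 (hnpc_iff.1 hnp)
  have hcD : c ∈ D := ⟨⟨c, hc⟩, Subgroup.subset_closure (show (orderOf (⟨c, hc⟩ : ↥C)).Coprime 2 by
    rw [Subgroup.orderOf_mk]; exact Nat.coprime_two_right.2 ho), rfl⟩
  have hNC : N1 S ≤ normalizer (C : Set G) := fun n hn => mem_normalizer_iff_cj.2 (by
    rw [hC, cj_centralizer, cj_eq_self hn.2])
  have hND : N1 S ≤ normalizer (D : Set G) := fun n hn => by
    refine mem_normalizer_fintype ?_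
    rintro _ ⟨x, hx, rfl⟩
    let φ : ↥C →* ↥C :=
      { toFun := fun y => ⟨n * y * n⁻¹, (mem_normalizer_iff.1 (hNC hn) y).1 y.2⟩
        map_one' := Subtype.ext (by simp)
        map_mul' := fun a b => Subtype.ext (by
          show n * ((a : G) * b) * n⁻¹ = n * a * n⁻¹ * (n * b * n⁻¹)
          group) }
    exact ⟨φ x, map_pResidual_le φ (mem_map_of_mem φ hx), rfl⟩
  have hCz : C ≤ centralizer ({z} : Set G) := centralizer_le (Set.singleton_subset_iff.2 hz.1)
  have hDz : D ≤ centralizer ({z} : Set G) := (map_subtype_le _).trans hCz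
  have hodd : Odd (Nat.card ↥(th z ⊔ D)) := odd_sup (hDz.trans (th_norm z)) (th_odd z) hDodd
  refine le_od (L := centralizer ({z} : Set G)) (sup_le (th_le z) hDz) (fun g hg => ?_) hodd (mem_sup_right hcD)
  obtain ⟨t, ht, n, hn, rfl⟩ := cent_decomp h hz hz1 hg
  refine mul_mem (le_normalizer (mem_sup_left ht)) (mem_normalizer_of_cj_le ?_)
  rw [cj_sup, cj_eq_self (th_norm z (N1_le_cent hz hn)), cj_eq_self (hND hn)]

/-- The part in `N1 S` of an element of an odd subgroup normalised by `S` centralises it. -/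
theorem member_le {z : G} (hz : z ∈ Ez S) (hz1 : z ≠ 1) {X : Subgroup G} (hX : Odd (Nat.card X))
    (hXz : X ≤ centralizer ({z} : Set G)) (hSX : (S : Subgroup G) ≤ normalizer (X : Set G)) : X ≤ th z := by
  intro x hx
  obtain ⟨t, ht, n, hn, rfl⟩ := cent_decomp h hz hz1 (hXz hx)
  set R := th z ⊔ X with hR
  have hRodd : Odd (Nat.card R) := odd_sup (hXz.trans (th_norm z)) (th_odd z) hX
  have hnR : n ∈ R := by
    have := mul_mem (mem_sup_left (inv_mem ht) : t⁻¹ ∈ R) (mem_sup_right hx)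
    rwa [inv_mul_cancel_left] at this
  refine mul_mem ht (odd_cent_mem h hz hz1 (mem_centralizer_iff.2 fun s hs => ?_) (orderOf_odd hRodd hnR))
  have hsR : s * n⁻¹ * s⁻¹ ∈ R := by
    have hsn : s ∈ normalizer (R : Set G) := mem_normalizer_of_cj_le (by
      rw [hR, cj_sup, cj_eq_self (th_norm z (le_cent hz hs)), cj_eq_self (hSX hs)])
    exact (mem_normalizer_iff.1 hsn _).1 (inv_mem hnR)
  have h1 : n * s * n⁻¹ * s⁻¹ ∈ (S : Subgroup G) ⊓ R := by
    refine Subgroup.mem_inf.2 ⟨mul_mem ((mem_normalizer_iff.1 hn.2 s).1 hs) (inv_mem hs), ?_⟩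
    rw [show n * s * n⁻¹ * s⁻¹ = n * (s * n⁻¹ * s⁻¹) by group]
    exact mul_mem hnR hsR
  rw [inf_odd_eq_bot S.isPGroup' hRodd, mem_bot, mul_inv_eq_one, mul_inv_eq_iff_eq_mul] at h1
  exact h1.symm

/-- An involution of `C(z)` is in `O(C(z)) E`. -/
theorem invol_mem {z u : G} (hz : z ∈ Ez S) (hz1 : z ≠ 1) (hu : u ∈ centralizer ({z} : Set G)) (hu2 : u * u = 1) :
    u ∈ th z ⊔ Ez S := by
  haveI : Fact (Nat.Prime 2) := ⟨Nat.prime_two⟩
  have hp : IsPGroup 2 (zpowers u) := by
    obtain ⟨k, -, hk⟩ := (Nat.dvd_prime_pow Nat.prime_two (m := 1)).1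
      (orderOf_dvd_of_pow_eq_one (x := u) (by rw [pow_one, pow_two, hu2]))
    exact IsPGroup.of_card (n := k) (by rw [Nat.card_zpowers, hk])
  obtain ⟨c, hc, hcS⟩ := (syl_cent hz).conj_le hp (zpowers_le.2 hu)
  have hw := mem_Ez_of_sq h (hcS (conj_mem_cj (mem_zpowers u))) (by
    rw [show c * u * c⁻¹ * (c * u * c⁻¹) = c * (u * u) * c⁻¹ by group, hu2, mul_one, mul_inv_cancel])
  obtain ⟨t, ht, n, hn, hcn⟩ := cent_decomp h hz hz1 (inv_mem hc)
  have hu' : u = t * (n * (c * u * c⁻¹) * n⁻¹) * t⁻¹ := by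
    calc u = c⁻¹ * (c * u * c⁻¹) * c⁻¹⁻¹ := by group
      _ = _ := by rw [hcn]; group
  rw [hu', show n * (c * u * c⁻¹) * n⁻¹ = c * u * c⁻¹ by
    rw [← mem_centralizer_iff.1 hn.1 _ hw, mul_inv_cancel_right]]
  exact mul_mem (mul_mem (mem_sup_left ht) (mem_sup_right hw)) (mem_sup_left (inv_mem ht))

/-- `C(S)` lies in `O(C(z)) E`. -/
theorem centS_le {z : G} (hz : z ∈ Ez S) (hz1 : z ≠ 1) :
    centralizer ((S : Subgroup G) : Set G) ≤ th z ⊔ Ez S := by
  intro c hc
  have hcN : c ∈ normalizer ((S : Subgroup G) : Set G) := mem_normalizer_fintype fun y hy => by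
    rw [← mem_centralizer_iff.1 hc y hy, mul_inv_cancel_right]; exact hy
  refine mem_of_split S hcN (fun k hk => mem_sup_left (odd_cent_mem h hz hz1 (pow_mem hc k) hk))
    fun k hk => mem_sup_right ((mem_Ez_iff h hk).2 (mem_center_iff.2 fun y => Subtype.ext ?_))
  exact mem_centralizer_iff.1 (pow_mem hc k) y y.2

/-- An element of `N1 S` fixing the class of `x` lies in `O(C(z)) S`. -/
theorem N1_fix_le {z x n : G} (hz : z ∈ Ez S) (hz1 : z ≠ 1) (hx : x ∈ (S : Subgroup G)) (hxE : x ∉ Ez S)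
    (hn : n ∈ N1 S) (hfix : n * x * n⁻¹ * x⁻¹ ∈ Ez S) : n ∈ th z ⊔ (S : Subgroup G) := by
  have hfixE : ∀ k : ℕ, ∀ e ∈ Ez S, n ^ k * e * (n ^ k)⁻¹ = e := fun k e he => by
    rw [← mem_centralizer_iff.1 (pow_mem hn.1 k) e he, mul_inv_cancel_right]
  have hcls : ∀ k : ℕ, n ^ k * x * (n ^ k)⁻¹ * x⁻¹ ∈ Ez S := by
    intro k
    induction k with
    | zero => simp
    | succ k ih =>
      have e1 : n ^ (k + 1) * x * (n ^ (k + 1))⁻¹ * x⁻¹ =
          n * (n ^ k * x * (n ^ k)⁻¹ * x⁻¹) * n⁻¹ * (n * x * n⁻¹ * x⁻¹) := by rw [pow_succ']; group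
      rw [e1]
      refine mul_mem ?_ hfix
      have := hfixE 1 _ ih
      rw [pow_one] at this
      rwa [this]
  exact mem_of_split S hn.2 (fun k hk => mem_sup_left (odd_cent_mem h hz hz1
    (centralizes_of_fix h (pow_mem hn.2 k) hk (hfixE k) hx hxE (hcls k)) hk)) fun k hk => mem_sup_right hk

/-- The centraliser of a square root of `z`. -/
theorem root_cent_le {z s : G} (hz : z ∈ Ez S) (hz1 : z ≠ 1) (hs : s ∈ (S : Subgroup G)) (hss : s * s = z) :
    centralizer ({s} : Set G) ≤ th z ⊔ ((S : Subgroup G) ⊓ centralizer ({s} : Set G)) := by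
  intro g hg
  have hgs : Commute g s := mem_centralizer_singleton_iff.1 hg
  have hgz : g ∈ centralizer ({z} : Set G) := mem_centralizer_singleton_iff.2 (hss ▸ hgs.mul_right hgs).eq
  have hsE : s ∉ Ez S := fun hE => hz1 (hss ▸ hE.2.1)
  obtain ⟨t, ht, n, hn, rfl⟩ := cent_decomp h hz hz1 hgz
  have h1 : n * s * n⁻¹ * s⁻¹ ∈ (S : Subgroup G) ⊓ th z := by
    refine Subgroup.mem_inf.2 ⟨mul_mem ((mem_normalizer_iff.1 hn.2 s).1 hs) (inv_mem hs), ?_⟩
    have e1 : n * s * n⁻¹ * s⁻¹ = t⁻¹ * (s * t * s⁻¹) := by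
      have e2 : n * s = t⁻¹ * s * t * n := by
        rw [eq_comm]; calc t⁻¹ * s * t * n = t⁻¹ * (s * (t * n)) := by group
          _ = t⁻¹ * (t * n * s) := by rw [hgs.eq]
          _ = n * s := by group
      rw [e2]; group
    rw [e1]
    exact mul_mem (inv_mem ht) ((mem_normalizer_iff.1 (th_norm z (le_cent hz hs)) t).1 ht)
  rw [inf_th_eq_bot, mem_bot] at h1
  have hns : Commute n s := mul_inv_eq_iff_eq_mul.1 (mul_inv_eq_one.1 h1)
  refine mul_mem (mem_sup_left ht) (mem_of_split S hn.2 (fun k hk => mem_sup_left (odd_cent_mem h hz hz1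
    (centralizes_of_fix h (pow_mem hn.2 k) hk (fun e he => by
      rw [← mem_centralizer_iff.1 (pow_mem hn.1 k) e he, mul_inv_cancel_right]) hs hsE (by
      rw [(hns.pow_left k).eq, mul_inv_cancel_right, mul_inv_cancel]; exact one_mem _)) hk))
    fun k hk => mem_sup_right ⟨hk, mem_centralizer_singleton_iff.2 (hns.pow_left k).eq⟩)

/-- `O(C(z)) S` has index at most five in `C(z)`. -/
theorem card_cent_le {z : G} (hz : z ∈ Ez S) (hz1 : z ≠ 1) :
    Nat.card (centralizer ({z} : Set G)) ≤ 320 * Nat.card (th z) := by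
  classical
  set C := centralizer ({z} : Set G)
  obtain ⟨x, hx, hxz, hxE⟩ := exists_root h hz hz1
  set H := th z ⊔ (S : Subgroup G) with hH
  have hHC : H ≤ C := sup_le (th_le z) (le_cent hz)
  -- the classes of the roots of `z`
  let Q : Type u := {q : G // q ∈ (S : Subgroup G) ∧ q * q = z}
  let r : Q → Q → Prop := fun a b => (a : G)⁻¹ * b ∈ Ez S
  have hr : Equivalence r :=
    ⟨fun a => by show (a : G)⁻¹ * a ∈ Ez S; rw [inv_mul_cancel]; exact one_mem _,
      fun {a b} hab => by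
        show (b : G)⁻¹ * a ∈ Ez S
        rw [show (b : G)⁻¹ * a = ((a : G)⁻¹ * b)⁻¹ by group]; exact inv_mem hab,
      fun {a b c} hab hbc => by
        show (a : G)⁻¹ * c ∈ Ez S
        rw [show (a : G)⁻¹ * c = ((a : G)⁻¹ * b) * ((b : G)⁻¹ * c) by group]; exact mul_mem hab hbc⟩
  let st : Setoid Q := ⟨r, hr⟩
  have hQ : Nat.card (Quotient st) * 4 ≤ 20 := by
    have hmem : ∀ (q : Quotient st) (e : Ez S), q.out.1 * e ∈ (S : Subgroup G) ∧ q.out.1 * e * (q.out.1 * e) = z :=
      fun q e => ⟨mul_mem q.out.2.1 e.2.1, by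
        rw [show q.out.1 * (e : G) * (q.out.1 * e) = q.out.1 * (e * q.out.1) * e by group,
          (commute_Ez q.out.2.1 e.2).eq.symm, show q.out.1 * (q.out.1 * (e : G)) * e = q.out.1 * q.out.1 * (e * e) by
            group, e.2.2.1, mul_one, q.out.2.2]⟩
    have hinj : Function.Injective (fun p : Quotient st × Ez S => (⟨_, hmem p.1 p.2⟩ : Q)) := by
      rintro ⟨q, e⟩ ⟨q', e'⟩ he
      have he' : q.out.1 * (e : G) = q'.out.1 * e' := congrArg Subtype.val he
      have hq : q = q' := by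
        rw [← Quotient.out_eq q, ← Quotient.out_eq q']
        refine Quotient.sound ?_
        show (q.out : G)⁻¹ * q'.out ∈ Ez S
        rw [show (q.out : G)⁻¹ * q'.out = (e : G) * (e' : G)⁻¹ by
          rw [eq_mul_inv_iff_mul_eq, mul_assoc, ← he', inv_mul_cancel_left]]
        exact mul_mem e.2 (inv_mem e'.2)
      subst hq
      exact Prod.ext rfl (Subtype.ext (mul_left_cancel he'))
    have := Nat.card_le_card_of_injective _ hinj
    rw [Nat.card_prod, card_Ez h, show Nat.card Q = 20 from card_fibre h hz hz1] at this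
    exact this
  -- coset representatives in `N1 S`
  have hrep : ∀ c : ↥C ⧸ H.subgroupOf C, ∃ n : ↥(N1 S), (QuotientGroup.mk ⟨(n : G), N1_le_cent hz n.2⟩ :
      ↥C ⧸ H.subgroupOf C) = c := by
    intro c
    induction c using QuotientGroup.induction_on with | _ g =>
    obtain ⟨t, ht, n, hn, hgn⟩ := cent_decomp h hz hz1 g.2
    refine ⟨⟨n, hn⟩, QuotientGroup.eq.2 ?_⟩
    rw [mem_subgroupOf]
    show n⁻¹ * (g : G) ∈ H
    rw [hgn]
    exact mem_sup_left ((mem_normalizer_iff.1 (th_norm z (inv_mem (N1_le_cent hz hn))) t).1 ht |> fun h' => by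
      rwa [show n⁻¹ * t * n⁻¹⁻¹ = n⁻¹ * (t * n) by group] at h')
  choose rep hrep using hrep
  have hroot : ∀ n : ↥(N1 S), (n : G) * x * (n : G)⁻¹ ∈ (S : Subgroup G) ∧
      (n : G) * x * (n : G)⁻¹ * ((n : G) * x * (n : G)⁻¹) = z := fun n =>
    ⟨(mem_normalizer_iff.1 n.2.2 x).1 hx, by
      rw [show (n : G) * x * (n : G)⁻¹ * ((n : G) * x * (n : G)⁻¹) = (n : G) * (x * x) * (n : G)⁻¹ by group, hxz,
        ← mem_centralizer_iff.1 n.2.1 z hz, mul_inv_cancel_right]⟩
  have hinj : Function.Injective (fun c => Quotient.mk st (⟨_, hroot (rep c)⟩ : Q)) := by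
    intro c c' hcc
    rw [← hrep c, ← hrep c']
    refine QuotientGroup.eq.2 ?_
    rw [mem_subgroupOf]
    have hrr : ((rep c : G) * x * (rep c : G)⁻¹)⁻¹ * ((rep c' : G) * x * (rep c' : G)⁻¹) ∈ Ez S := Quotient.exact hcc
    show ((rep c : G))⁻¹ * (rep c' : G) ∈ H
    set n := (rep c : G)⁻¹ * (rep c' : G) with hn
    have hnN : n ∈ N1 S := mul_mem (inv_mem (rep c).2) (rep c').2
    refine N1_fix_le h hz hz1 hx hxE hnN ?_
    have h2 : x⁻¹ * (n * x * n⁻¹) ∈ Ez S := by
      rw [show x⁻¹ * (n * x * n⁻¹) = (rep c : G)⁻¹ * (((rep c : G) * x * (rep c : G)⁻¹)⁻¹ *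
        ((rep c' : G) * x * (rep c' : G)⁻¹)) * (rep c : G) by rw [hn]; group,
        mul_assoc, mem_centralizer_iff.1 (rep c).2.1 _ hrr, inv_mul_cancel_left]
      exact hrr
    rw [show n * x * n⁻¹ * x⁻¹ = x * (x⁻¹ * (n * x * n⁻¹)) * x⁻¹ by group,
      (commute_Ez hx h2).eq, mul_inv_cancel_right]
    exact h2
  have hidx : Nat.card (↥C ⧸ H.subgroupOf C) ≤ 5 := by
    have := Nat.card_le_card_of_injective _ hinj
    omega
  have hHcard : Nat.card H ≤ 64 * Nat.card (th z) := by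
    have := Solv.card_sup_mul_card_inf' (th z) (S : Subgroup G) ((le_cent hz).trans (th_norm z))
    rw [inf_comm, inf_th_eq_bot, card_bot, mul_one, h.card, mul_comm] at this
    exact this.le
  rw [Subgroup.card_eq_card_quotient_mul_card_subgroup (H.subgroupOf C),
    Nat.card_congr (subgroupOfEquivOfLe hHC).toEquiv]
  calc _ ≤ 5 * (64 * Nat.card (th z)) := Nat.mul_le_mul hidx hHcard
    _ = _ := by ring

end Cfsg.Agent.UFour
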