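import Cfsg.Agent.Lib.UFour.CharSection
import Cfsg.Agent.Lib.Char.SectionPart

/-!
# The second main theorem at an odd prime, when the centralisers centralise a single conjugate of an involution
-/

set_option autoImplicit false
set_option linter.unusedSectionVars false
set_option linter.style.haveILetI false

open Cfsg Cfsg.Agent
open scoped ComplexConjugate

namespace Cfsg.Agent.UFour

universe u

variable {G : Type u} [Group G] [Finite G]

open scoped Classical in
/-- The values on `zP` differ from those on `P` by a single sign. -/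
theorem exists_sign {p : ℕ} [Fact p.Prime] (hp2 : p ≠ 2) {z : G} (hz : orderOf z = 2)
    (P : Subgroup G) (hP : IsPGroup p ↥P)
    (hcen : ∀ y ∈ P, y ≠ 1 → Subgroup.centralizer ({y} : Set G) ≤ Subgroup.centralizer ({z} : Set G))
    (huniq : ∀ y ∈ P, y ≠ 1 → ∀ g : G, Commute (g * z * g⁻¹) y → g * z * g⁻¹ = z)
    (χ : IrrCharacter G) :
    ∃ ε : ℤ, (ε = 1 ∨ ε = -1) ∧ ∀ y ∈ P, y ≠ 1 → (χ : G → ℂ) (z * y) = (ε : ℂ) * (χ : G → ℂ) y := by
  haveI : Fintype G := Fintype.ofFinite G
  have hp : p.Prime := Fact.out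
  obtain ⟨M, hM⟩ := Char.exists_pModular hp
  have hMp := Char.pmod_prime hM
  set w := centralChar (χ : G → ℂ) z with hw
  set ε : ℤ := if MemLocalIdeal M (1 - w) then 1 else -1 with hε
  have hε1 : ε = 1 ∨ ε = -1 := by
    rw [hε]
    split_ifs <;> simp
  refine ⟨ε, hε1, fun y hy hy1 => ?_⟩
  haveI : Fintype ↥(Subgroup.centralizer ({y} : Set G)) := Fintype.ofFinite _
  have hyy : y ∈ Subgroup.centralizer ({y} : Set G) := Subgroup.mem_centralizer_singleton_iff.2 rfl
  have hzy : y * z = z * y := Subgroup.mem_centralizer_singleton_iff.1 (hcen y hy hy1 hyy)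
  have hzC : z ∈ Subgroup.centralizer ({y} : Set G) := Subgroup.mem_centralizer_singleton_iff.2 hzy.symm
  set z' : ↥(Subgroup.centralizer ({y} : Set G)) := ⟨z, hzC⟩ with hz'
  have hz'c : z' ∈ Subgroup.center ↥(Subgroup.centralizer ({y} : Set G)) := Subgroup.mem_center_iff.2 fun c =>
    Subtype.ext (Subgroup.mem_centralizer_singleton_iff.1 (hcen y hy hy1 c.2))
  have hzz : z * z = 1 := by
    rw [← sq, ← hz]; exact pow_orderOf_eq_one z
  have hz'z : z' * z' = 1 := Subtype.ext hzz
  have hx : ∃ k : ℕ, orderOf y = p ^ k := by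
    obtain ⟨k, hk⟩ := IsPGroup.iff_orderOf.1 hP ⟨y, hy⟩
    exact ⟨k, by rw [← hk, Subgroup.orderOf_mk]⟩
  have hzreg : ¬ p ∣ orderOf z' := by
    rw [hz', Subgroup.orderOf_mk, hz]
    exact fun h => hp2 ((Nat.prime_dvd_prime_iff_eq hp Nat.prime_two).1 h)
  have h1reg : ¬ p ∣ orderOf (1 : ↥(Subgroup.centralizer ({y} : Set G))) := by simp [hp.ne_one]
  set B := blockOf M (χ : G → ℂ) with hB
  have hBb : IsPBlock M B := Char.isPBlock_blockOf M χ
  have hχB : χ ∈ B := Char.self_mem_blockOf hMp χ
  have hcl := Char.isClassFunction_secFun (x := y) (Char.isClassFunction_character (Char.irr_isCharacter χ.2))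
  set θ := Char.secFun y (χ : G → ℂ) with hθ
  have hloc : ∀ b : Set (IrrCharacter ↥(Subgroup.centralizer ({y} : Set G))), IsPBlock M b →
      blockPart b θ z' = (ε : ℂ) * blockPart b θ 1 := by
    intro b hb
    by_cases hind : IsInducedBlock M (Subgroup.centralizer ({y} : Set G)) b B
    · rw [Char.blockPart_eq, Char.blockPart_eq, Finset.mul_sum]
      refine Finset.sum_congr rfl fun ξ hξ => ?_
      obtain ⟨σ, hσ, hσv⟩ := central_sign ξ.2 hz'c hz'z
      have hξ1 : (ξ : ↥(Subgroup.centralizer ({y} : Set G)) → ℂ) z' = (σ : ℂ) * (ξ : ↥(Subgroup.centralizer ({y} : Set G)) → ℂ) 1 := by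
        have e := hσv 1
        rwa [mul_one] at e
      have hset : {h : ↥(Subgroup.centralizer ({y} : Set G)) | IsConj z (h : G)} = {z'} := by
        ext h
        simp only [Set.mem_ofPred_eq, Set.mem_singleton_iff]
        refine ⟨fun hh => ?_, fun hh => by subst hh; exact IsConj.refl _⟩
        obtain ⟨g, hg⟩ := isConj_iff.1 hh
        refine Subtype.ext ?_
        rw [← hg]
        refine huniq y hy hy1 g ?_
        rw [hg]
        exact Subgroup.mem_centralizer_singleton_iff.1 h.2
      have hind' : inducedCentralChar (Subgroup.centralizer ({y} : Set G)) (ξ : ↥(Subgroup.centralizer ({y} : Set G)) → ℂ) z = (σ : ℂ) := by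
        rw [inducedCentralChar, hset, finsum_mem_singleton, hξ1,
          mul_div_assoc, div_self (Char.irr_one_ne_zero ξ.2), mul_one]
      have hcongr := hind.2.2 ξ (Finset.mem_filter.1 hξ).2 χ hχB z
      rw [hind', ← hw] at hcongr
      have hσε : σ = ε := by
        rcases hσ with rfl | rfl
        · rw [hε, if_pos (by simpa using hcongr)]
        · rw [hε, if_neg fun h1 => hp2 ?_]
          have e := Char.memLI_sub hMp h1 hcongr
          have e2 : ((2 : ℕ) : ℂ) = 1 - w - (((-1 : ℤ) : ℂ) - w) := by push_cast; ring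
          rw [← e2] at e
          exact (Nat.prime_dvd_prime_iff_eq hp Nat.prime_two).1 ((Char.memLI_natCast_iff hM 2).1 e)
      rw [hξ1, hσε]
      ring
    · rw [Char.blockPart_secFun_eq_zero hM hx hBb χ hχB hb hind z' hzreg,
        Char.blockPart_secFun_eq_zero hM hx hBb χ hχB hb hind 1 h1reg, mul_zero]
  have key : θ z' = (ε : ℂ) * θ 1 := by
    rw [Char.eq_sum_blockPart hMp hcl z', Char.eq_sum_blockPart hMp hcl 1, Finset.mul_sum]
    refine Finset.sum_congr rfl fun b hb => ?_
    obtain ⟨ξ, -, rfl⟩ := Finset.mem_image.1 hb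
    exact hloc _ (Char.isPBlock_blockOf M ξ)
  simp only [hθ, Char.secFun, hz', OneMemClass.coe_one, mul_one] at key
  rw [← hzy]
  exact key

end Cfsg.Agent.UFour
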