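import Cfsg.Agent.Lib.UFour.CentAbelian
import Cfsg.Agent.Lib.Fusion.TwoNilpCent.UFour

/-!
# An inverted core of order eighty-one

An element of order five in `N1 S` would commute with an element of order three moving `z`; without one the centralisers
of the involutions have normal 2-complements.
-/

set_option autoImplicit false
set_option linter.style.haveILetI false
set_option linter.unusedSectionVars false

namespace Cfsg.Agent.UFour

open Subgroup Cfsg.Agent Cfsg.Agent.Fusion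
open scoped commutatorElement Pointwise

universe u

variable {G : Type u} [Group G] [Finite G] {S : Sylow 2 G}

theorem exists_pow_mem_th (h : U4 (S : Subgroup G)) {z : G} (hz : z ∈ Ez S) (hz1 : z ≠ 1) {g : G}
    (hg : g ∈ centralizer ({z} : Set G)) : ∃ j : ℕ, g ^ (2 ^ j * 5) ∈ th z := by
  obtain ⟨t, ht, n, hn, rfl⟩ := cent_decomp h hz hz1 hg
  obtain ⟨a, m, -, ho, -⟩ := exists_split S hn.2
  have h5 : n ^ (2 ^ a * 5) ∈ th z := by
    rw [pow_mul]
    refine odd_cent_mem h hz hz1 (pow_five' h (pow_mem hn.2 _) ho fun e he => ?_) (ho.of_dvd_nat (orderOf_pow_dvd 5))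
    rw [← mem_centralizer_iff.1 (pow_mem hn.1 _) e he, mul_inv_cancel_right]
  have hk : ∀ k : ℕ, (t * n) ^ k * (n ^ k)⁻¹ ∈ th z := fun k => by
    induction k with
    | zero => simp
    | succ k ih =>
      rw [pow_succ', pow_succ', show t * n * (t * n) ^ k * (n * n ^ k)⁻¹ =
        t * (n * ((t * n) ^ k * (n ^ k)⁻¹) * n⁻¹) by group]
      exact mul_mem ht ((mem_normalizer_iff.1 (th_norm z (N1_le_cent hz hn)) _).1 ih)
  refine ⟨a, ?_⟩
  have := mul_mem (hk (2 ^ a * 5)) h5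
  rwa [inv_mul_cancel_right] at this

theorem mem_th_of_three (h : U4 (S : Subgroup G)) {z : G} (hz : z ∈ Ez S) (hz1 : z ≠ 1) {g : G}
    (hg : g ∈ centralizer ({z} : Set G)) {i : ℕ} (h3 : g ^ 3 ^ i = 1) : g ∈ th z := by
  obtain ⟨j, hj⟩ := exists_pow_mem_th h hz hz1 hg
  refine mem_of_pow_coprime ((Nat.Coprime.pow_left i ?_)) (by rw [h3]; exact one_mem _ : g ^ 3 ^ i ∈ th z) hj
  exact Nat.Coprime.mul_right (Nat.Coprime.pow_right j (by norm_num)) (by norm_num)

theorem hnpc_of_split {C K R : Subgroup G} (hK : K ≤ C) (hKn : C ≤ normalizer (K : Set G))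
    (hKo : Odd (Nat.card K)) (hR : R ≤ C) (hRp : IsPGroup 2 R) (hCR : C ≤ K ⊔ R) :
    Cfsg.HasNormalPComplement 2 C := by
  haveI : Fact (Nat.Prime 2) := ⟨Nat.prime_two⟩
  obtain ⟨P, hP⟩ := (hRp.comap_subtype : IsPGroup 2 (R.subgroupOf C)).exists_le_sylow
  haveI : (K.subgroupOf C).Normal := normal_subgroupOf_of_le_normalizer hKn
  refine ⟨P, K.subgroupOf C, inferInstance, isComplement'_of_disjoint_and_mul_eq_univ ?_ ?_⟩
  · rw [disjoint_iff, inf_comm]
    exact inf_odd_eq_bot P.isPGroup' (by rw [Nat.card_congr (subgroupOfEquivOfLe hK).toEquiv]; exact hKo)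
  · rw [← Subgroup.normal_mul, Set.eq_univ_iff_forall]
    intro x
    obtain ⟨k, hk, r, hr, hx⟩ := exists_sup_mul (hR.trans hKn) (hCR x.2)
    rw [SetLike.mem_coe, show x = (⟨k, hK hk⟩ : C) * ⟨r, hR hr⟩ from Subtype.ext hx]
    exact mul_mem (mem_sup_left (mem_subgroupOf.2 hk)) (mem_sup_right (hP (mem_subgroupOf.2 hr)))

namespace Ctx

variable (c : Ctx S)
include c

/-- Without an element of order five in `N1 S` the centralisers of involutions have normal 2-complements. -/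
theorem no_five_false {z : G} (hz : z ∈ Ez S) (hz1 : z ≠ 1) (hcz : centralizer ({z} : Set G) ≤ th z ⊔ (S : Subgroup G)) :
    False := by
  haveI := c.simple
  refine TwoNilpCent.not_unitary_type c.nonab (fun t ht => ?_) S (fun x hx h2 => mem_Ez_of_sq c.u4 hx h2)
    (facts_planes c.u4)
  have ht2 : t * t = 1 := by rw [← pow_two, ← ht]; exact pow_orderOf_eq_one t
  have ht1 : t ≠ 1 := fun e => by rw [e, orderOf_one] at ht; omega
  obtain ⟨g, hg⟩ := exists_conj_mem_Ez c.u4 ht2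
  obtain ⟨m, hm, hmz⟩ := c.exists_to hz hz1 hg (fun e => ht1 (conj_eq_one_iff.1 e))
  -- `t` is a conjugate of `z`
  set k := g⁻¹ * m with hk
  have htk : k * z * k⁻¹ = t := by
    rw [hk, show g⁻¹ * m * z * (g⁻¹ * m)⁻¹ = g⁻¹ * (m * z * m⁻¹) * g by group, hmz]; group
  have hC : cj (centralizer ({z} : Set G)) k = centralizer ({t} : Set G) := by rw [cj_cent, htk]
  have hle := (cj_mono hcz k)
  rw [cj_sup, th_cj, htk, hC] at hle
  refine hnpc_of_split (th_le t) (th_norm t) (th_odd t) ?_ (isPGroup_cj S.isPGroup' k) hle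
  rw [← hC]; exact cj_mono (le_cent hz) k

/-- An inverted core of order eighty-one. -/
theorem eighty_one_false {z : G} (hz : z ∈ Ez S) (hz1 : z ≠ 1) (hT : Iv S z (th z)) (h81 : Nat.card (th z) = 81)
    (hT3 : ∀ a ∈ th z, a ^ 3 = 1) (hcen : ∀ y ∈ th z, y ≠ 1 → centralizer ({y} : Set G) ≤ centralizer ({z} : Set G))
    (huniq : ∀ y ∈ th z, y ≠ 1 → ∀ g : G, Commute (g * z * g⁻¹) y → g * z * g⁻¹ = z) : False := by
  classical
  haveI : Fact (Nat.Prime 3) := ⟨Nat.prime_three⟩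
  haveI : Fact (Nat.Prime 5) := ⟨Nat.prime_five⟩
  haveI : Fact (Nat.Prime 2) := ⟨Nat.prime_two⟩
  set T := th z with hTdef
  have hTp : IsPGroup 3 T := isPGroup_of_pow hT3
  obtain ⟨e, he, he1, hez⟩ := exists_other c.u4 hz
  have hNT : ∀ x ∈ N1 S, x ∈ T → x = 1 := fun x hx hxT => by
    have h1 := hT.inv x hxT e he he1 hez
    rw [mem_centralizer_iff.1 hx.1 e he, mul_inv_cancel_right] at h1
    exact eq_one_of_inv_eq h1.symm (orderOf_odd (th_odd z) hxT)
  have hfive : ∀ n ∈ N1 S, Odd (orderOf n) → n ^ 5 = 1 := fun n hn ho =>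
    hNT _ (pow_mem hn 5) (odd_cent_mem c.u4 hz hz1 (pow_five' c.u4 hn.2 ho fun w hw => by
      rw [← mem_centralizer_iff.1 hn.1 w hw, mul_inv_cancel_right]) (ho.of_dvd_nat (orderOf_pow_dvd 5)))
  by_cases hA : ∀ n ∈ N1 S, n ^ 5 = 1 → n = 1
  · refine c.no_five_false hz hz1 fun g hg => ?_
    obtain ⟨t, ht, n, hn, rfl⟩ := cent_decomp c.u4 hz hz1 hg
    refine mul_mem (mem_sup_left ht) (mem_sup_right (mem_of_split S hn.2 (fun k hk => ?_) fun k hk => hk))
    rw [hA _ (pow_mem hn k) (hfive _ (pow_mem hn k) hk)]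
    exact one_mem _
  push Not at hA
  obtain ⟨u₀, hu₀, hu₀5, hu₀1⟩ := hA
  have hu₀o : orderOf u₀ = 5 := orderOf_eq_prime hu₀5 hu₀1
  -- `N1 S` has order 320
  have hN320 : Nat.card (N1 S) = 320 := by
    have hinf : T ⊓ N1 S = ⊥ := (Subgroup.eq_bot_iff_forall _).2 fun x hx => hNT x hx.2 hx.1
    have h1 := Solv.card_sup_mul_card_inf' T (N1 S) ((N1_le_cent hz).trans (th_norm z))
    rw [hinf, card_bot, mul_one] at h1
    have h2 : Nat.card T * Nat.card (N1 S) ≤ Nat.card T * 320 := by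
      rw [← h1, mul_comm _ 320]
      exact (card_le_of_le (sup_le (th_le z) (N1_le_cent hz))).trans (card_cent_le c.u4 hz hz1)
    have h3 := Nat.le_of_mul_le_mul_left h2 Nat.card_pos
    have h64 : 64 ∣ Nat.card (N1 S) := c.u4.card ▸ card_dvd_of_le sylow_le_N1
    have h5 : 5 ∣ Nat.card (N1 S) := hu₀o ▸ orderOf_dvd_natCard (N1 S) hu₀
    have := Nat.le_of_dvd Nat.card_pos (Nat.Coprime.mul_dvd_of_dvd_of_dvd (by norm_num) h64 h5)
    omega
  -- an element of 3-power order moving `z`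
  obtain ⟨n₀, hn₀, hn₀z⟩ := c.exists_mover hz hz1
  have hn3 : n₀ ^ 3 * z * (n₀ ^ 3)⁻¹ = z := by
    have hinj : ∀ {x y : G}, n₀ * x * n₀⁻¹ = n₀ * y * n₀⁻¹ → x = y := fun e => mul_left_cancel (mul_right_cancel e)
    set a := n₀ * z * n₀⁻¹ with ha
    have haE : a ∈ Ez S := PiClosed.omegaZ_normalizer hn₀ hz
    have hb := PiClosed.omegaZ_normalizer hn₀ haE
    have ha1 : a ≠ 1 := fun e => hz1 (conj_eq_one_iff.1 e)
    have hb1 : n₀ * a * n₀⁻¹ ≠ 1 := fun e => ha1 (conj_eq_one_iff.1 e)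
    rw [show n₀ ^ 3 * z * (n₀ ^ 3)⁻¹ = n₀ * (n₀ * a * n₀⁻¹) * n₀⁻¹ by rw [ha, pow_succ, pow_two]; group]
    rcases cycle c.u4 hn₀ hz hz1 hn₀z (PiClosed.omegaZ_normalizer hn₀ hb) (fun e => hb1 (conj_eq_one_iff.1 e))
      with h' | h' | h'
    · exact h'
    · exact absurd (hinj h') (c.moves_all hn₀ hz hz1 hn₀z hz hz1 |> fun _ => fun e => by
        have h4 : n₀ * n₀ * z * (n₀ * n₀)⁻¹ = z := by
          rw [show n₀ * n₀ * z * (n₀ * n₀)⁻¹ = n₀ * a * n₀⁻¹ by rw [ha]; group, e]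
        exact hn₀z (conj_eq_of_commute (commute_of_sq hn₀ hz (commute_of_conj_eq h4))))
    · exact absurd (hinj h') (c.moves_all hn₀ hz hz1 hn₀z haE ha1)
  obtain ⟨i, m, hm, hnm⟩ := Nat.exists_eq_pow_mul_and_not_dvd (orderOf_pos n₀).ne' 3 (by norm_num)
  set ρ := n₀ ^ m with hρ
  have hρ3 : ρ ^ 3 ^ i = 1 := by rw [hρ, ← pow_mul, mul_comm, ← hnm, pow_orderOf_eq_one]
  have hρN : ρ ∈ normalizer ((S : Subgroup G) : Set G) := pow_mem hn₀ m
  have hρz : ρ * z * ρ⁻¹ ≠ z := fun h => hn₀z (conj_eq_of_commute (mem_cent_singleton.1 (mem_of_pow_coprime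
    ((Nat.Prime.coprime_iff_not_dvd Nat.prime_three).2 hm)
    (mem_cent_singleton.2 (commute_of_conj_eq hn3)) (mem_cent_singleton.2 (commute_of_conj_eq h)))))
  have hρ1 : ρ ≠ 1 := fun e => hρz (by rw [e]; group)
  -- it centralises an element of order five
  have hρN1 : zpowers ρ ≤ normalizer (N1 S : Set G) := zpowers_le.2 (mem_normalizer_iff_cj.2 (by
    have hE : ρ ∈ normalizer (Ez S : Set G) := mem_normalizer_fintype fun w hw => PiClosed.omegaZ_normalizer hρN hw
    rw [N1, cj_inf, cj_centralizer, cj_eq_self hE, cj_eq_self (le_normalizer hρN)]))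
  have hρp : IsPGroup 3 (zpowers ρ) := by
    obtain ⟨k, -, hk⟩ := (Nat.dvd_prime_pow Nat.prime_three).1 (orderOf_dvd_of_pow_eq_one hρ3)
    exact IsPGroup.of_card (n := k) (by rw [Nat.card_zpowers, hk])
  have hρsol : Group.IsSolvable (zpowers ρ) := by haveI := hρp.isNilpotent; infer_instance
  obtain ⟨P, hP, -, hρP⟩ := Solv.exists_invariant_sylow_ge (A := zpowers ρ) (K := N1 S) (p := 5) hρN1 (by
    obtain ⟨k, hk⟩ := IsPGroup.iff_card.1 hρp
    rw [hk, hN320]; exact Nat.Coprime.pow_left k (by norm_num)) (Or.inl hρsol) ⊥ bot_le IsPGroup.of_bot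
    (fun a _ => mem_normalizer_fintype fun x hx => by rw [Subgroup.mem_bot.1 hx]; simp)
  have hP5 : Nat.card P = 5 := by
    obtain ⟨k, hk⟩ := IsPGroup.iff_card.1 hP.isPGroup
    have hd : 5 ^ k ∣ 320 := hk ▸ hN320 ▸ card_dvd_of_le hP.1
    have hk0 : k ≠ 0 := fun e' => by
      have h1 := hP.2
      rw [hk, e'] at h1
      have h2 := Nat.Prime.factorization_pos_of_dvd Nat.prime_five (Nat.card_pos (α := N1 S)).ne' (hN320 ▸ by norm_num)
      have := Nat.one_lt_pow h2.ne' (show 1 < 5 by norm_num)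
      rw [pow_zero] at h1; omega
    have hk2 : k < 2 := by
      by_contra h2
      exact absurd ((pow_dvd_pow 5 (show 2 ≤ k by omega)).trans hd) (by norm_num)
    rw [hk, show k = 1 by omega, pow_one]
  haveI : IsCyclic P := isCyclic_of_prime_card hP5
  obtain ⟨⟨u, huP⟩, hu⟩ := IsCyclic.exists_generator (α := P)
  have hu1 : orderOf u = 5 := by
    rw [← hP5, ← orderOf_eq_card_of_forall_mem_zpowers hu, Subgroup.orderOf_mk]
  have hρu : Commute ρ u := by
    obtain ⟨r, hr⟩ := mem_powers_iff_mem_zpowers.2 (hu ⟨ρ * u * ρ⁻¹,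
      (mem_normalizer_iff.1 (hρP (mem_zpowers ρ)) u).1 huP⟩)
    have hr' : u ^ r = ρ * u * ρ⁻¹ := congrArg Subtype.val hr
    have hit : ∀ k : ℕ, ρ ^ k * u * (ρ ^ k)⁻¹ = u ^ (r ^ k) := fun k => by
      induction k with
      | zero => simp
      | succ k ih =>
        rw [pow_succ', show ρ * ρ ^ k * u * (ρ * ρ ^ k)⁻¹ = ρ * (ρ ^ k * u * (ρ ^ k)⁻¹) * ρ⁻¹ by group, ih,
          ← conj_pow, ← hr', ← pow_mul, pow_succ' r k]
    have h1 := hit (3 ^ i)
    rw [hρ3, one_mul, inv_one, mul_one] at h1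
    have h2 : (r : ZMod 5) ^ 3 ^ i = 1 := by
      have := (pow_eq_pow_iff_modEq (x := u) (n := 1) (m := r ^ 3 ^ i)).1 (by rw [pow_one]; exact h1)
      rw [hu1, ← ZMod.natCast_eq_natCast_iff] at this
      push_cast at this
      exact this.symm
    have h4 : (r : ZMod 5) ^ 4 = 1 := ZMod.pow_card_sub_one_eq_one (p := 5) fun e0 => by
      rw [e0, zero_pow (pow_ne_zero i (by norm_num))] at h2; exact zero_ne_one h2
    have h5 : (r : ZMod 5) = 1 := orderOf_eq_one_iff.1 (Nat.eq_one_of_dvd_coprimes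
      (Nat.Coprime.pow_left i (by norm_num : Nat.Coprime 3 4)) (orderOf_dvd_of_pow_eq_one h2)
      (orderOf_dvd_of_pow_eq_one h4))
    refine commute_of_conj_eq ?_
    rw [← hr']
    conv_rhs => rw [← pow_one u]
    refine pow_eq_pow_iff_modEq.2 ?_
    rw [hu1, ← ZMod.natCast_eq_natCast_iff]
    exact_mod_cast h5
  -- `T` is a Sylow 3-subgroup
  obtain ⟨Q, hTQ⟩ := hTp.exists_le_sylow
  have hQT : T = (Q : Subgroup G) := by
    by_contra hne
    obtain ⟨g, hg, hgT⟩ := SetLike.exists_of_lt (SylIn.normalizer_growth hTQ hne Q.isPGroup')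
    obtain ⟨hgQ, hgN⟩ := mem_inf.1 hg
    obtain ⟨b, hb, hb1⟩ : ∃ b ∈ T, b ≠ 1 := by
      by_contra hh; push Not at hh
      exact hT.ne ((Subgroup.eq_bot_iff_forall _).2 hh)
    have hb' : g⁻¹ * b * g ∈ T := by
      have := (mem_normalizer_iff.1 (inv_mem hgN) b).1 hb
      rwa [inv_inv] at this
    have h1 : Commute (g * z * g⁻¹) b := by
      have hc := mem_cent_singleton.1 (th_le z hb')
      show g * z * g⁻¹ * b = b * (g * z * g⁻¹)
      rw [show g * z * g⁻¹ * b = g * (z * (g⁻¹ * b * g)) * g⁻¹ by group, hc.symm.eq]; group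
    have hgz : g ∈ centralizer ({z} : Set G) := mem_cent_singleton.2 (commute_of_conj_eq (huniq b hb hb1 g h1))
    obtain ⟨k, hk⟩ := Q.isPGroup' ⟨g, hgQ⟩
    exact hgT (mem_th_of_three c.u4 hz hz1 hgz (congrArg Subtype.val hk))
  obtain ⟨Q', hQ'⟩ := hρp.exists_le_sylow
  obtain ⟨g, hg⟩ := MulAction.exists_smul_eq G Q' Q
  set b := g * ρ * g⁻¹ with hb
  set u' := g * u * g⁻¹ with hu'
  have hbT : b ∈ T := by
    rw [hQT, ← hg]
    exact ⟨ρ, hQ' (mem_zpowers ρ), rfl⟩
  have hb1 : b ≠ 1 := fun e => hρ1 (conj_eq_one_iff.1 e)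
  have hbu : Commute u' b := by
    show g * u * g⁻¹ * (g * ρ * g⁻¹) = g * ρ * g⁻¹ * (g * u * g⁻¹)
    rw [show g * u * g⁻¹ * (g * ρ * g⁻¹) = g * (u * ρ) * g⁻¹ by group, ← hρu.eq]; group
  have hu'z : u' ∈ centralizer ({z} : Set G) := hcen b hbT hb1 (mem_cent_singleton.2 hbu)
  have hu'5 : u' ^ 5 = 1 := by
    rw [hu', conj_pow, ← hu1, pow_orderOf_eq_one, mul_one, mul_inv_cancel]
  have hu'T : u' ∈ normalizer (T : Set G) := th_norm z hu'z
  -- it centralises `T`
  have hu'C : u' ∈ centralizer (T : Set G) := by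
    letI act : MulAction (zpowers u') T :=
      { smul := fun g b => ⟨g * b * (g : G)⁻¹, (mem_normalizer_iff.1 (zpowers_le.2 hu'T g.2) b).1 b.2⟩
        one_smul := fun b => Subtype.ext (by show (1 : G) * b * (1 : G)⁻¹ = b; simp)
        mul_smul := fun g k b => Subtype.ext (by
          show (g * k : G) * b * ((g * k : G))⁻¹ = g * (k * b * (k : G)⁻¹) * (g : G)⁻¹
          group) }
    have hmod := (isPGroup_zpowers_of_pow hu'5).card_modEq_card_fixedPoints T
    have hfix : Nat.card (MulAction.fixedPoints (zpowers u') T) =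
        Nat.card (T ⊓ centralizer (zpowers u' : Set G) : Subgroup G) :=
      Nat.card_congr
        { toFun := fun b => ⟨b.1, b.1.2, mem_centralizer_iff.2 fun g hg =>
            mul_inv_eq_iff_eq_mul.1 (congrArg Subtype.val (b.2 ⟨g, hg⟩) :)⟩
          invFun := fun b => ⟨⟨b, b.2.1⟩, fun g => Subtype.ext (mul_inv_eq_iff_eq_mul.2
            (mem_centralizer_iff.1 b.2.2 g g.2))⟩
          left_inv := fun b => rfl
          right_inv := fun b => rfl }
    rw [hfix, h81] at hmod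
    set F := T ⊓ centralizer (zpowers u' : Set G) with hF
    obtain ⟨j, hj4, hj⟩ := (Nat.dvd_prime_pow Nat.prime_three (m := 4)).1
      (show Nat.card F ∣ 3 ^ 4 by rw [show 3 ^ 4 = 81 by norm_num, ← h81]; exact card_dvd_of_le inf_le_left)
    have hbF : b ∈ F := mem_inf.2 ⟨hbT, mem_centralizer_iff.2 fun y hy => by
      obtain ⟨l, rfl⟩ := hy
      exact (hbu.zpow_left l).eq⟩
    have hj0 : j ≠ 0 := fun e => hb1 (by
      rw [e, pow_zero] at hj
      exact Subgroup.mem_bot.1 (Subgroup.card_eq_one.1 hj ▸ hbF))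
    rw [hj] at hmod
    have hFT : F = T := Subgroup.eq_of_le_of_card_ge inf_le_left (by
      rw [h81, hj]
      have : 1 ≤ j := Nat.pos_of_ne_zero hj0
      interval_cases j <;> revert hmod <;> decide)
    exact le_centralizer_iff.1 (hFT.ge.trans inf_le_right) (mem_zpowers u')
  obtain ⟨t, ht, n, hn, htn⟩ := cent_decomp c.u4 hz hz1 hu'z
  have hnC : n ∈ centralizer (T : Set G) := by
    rw [show n = t⁻¹ * u' by rw [htn]; group]
    exact mul_mem (inv_mem (mem_centralizer_iff.2 fun x hx => (hT.commute c hz hx ht).eq)) hu'C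
  have htu : Commute t u' := mem_centralizer_iff.1 hu'C t ht
  have hn15 : n ^ 15 = 1 := by
    rw [show n = t⁻¹ * u' by rw [htn]; group, (htu.inv_left).mul_pow, inv_pow, show 15 = 3 * 5 from rfl, pow_mul,
      hT3 t ht, one_pow, inv_one, one_mul, mul_comm, pow_mul, hu'5, one_pow]
  have hSC : ∀ x ∈ (S : Subgroup G), x ∈ centralizer (T : Set G) → x ∈ Ez S := fun x hx hxC => by
    by_contra hxE
    have hx2 := sq_mem_Ez c.u4 hx
    have hzp := mem_zpowers_of_centralizes c hT hz hz1 hx2 (mul_mem hxC hxC)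
    have hxz : x * x = z := by
      obtain ⟨l, hl⟩ := hzp
      simp only at hl
      rcases Int.even_or_odd' l with ⟨j, rfl | rfl⟩
      · exact absurd (mem_Ez_of_sq c.u4 hx (by rw [← hl]; simp [zpow_mul, pow_two, hz.2.1])) hxE
      · rw [← hl]; simp [zpow_add, zpow_mul, pow_two, hz.2.1]
    obtain ⟨B, B', hB, -, -, -, hcard, heq⟩ := iv_split c hT hz hz1 hx hxz
    have hBT : B = T := hB.trans (inf_eq_left.2 fun y hy => mem_cent_singleton.2 (mem_centralizer_iff.1 hxC y hy))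
    rw [← heq, hBT, h81] at hcard
    norm_num at hcard
  obtain ⟨x, hx, -, hxE⟩ := exists_root c.u4 hz hz1
  have hnS : n ∈ centralizer ((S : Subgroup G) : Set G) := by
    refine centralizes_of_fix c.u4 hn.2 (Odd.of_dvd_nat (by decide) (orderOf_dvd_of_pow_eq_one hn15))
      (fun w hw => by rw [← mem_centralizer_iff.1 hn.1 w hw, mul_inv_cancel_right]) hx hxE
      (hSC _ (mul_mem ((mem_normalizer_iff.1 hn.2 x).1 hx) (inv_mem hx)) ?_)
    rw [show n * x * n⁻¹ * x⁻¹ = n * (x * n⁻¹ * x⁻¹) by group]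
    exact mul_mem hnC ((mem_normalizer_iff.1 (norm_centralizer_of_norm hT.mem.norm hx) _).1 (inv_mem hnC))
  have hn1 : n = 1 := hNT n hn (odd_cent_mem c.u4 hz hz1 hnS
    (Odd.of_dvd_nat (by decide) (orderOf_dvd_of_pow_eq_one hn15)))
  rw [hn1, mul_one] at htn
  have h35 : u' = 1 := orderOf_eq_one_iff.1 (Nat.eq_one_of_dvd_coprimes (by norm_num : Nat.Coprime 5 3)
    (orderOf_dvd_of_pow_eq_one hu'5) (orderOf_dvd_of_pow_eq_one (htn ▸ hT3 t ht)))
  rw [hu', conj_eq_one_iff] at h35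
  rw [h35, orderOf_one] at hu1
  omega

end Ctx

end Cfsg.Agent.UFour
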