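import Cfsg.Agent.Lib.UFour.LinkedCase
import Cfsg.Agent.Lib.UFour.EightyOne

/-!
# The minimal configuration does not occur

A simple group in this setting would have a strongly embedded subgroup.
-/

set_option autoImplicit false
set_option linter.style.haveILetI false
set_option linter.unusedSectionVars false

namespace Cfsg.Agent.UFour

open Subgroup Cfsg.Agent Cfsg.Agent.Fusion
open scoped commutatorElement Pointwise

universe u

variable {G : Type u} [Group G] [Finite G] {S : Sylow 2 G}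

theorem cent_le_normalizer_of_th (h : U4 (S : Subgroup G)) {z : G} (hz : z ∈ Ez S) (hz1 : z ≠ 1) (hth : th z = ⊥) :
    centralizer ({z} : Set G) ≤ normalizer ((S : Subgroup G) : Set G) := fun g hg => by
  obtain ⟨t, ht, n, hn, rfl⟩ := cent_decomp h hz hz1 hg
  rw [hth, mem_bot] at ht
  rw [ht, one_mul]
  exact hn.2

theorem th_eq_bot_of_pow (c : Ctx S) {z : G} (hz : z ∈ Ez S) (hz1 : z ≠ 1) (hM : Mx S (th z)) (hT : Iv S z (th z))
    {q : ℕ} [Fact q.Prime] (hq : q ∣ Nat.card (th z)) (hq3 : 5 ≤ q) : False := by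
  obtain ⟨x, hx⟩ := exists_prime_orderOf_dvd_card' q hq
  -- the abelian group has a non-trivial `O_q`
  have hne : SSF.Ox q (th z) ≠ ⊥ := fun e => by
    let X : Subgroup G :=
      { carrier := {a | a ∈ th z ∧ a ^ q = 1}
        one_mem' := ⟨one_mem _, one_pow _⟩
        mul_mem' := fun {a b} ha hb => ⟨mul_mem ha.1 hb.1, by
          rw [(hT.commute c hz ha.1 hb.1).mul_pow, ha.2, hb.2, one_mul]⟩
        inv_mem' := fun {a} ha => ⟨inv_mem ha.1, by rw [inv_pow, ha.2, inv_one]⟩ }
    have hX : X ≤ SSF.Ox q (th z) := SSF.le_Ox (fun a ha => ha.1) (fun g hg => mem_normalizer_fintype fun a ha => by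
        rw [(hT.commute c hz hg ha.1).eq, mul_inv_cancel_right]; exact ha) (isPGroup_of_pow fun a ha => ha.2)
    rw [e] at hX
    have h1 : (x : G) ∈ (⊥ : Subgroup G) := hX ⟨x.2, by rw [← hx, ← Subgroup.orderOf_coe]; exact pow_orderOf_eq_one _⟩
    rw [mem_bot] at h1
    rw [← Subgroup.orderOf_coe, h1, orderOf_one] at hx
    exact (Fact.out : q.Prime).one_lt.ne hx
  have hP : Iv S z (SSF.Ox q (th z)) := hT.sub (mem_Ox hM.mem q) hne (SSF.Ox_le q _)
  exact c.big_false hz hz1 hM hP ((show 625 ≤ q ^ 4 from by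
    calc 625 = 5 ^ 4 := by norm_num
      _ ≤ q ^ 4 := Nat.pow_le_pow_left hq3 4).trans (c.cent_le hz hz1 hM hP).1)

/-- The unlinked case. -/
theorem Ctx.case_unlinked (c : Ctx S) {M : Subgroup G} (hM : Mx S M) {z : G} (hz : z ∈ Ez S) (hz1 : z ≠ 1)
    (hzM : th z ≤ M) {p : ℕ} [Fact p.Prime] (hpM : SSF.Ox p M ≠ ⊥) (hl : ¬ Lk p S) : False := by
  obtain ⟨rfl, hP⟩ := c.unlinked_setup hM hz hz1 hzM hpM hl
  obtain ⟨h4, hcu⟩ := c.cent_le hz hz1 hM hP
  by_cases hbig : 625 ≤ Nat.card (SSF.Ox p (th z))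
  · exact c.big_false hz hz1 hM hP hbig
  push Not at hbig
  obtain ⟨A, hA, hAm, -⟩ := hP.exists_omega c hz (SSF.isPGroup_Ox p _)
  obtain ⟨k, hk, hPk⟩ := card_iv c hz hz1 hP (SSF.isPGroup_Ox p _)
  have hA4 := hA.card_ge c hz hz1 fun a ha => ((hAm a).1 ha).2
  have hAP : A ≤ SSF.Ox p (th z) := fun a ha => ((hAm a).1 ha).1
  have hp3 : p = 3 := by
    have h1 : p ^ 4 < 625 := lt_of_le_of_lt h4 hbig
    have h2 : p < 5 := by
      by_contra hc
      have := Nat.pow_le_pow_left (show 5 ≤ p by omega) 4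
      omega
    have hp2 := hA.prime_odd (p := p) fun a ha => ((hAm a).1 ha).2
    have hp1 := (Fact.out : p.Prime).two_le
    obtain ⟨r, hr⟩ := hp2
    omega
  subst hp3
  have hk2 : k = 2 := by
    by_contra hc
    have := Nat.pow_le_pow_right (show 0 < 3 by norm_num) (show 6 ≤ 2 * k by omega)
    omega
  subst hk2
  norm_num at hPk
  have hT := c.eighty_one_fpf hz hz1 hM hP hPk hl
  -- no other prime
  have h3 : IsPGroup 3 (th z) := by
    refine IsPGroup.of_card (n := (Nat.card (th z)).factorization 3) ?_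
    refine Nat.eq_of_factorization_eq Nat.card_pos.ne' (by positivity) fun q => ?_
    rw [Nat.factorization_pow, Nat.Prime.factorization Nat.prime_three]
    simp only [Finsupp.smul_apply, smul_eq_mul, Finsupp.single_apply]
    by_cases hq3 : 3 = q
    · subst hq3; simp
    rw [if_neg hq3, mul_zero]
    by_contra hne
    have hqp : q.Prime := Nat.prime_of_mem_primeFactors (Nat.support_factorization _ ▸ Finsupp.mem_support_iff.2 hne)
    haveI := Fact.mk hqp
    have hd : q ∣ Nat.card (th z) := Nat.dvd_of_factorization_pos hne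
    refine th_eq_bot_of_pow c hz hz1 hM hT hd ?_
    have h2 : q ≠ 2 := by
      rintro rfl
      exact Nat.not_even_iff_odd.2 (th_odd z) (even_iff_two_dvd.2 hd)
    have h4 : q ≠ 4 := by rintro rfl; exact absurd hqp (by norm_num)
    have := hqp.two_le
    omega
  have hOx : SSF.Ox 3 (th z) = th z :=
    le_antisymm (SSF.Ox_le 3 _) (SSF.le_Ox le_rfl le_normalizer h3)
  rw [hOx] at hPk hcu hAP
  have hAT : A = th z := Subgroup.eq_of_le_of_card_ge hAP (by rw [hPk]; simpa using hA4)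
  exact c.eighty_one_false hz hz1 hT hPk (fun a ha => ((hAm a).1 (hAT.ge ha)).2) (fun y hy hy1 => (hcu y hy hy1).1)
    fun y hy hy1 => (hcu y hy hy1).2

/-- No group satisfies the hypotheses. -/
theorem Ctx.false (c : Ctx S) : False := by
  classical
  haveI := c.simple
  by_cases hall : ∀ z ∈ Ez S, z ≠ 1 → th z = ⊥
  · exact c.noSE _ (se_normalizer c.nonab c.u4 fun z hz hz1 => cent_le_normalizer_of_th c.u4 hz hz1 (hall z hz hz1))
  push Not at hall
  obtain ⟨z, hz, hz1, hth⟩ := hall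
  obtain ⟨M, hM, hzM⟩ := c.exists_mx (mem_th hz) hth
  by_cases hl : ∀ p : ℕ, p.Prime → SSF.Ox p M ≠ ⊥ → Lk p S
  · exact c.case_linked hM hz hz1 hth hzM hl
  push Not at hl
  obtain ⟨p, hp, hpM, hnl⟩ := hl
  haveI := Fact.mk hp
  exact c.case_unlinked hM hz hz1 hzM hpM hnl

end Cfsg.Agent.UFour
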