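import Cfsg.Agent.Lib.UFour.Signal

/-!
# The signaliser closure of an inverted elementary group

The closure is an odd subgroup normalised by `S`; it meets the centraliser of an element commuting with the group in that
element's signaliser.
-/

set_option autoImplicit false
set_option linter.style.haveILetI false
set_option linter.unusedSectionVars false

namespace Cfsg.Agent.UFour

open Subgroup Cfsg.Agent Cfsg.Agent.Fusion
open scoped commutatorElement Pointwise

universe u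

variable {G : Type u} [Group G] [Finite G]

/-- The closure of the signalisers. -/
def Uf (p : ℕ) (A : Subgroup G) : Subgroup G := ⨆ a : {a : G // a ∈ A ∧ a ≠ 1}, sg p (a : G)

theorem sg_le_Uf {p : ℕ} {A : Subgroup G} {a : G} (ha : a ∈ A) (ha1 : a ≠ 1) : sg p a ≤ Uf p A :=
  le_iSup (fun b : {a : G // a ∈ A ∧ a ≠ 1} => sg p (b : G)) ⟨a, ha, ha1⟩

theorem Uf_cj (p : ℕ) (A : Subgroup G) (g : G) : cj (Uf p A) g = Uf p (cj A g) := by
  have key : ∀ (B : Subgroup G) (k : G), cj (Uf p B) k ≤ Uf p (cj B k) := fun B k => by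
    refine (Subgroup.map_iSup _ _).le.trans (iSup_le fun a => ?_)
    exact (sg_cj p a.1 k).le.trans (sg_le_Uf (conj_mem_cj a.2.1) fun e => a.2.2 (conj_eq_one_iff.1 e))
  refine le_antisymm (key A g) ?_
  have h := cj_mono (key (cj A g) g⁻¹) g
  rwa [cj_inv_cj, cj_cj_inv] at h

theorem Uf_norm (p : ℕ) (A : Subgroup G) : normalizer (A : Set G) ≤ normalizer (Uf p A : Set G) := fun g hg =>
  mem_normalizer_iff_cj.2 (by rw [Uf_cj, cj_eq_self hg])

variable {S : Sylow 2 G} (c : Ctx S) {z : G} (hz : z ∈ Ez S) (hz1 : z ≠ 1) {A : Subgroup G} (hA : Iv S z A)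
  {p : ℕ} [Fact p.Prime] (hAp : ∀ a ∈ A, a ^ p = 1)

include hA hAp in
theorem Iv.prime_odd : Odd p := by
  obtain ⟨a, ha, ha1⟩ : ∃ a ∈ A, a ≠ 1 := by
    by_contra hh; push Not at hh
    exact hA.ne ((Subgroup.eq_bot_iff_forall _).2 hh)
  rw [← ((Nat.dvd_prime (Fact.out : p.Prime)).1 (orderOf_dvd_of_pow_eq_one (hAp a ha))).resolve_left
    fun h => ha1 (orderOf_eq_one_iff.1 h)]
  exact orderOf_odd hA.mem.odd ha

include hAp in
theorem isPGroup_of_pow : IsPGroup p A := fun a => ⟨1, Subtype.ext (by simpa using hAp a a.2)⟩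

include c hz hA hAp in
theorem Iv.elemAb : Cfsg.IsElementaryAbelian p A :=
  ⟨⟨⟨fun a b => Subtype.ext (hA.commute c hz a.2 b.2).eq⟩⟩, hAp⟩

include c hz hz1 hA hAp in
theorem Iv.card_ge : p ^ 4 ≤ Nat.card A := by
  obtain ⟨k, hk, e⟩ := card_iv c hz hz1 hA (isPGroup_of_pow hAp)
  rw [e]
  exact Nat.pow_le_pow_right (Fact.out : p.Prime).pos (by omega)

include c hz hz1 hA hAp in
/-- The signalisers form a complete functor. -/
theorem Uf_data : Mem S (Uf p A) ∧ (Nat.card (Uf p A)).Coprime p ∧ A ≤ normalizer (Uf p A : Set G) ∧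
    ∀ a ∈ A, a ≠ 1 → Uf p A ⊓ centralizer ({a} : Set G) = sg p a := by
  have hE := hA.elemAb c hz hAp
  have h3 : p ^ 3 ≤ Nat.card A :=
    (Nat.pow_le_pow_right (Fact.out : p.Prime).pos (by norm_num)).trans (hA.card_ge c hz hz1 hAp)
  have hθ : Cfsg.IsSolvableSignalizerFunctor p A (sg p) := by
    refine ⟨⟨fun a _ _ => sg_le p a, fun a _ _ => ((Nat.Prime.coprime_iff_not_dvd (Fact.out : p.Prime)).1
      (sg_coprime p a).symm), fun a ha _ b hb x hx => (mem_normalizer_iff.1 (sg_norm p a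
        (mem_cent_singleton.2 (hA.commute c hz hb ha))) x).1 hx, fun a ha _ b hb hb1 => ?_⟩,
      fun a _ _ => sg_solvable p a⟩
    exact sg_balance (hA.prime_odd hAp) (hA.commute c hz ha hb) (isPGroup_zpowers_of_pow (hAp a ha)) ((hA.real hb hb1).npc c hz hz1).1
  obtain ⟨⟨hsol, hnd, hinv, -⟩, hfix⟩ := SSF.complete hE h3 hθ
  haveI : IsMulCommutative A := hE.1
  have hAn : A ≤ normalizer (Uf p A : Set G) := fun b hb => mem_normalizer_fintype fun u hu => hinv b hb u hu
  have hco : (Nat.card (Uf p A)).Coprime p := ((Nat.Prime.coprime_iff_not_dvd (Fact.out : p.Prime)).2 hnd).symm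
  refine ⟨⟨?_, hA.mem.norm.trans (Uf_norm p A)⟩, hco, hAn, hfix⟩
  by_contra hodd
  haveI : Fact (Nat.Prime 2) := ⟨Nat.prime_two⟩
  have hAU : (Nat.card A).Coprime (Nat.card (Uf p A)) := by
    obtain ⟨j, hj⟩ := IsPGroup.iff_card.1 (isPGroup_of_pow hAp)
    rw [hj]; exact hco.symm.pow_left j
  obtain ⟨P, hP, -, hAP⟩ := Solv.exists_invariant_sylow_ge (A := A) (K := Uf p A) (p := 2) hAn hAU
    (Or.inr hsol) ⊥ bot_le IsPGroup.of_bot (fun a _ => mem_normalizer_fintype fun x hx => by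
      rw [Subgroup.mem_bot.1 hx]; simp)
  have hP1 : P = ⊥ := by
    refine le_bot_iff.1 ((Solv.gen_eq A P hE.1 hAP
      (hAU.coprime_dvd_right (card_dvd_of_le hP.1))).ge.trans (iSup₂_le fun B hB => ?_))
    obtain ⟨b, hb, hb1⟩ : ∃ b ∈ B, b ≠ 1 := by
      by_contra hno
      exact cycQuot_inf_ne_bot hE h3 hB hB (by
        rw [inf_idem]; exact (Subgroup.eq_bot_iff_forall _).2 fun y hy => by_contra fun h1 => hno ⟨y, hy, h1⟩)
    refine (le_inf inf_le_left ((le_inf (inf_le_left.trans hP.1) (inf_le_right.trans (centralizer_le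
      (Set.singleton_subset_iff.2 hb)))).trans (hfix b (hB.1 hb) hb1).le)).trans ?_
    rw [inf_odd_eq_bot hP.isPGroup (sg_odd p b)]
  rw [Nat.not_odd_iff_even, even_iff_two_dvd] at hodd
  have h1 := hP.2
  rw [hP1, card_bot] at h1
  have h2 := Nat.Prime.factorization_pos_of_dvd Nat.prime_two Nat.card_pos.ne' hodd
  have := Nat.one_lt_two_pow h2.ne'
  omega

include c hz hz1 hA hAp in
/-- The pieces at an element commuting with the group. -/
theorem Uf_at {f : G} (hfA : ∀ a ∈ A, Commute f a) (hfp : IsPGroup p (zpowers f))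
    (hf : ∀ x : G, Commute x f → Odd (orderOf x) → x ∈ od (centralizer ({f} : Set G))) :
    sg p f ≤ Uf p A ∧ Uf p A ⊓ centralizer ({f} : Set G) ≤ sg p f := by
  obtain ⟨hU, hco, hAn, hfix⟩ := Uf_data c hz hz1 hA hAp
  have hE := hA.elemAb c hz hAp
  have h3 : p ^ 3 ≤ Nat.card A :=
    (Nat.pow_le_pow_right (Fact.out : p.Prime).pos (by norm_num)).trans (hA.card_ge c hz hz1 hAp)
  have hp := hA.prime_odd hAp
  have key : ∀ W : Subgroup G, (Nat.card W).Coprime p → A ≤ normalizer (W : Set G) → ∀ T : Subgroup G,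
      (∀ a ∈ A, a ≠ 1 → W ⊓ centralizer ({a} : Set G) ≤ T) → W ≤ T := fun W hW hAW T h => by
    refine (Solv.gen_eq A W hE.1 hAW (elab_coprime hE ((Nat.Prime.coprime_iff_not_dvd
      (Fact.out : p.Prime)).1 hW.symm))).ge.trans (iSup₂_le fun B hB => ?_)
    obtain ⟨b, hb, hb1⟩ : ∃ b ∈ B, b ≠ 1 := by
      by_contra hno
      exact cycQuot_inf_ne_bot hE h3 hB hB (by
        rw [inf_idem]; exact (Subgroup.eq_bot_iff_forall _).2 fun y hy => by_contra fun h1 => hno ⟨y, hy, h1⟩)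
    exact (inf_le_inf_left _ (centralizer_le (Set.singleton_subset_iff.2 hb))).trans (h b (hB.1 hb) hb1)
  have hAC : A ≤ centralizer ({f} : Set G) := fun a ha => mem_cent_singleton.2 (hfA a ha).symm
  refine ⟨key _ (sg_coprime p f) (hAC.trans (sg_norm p f)) _ fun a ha ha1 =>
    (sg_balance hp (hfA a ha) hfp ((hA.real ha ha1).npc c hz hz1).1).trans (sg_le_Uf ha ha1), ?_⟩
  refine key _ (hco.coprime_dvd_left (card_dvd_of_le inf_le_left)) ?_ _ fun a ha ha1 => ?_
  · intro a ha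
    refine mem_normalizer_of_cj_le ?_
    rw [cj_inf, cj_eq_self (hAn ha), cj_cent, conj_eq_of_commute (hfA a ha).symm]
  · exact (le_inf ((inf_le_inf_right _ inf_le_left).trans (hfix a ha ha1).le) (inf_le_left.trans inf_le_right)).trans
      (sg_balance hp (hfA a ha).symm (isPGroup_zpowers_of_pow (hAp a ha)) hf)

end Cfsg.Agent.UFour
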