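import Cfsg.Agent.Lib.UFour.Linked

/-!
# Subgroups inverted by central involutions

An odd `p`-subgroup centralised by `z` and inverted by the other central involutions has order at least `p⁴`.
-/

set_option autoImplicit false
set_option linter.style.haveILetI false
set_option linter.unusedSectionVars false

namespace Cfsg.Agent.UFour

open Subgroup Cfsg.Agent Cfsg.Agent.Fusion
open scoped commutatorElement Pointwise

universe u

variable {G : Type u} [Group G]

/-- A member centralised by `z` and inverted by the other central involutions. -/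
structure Iv (S : Sylow 2 G) (z : G) (A : Subgroup G) : Prop where
  mem : Mem S A
  ne : A ≠ ⊥
  cent : A ≤ centralizer ({z} : Set G)
  inv : ∀ a ∈ A, ∀ e ∈ Ez S, e ≠ 1 → e ≠ z → e * a * e⁻¹ = a⁻¹

theorem comm_mul_right {a x y : G} (h : Commute x ⁅a, y⁆) : ⁅a, x * y⁆ = ⁅a, x⁆ * ⁅a, y⁆ := by
  rw [commutatorElement_def, commutatorElement_def, commutatorElement_def]
  rw [commutatorElement_def] at h
  calc a * (x * y) * a⁻¹ * (x * y)⁻¹ = a * x * a⁻¹ * (a * y * a⁻¹ * y⁻¹) * x⁻¹ := by group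
    _ = a * x * a⁻¹ * (x⁻¹ * (x * (a * y * a⁻¹ * y⁻¹))) * x⁻¹ := by group
    _ = a * x * a⁻¹ * (x⁻¹ * (a * y * a⁻¹ * y⁻¹ * x)) * x⁻¹ := by rw [h.eq]
    _ = _ := by group

theorem commute_of_commute_sq {x y : G} (hodd : Odd (orderOf x)) (h : Commute (x * x) y) : Commute x y := by
  obtain ⟨j, hj⟩ := exists_pow_eq_self_of_coprime hodd.coprime_two_left
  rw [← hj, pow_two]
  exact h.pow_left j

theorem eq_one_of_inv_eq {x : G} (h : x⁻¹ = x) (hodd : Odd (orderOf x)) : x = 1 :=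
  eq_one_of_sq_of_odd (by nth_rw 1 [← h]; exact inv_mul_cancel x) hodd

/-- Elements normalising a cyclic subgroup commute on it. -/
theorem commutator_fixes_cyclic {b u v : G} (hu : u ∈ normalizer (zpowers b : Set G))
    (hv : v ∈ normalizer (zpowers b : Set G)) : Commute ⁅u, v⁆ b := by
  have key : ∀ u' v' : G, u' * b * u'⁻¹ ∈ zpowers b → v' * b * v'⁻¹ ∈ zpowers b →
      Commute ((v' * u')⁻¹ * (u' * v')) b := fun u' v' hu' hv' => by
    obtain ⟨i, hi⟩ := hu'
    obtain ⟨j, hj⟩ := hv'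
    simp only at hi hj
    have h1 : u' * v' * b * (u' * v')⁻¹ = v' * u' * b * (v' * u')⁻¹ := by
      rw [show u' * v' * b * (u' * v')⁻¹ = u' * (v' * b * v'⁻¹) * u'⁻¹ by group, ← hj, ← conj_zpow, ← hi,
        show v' * u' * b * (v' * u')⁻¹ = v' * (u' * b * u'⁻¹) * v'⁻¹ by group, ← hi, ← conj_zpow, ← hj, ← zpow_mul,
        ← zpow_mul, mul_comm]
    refine mul_inv_eq_iff_eq_mul.1 ?_
    rw [show (v' * u')⁻¹ * (u' * v') * b * ((v' * u')⁻¹ * (u' * v'))⁻¹ =
      (v' * u')⁻¹ * (u' * v' * b * (u' * v')⁻¹) * (v' * u') by group, h1]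
    group
  have h := key u⁻¹ v⁻¹ ((mem_normalizer_iff.1 (inv_mem hu) b).1 (mem_zpowers b))
    ((mem_normalizer_iff.1 (inv_mem hv) b).1 (mem_zpowers b))
  rwa [show (v⁻¹ * u⁻¹)⁻¹ * (u⁻¹ * v⁻¹) = ⁅u, v⁆ by rw [commutatorElement_def]; group] at h

variable [Finite G]

/-- An involution without fixed points inverts an odd group. -/
theorem inverts_of_fpf {X : Subgroup G} {e : G} (he : e * e = 1) (hn : e ∈ normalizer (X : Set G))
    (h : ∀ x ∈ X, Commute e x → x = 1) : ∀ x ∈ X, e * x * e⁻¹ = x⁻¹ := by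
  set φ : X →* X := (X.normalizerMonoidHom ⟨e, hn⟩).toMonoidHom with hφ
  have happ : ∀ y : X, ((φ y : X) : G) = e * y * e⁻¹ := fun y => rfl
  have hf : MonoidHom.FixedPointFree φ := fun y hy => Subtype.ext (h y y.2 (mul_inv_eq_iff_eq_mul.1
    ((happ y).symm.trans (congrArg Subtype.val hy))))
  have h2 : Function.Involutive φ := fun y => Subtype.ext (by
    rw [happ, happ, show e * (e * (y : G) * e⁻¹) * e⁻¹ = e * e * y * (e * e)⁻¹ by group, he, one_mul, inv_one,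
      mul_one])
  intro x hx
  have := congrFun (hf.coe_eq_inv_of_involutive h2) ⟨x, hx⟩
  exact (happ ⟨x, hx⟩).symm.trans (congrArg Subtype.val this)

omit [Finite G] in
/-- An element moved by an involution gives an inverted one. -/
theorem inverted_of_moved {x e : G} (he : e * e = 1) (hne : e * x * e⁻¹ ≠ x) :
    x⁻¹ * (e * x * e⁻¹) ≠ 1 ∧ e * (x⁻¹ * (e * x * e⁻¹)) * e⁻¹ = (x⁻¹ * (e * x * e⁻¹))⁻¹ := by
  refine ⟨fun h => hne (inv_mul_eq_one.1 h).symm, ?_⟩
  have hei : e⁻¹ = e := inv_eq_of_mul_eq_one_right he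
  rw [show e * (x⁻¹ * (e * x * e⁻¹)) * e⁻¹ = e * x⁻¹ * (e * x * (e * e)⁻¹) by group, he, inv_one, mul_one]
  rw [show (x⁻¹ * (e * x * e⁻¹))⁻¹ = e * x⁻¹ * e⁻¹ * x by group, hei]
  group

theorem card_le_two_mul {K T : Subgroup G} (h : ∀ x ∈ K, ∀ y ∈ K, x ∉ T → y ∉ T → x⁻¹ * y ∈ T) :
    Nat.card K ≤ 2 * Nat.card (K ⊓ T : Subgroup G) := by
  classical
  by_cases hKT : K ≤ T
  · rw [inf_eq_left.2 hKT]; omega
  obtain ⟨x₀, hx₀, hx₀T⟩ := SetLike.not_le_iff_exists.1 hKT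
  let f : K → Bool × (K ⊓ T : Subgroup G) := fun y =>
    if hy : (y : G) ∈ T then (false, ⟨y, Subgroup.mem_inf.2 ⟨y.2, hy⟩⟩)
    else (true, ⟨x₀⁻¹ * y, Subgroup.mem_inf.2 ⟨mul_mem (inv_mem hx₀) y.2, h x₀ hx₀ y y.2 hx₀T hy⟩⟩)
  have hf : Function.Injective f := by
    intro a b hab
    simp only [f] at hab
    split_ifs at hab
    · exact Subtype.ext (congrArg (fun q : Bool × (K ⊓ T : Subgroup G) => (q.2 : G)) hab :)
    · exact absurd (congrArg Prod.fst hab) (by simp)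
    · exact absurd (congrArg Prod.fst hab) (by simp)
    · exact Subtype.ext (mul_left_cancel (congrArg (fun q : Bool × (K ⊓ T : Subgroup G) => (q.2 : G)) hab :))
  have := Nat.card_le_card_of_injective f hf
  rwa [Nat.card_prod, show Nat.card Bool = 2 by simp] at this

/-- An odd group without order three that normalises a subgroup of order nine centralises it. -/
theorem centralizes_nine {B K : Subgroup G} (hB : Nat.card B = 9) (hK : Odd (Nat.card K))
    (h3 : ¬ 3 ∣ Nat.card K) (hn : K ≤ normalizer (B : Set G)) : K ≤ centralizer (B : Set G) := by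
  classical
  have key : ∀ q : ℕ, q.Prime → ∀ Q : Subgroup G, Q ≤ K → IsPGroup q Q → Q ≤ centralizer (B : Set G) := by
    intro q hq Q hQK hQ
    haveI := Fact.mk hq
    by_cases hQ1 : Q = ⊥
    · exact hQ1 ▸ bot_le
    have hqd : q ∣ Nat.card K := by
      obtain ⟨j, hj⟩ := IsPGroup.iff_card.1 hQ
      refine (dvd_pow_self q ?_).trans (hj ▸ card_dvd_of_le hQK)
      rintro rfl
      exact hQ1 (Subgroup.card_eq_one.1 (by rw [hj, pow_zero]))
    have hq2 : q ≠ 2 := fun e => Nat.not_even_iff_odd.2 hK (even_iff_two_dvd.2 (e ▸ hqd))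
    have hq3 : q ≠ 3 := fun e => h3 (e ▸ hqd)
    letI act : MulAction Q B :=
      { smul := fun g b => ⟨g * b * (g : G)⁻¹, (mem_normalizer_iff.1 (hn (hQK g.2)) b).1 b.2⟩
        one_smul := fun b => Subtype.ext (by show (1 : G) * b * (1 : G)⁻¹ = b; simp)
        mul_smul := fun g k b => Subtype.ext (by
          show (g * k : G) * b * ((g * k : G))⁻¹ = g * (k * b * (k : G)⁻¹) * (g : G)⁻¹
          group) }
    have hmod := hQ.card_modEq_card_fixedPoints B
    have hfix : Nat.card (MulAction.fixedPoints Q B) = Nat.card (B ⊓ centralizer (Q : Set G) : Subgroup G) :=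
      Nat.card_congr
        { toFun := fun b => ⟨b.1, b.1.2, mem_centralizer_iff.2 fun g hg =>
            mul_inv_eq_iff_eq_mul.1 (congrArg Subtype.val (b.2 ⟨g, hg⟩) :)⟩
          invFun := fun b => ⟨⟨b, b.2.1⟩, fun g => Subtype.ext (mul_inv_eq_iff_eq_mul.2
            (mem_centralizer_iff.1 b.2.2 g g.2))⟩
          left_inv := fun b => rfl
          right_inv := fun b => rfl }
    rw [hfix, hB] at hmod
    have hd : Nat.card (B ⊓ centralizer (Q : Set G) : Subgroup G) ∣ 9 := hB ▸ card_dvd_of_le inf_le_left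
    have hle : Nat.card (B ⊓ centralizer (Q : Set G) : Subgroup G) ≤ 9 := Nat.le_of_dvd (by norm_num) hd
    have heq : Nat.card (B ⊓ centralizer (Q : Set G) : Subgroup G) = 9 := by
      have hdiv := (Nat.modEq_iff_dvd' hle).1 hmod.symm
      generalize Nat.card (B ⊓ centralizer (Q : Set G) : Subgroup G) = n at hd hdiv hle ⊢
      obtain ⟨i, hi, rfl⟩ := (Nat.dvd_prime_pow Nat.prime_three (m := 2)).1 (by norm_num; exact hd)
      have h8 : q ∣ 2 ^ 3 ∨ q ∣ 2 * 3 ∨ 3 ^ i = 9 := by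
        interval_cases i <;> norm_num at hdiv ⊢
        · exact Or.inl hdiv
        · exact Or.inr hdiv
      rcases h8 with h | h | h
      · exact absurd ((Nat.prime_dvd_prime_iff_eq hq Nat.prime_two).1 (hq.dvd_of_dvd_pow h)) hq2
      · rcases hq.dvd_mul.1 h with h | h
        · exact absurd ((Nat.prime_dvd_prime_iff_eq hq Nat.prime_two).1 h) hq2
        · exact absurd ((Nat.prime_dvd_prime_iff_eq hq Nat.prime_three).1 h) hq3
      · exact h
    have e := Subgroup.eq_of_le_of_card_ge inf_le_left (hB.le.trans heq.ge)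
    rw [← e]
    exact le_centralizer_iff.1 inf_le_right
  by_contra hne
  set C := (centralizer (B : Set G)).subgroupOf K
  obtain ⟨q, hq, hqd⟩ := Nat.exists_prime_and_dvd (n := C.index) fun h1 =>
    hne (subgroupOf_eq_top.1 (index_eq_one.1 h1))
  haveI := Fact.mk hq
  obtain ⟨Q⟩ : Nonempty (Sylow q K) := inferInstance
  refine Q.not_dvd_index (hqd.trans (index_dvd_of_le fun x hx => mem_subgroupOf.2 ?_))
  exact key q hq _ (map_subtype_le _) (Q.isPGroup'.map _) ⟨x, hx, rfl⟩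

variable {S : Sylow 2 G} {z : G} {A : Subgroup G}

theorem Iv.commute (c : Ctx S) (hA : Iv S z A) (hz : z ∈ Ez S) {a b : G} (ha : a ∈ A) (hb : b ∈ A) :
    Commute a b := by
  obtain ⟨e, he, he1, hez⟩ := exists_other c.u4 hz
  have h := hA.inv _ (mul_mem ha hb) e he he1 hez
  rw [show e * (a * b) * e⁻¹ = e * a * e⁻¹ * (e * b * e⁻¹) by group, hA.inv a ha e he he1 hez,
    hA.inv b hb e he he1 hez, mul_inv_rev] at h
  exact (Commute.inv_inv_iff.1 h)

omit [Finite G] in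
/-- The square roots split an inverted subgroup. -/
theorem root_swap {a s t e : G} (hst : ⁅s, t⁆ = e) :
    s * (t * a * t⁻¹) * s⁻¹ = e * (t * (s * a * s⁻¹) * t⁻¹) * e⁻¹ := by
  rw [← hst, commutatorElement_def]; group

theorem iv_split (c : Ctx S) (hA : Iv S z A) (hz : z ∈ Ez S) (hz1 : z ≠ 1) {s : G}
    (hs : s ∈ (S : Subgroup G)) (hsz : s * s = z) :
    ∃ B B' : Subgroup G, B = A ⊓ centralizer ({s} : Set G) ∧ B' ≤ A ∧ (∀ b, b ∈ B' ↔ b ∈ A ∧ s * b * s⁻¹ = b⁻¹) ∧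
      A ≤ B ⊔ B' ∧ Nat.card A = Nat.card B * Nat.card B' ∧ Nat.card B = Nat.card B' := by
  let B' : Subgroup G :=
    { carrier := {a | a ∈ A ∧ s * a * s⁻¹ = a⁻¹}
      one_mem' := ⟨one_mem _, by simp⟩
      mul_mem' := fun {a b} ha hb => ⟨mul_mem ha.1 hb.1, by
        rw [show s * (a * b) * s⁻¹ = s * a * s⁻¹ * (s * b * s⁻¹) by group, ha.2, hb.2, mul_inv_rev,
          (hA.commute c hz ha.1 hb.1).inv_inv.eq]⟩
      inv_mem' := fun {a} ha => ⟨inv_mem ha.1, by
        rw [show s * a⁻¹ * s⁻¹ = (s * a * s⁻¹)⁻¹ by group, ha.2]⟩ }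
  set B := A ⊓ centralizer ({s} : Set G) with hB
  have hsA := hA.mem.norm hs
  have hzA : ∀ a ∈ A, z * a * z⁻¹ = a := fun a ha => by
    rw [← mem_centralizer_singleton_iff.1 (hA.cent ha), mul_inv_cancel_right]
  have hsup : A ≤ B ⊔ B' := fun a ha => by
    set a' := s * a * s⁻¹ with ha'
    have ha'A : a' ∈ A := (mem_normalizer_iff.1 hsA a).1 ha
    have hs2 : s * a' * s⁻¹ = a := by
      rw [ha', show s * (s * a * s⁻¹) * s⁻¹ = s * s * a * (s * s)⁻¹ by group, hsz, hzA a ha]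
    have hc := hA.commute c hz ha ha'A
    have h1 : a * a' ∈ B := Subgroup.mem_inf.2 ⟨mul_mem ha ha'A, mem_centralizer_singleton_iff.2
      (mul_inv_eq_iff_eq_mul.1 (by rw [show s * (a * a') * s⁻¹ = a' * (s * a' * s⁻¹) by rw [ha']; group, hs2,
        hc.eq] : s * (a * a') * s⁻¹ = a * a')).symm⟩
    have h2 : a * a'⁻¹ ∈ B' := ⟨mul_mem ha (inv_mem ha'A), by
      rw [show s * (a * a'⁻¹) * s⁻¹ = a' * (s * a' * s⁻¹)⁻¹ by rw [ha']; group, hs2, mul_inv_rev, inv_inv]⟩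
    have h3 : a * a ∈ B ⊔ B' := by
      have h4 := mul_mem (mem_sup_left h1 : a * a' ∈ B ⊔ B') (mem_sup_right h2)
      rwa [show a * a' * (a * a'⁻¹) = a * a' * a * a'⁻¹ by group, mul_assoc a a' a, ← hc.eq, ← mul_assoc,
        mul_inv_cancel_right] at h4
    obtain ⟨j, hj⟩ := exists_pow_eq_self_of_coprime (orderOf_odd hA.mem.odd ha).coprime_two_left
    rw [← hj, pow_two]
    exact pow_mem h3 j
  have hBA' : B' ≤ A := fun x hx => hx.1
  have hinf : B ⊓ B' = ⊥ := (Subgroup.eq_bot_iff_forall _).2 fun x hx => by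
    have h1 : Commute x s := mem_centralizer_singleton_iff.1 hx.1.2
    have h2 : s * x * s⁻¹ = x⁻¹ := hx.2.2
    rw [← h1.eq, mul_inv_cancel_right] at h2
    exact eq_one_of_inv_eq h2.symm (orderOf_odd hA.mem.odd hx.1.1)
  have hn : B' ≤ normalizer (B : Set G) := fun x hx => mem_normalizer_fintype fun y hy => by
    rw [(hA.commute c hz hx.1 hy.1).eq, mul_inv_cancel_right]; exact hy
  have hcard : Nat.card A = Nat.card B * Nat.card B' := by
    have h1 := Solv.card_sup_mul_card_inf' B B' hn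
    rw [hinf, card_bot, mul_one, show B ⊔ B' = A from le_antisymm (sup_le inf_le_left hBA') hsup] at h1
    exact h1
  obtain ⟨e, he, he1, hez⟩ := exists_other c.u4 hz
  obtain ⟨t, ht, hst⟩ := comm_surj' c.u4 hs (fun hE => hz1 (hsz ▸ hE.2.1)) he
  have htA : ∀ {a : G}, a ∈ A → t * a * t⁻¹ ∈ A := fun {a} ha => (mem_normalizer_iff.1 (hA.mem.norm ht) a).1 ha
  have h1 : cj B t ≤ B' := by
    rintro _ ⟨b, hb, rfl⟩
    refine ⟨htA hb.1, ?_⟩
    show s * (t * b * t⁻¹) * s⁻¹ = (t * b * t⁻¹)⁻¹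
    rw [root_swap hst, ← mem_centralizer_singleton_iff.1 hb.2, mul_inv_cancel_right]
    exact hA.inv _ (htA hb.1) e he he1 hez
  have h2 : cj B' t ≤ B := by
    rintro _ ⟨b, hb, rfl⟩
    refine Subgroup.mem_inf.2 ⟨htA hb.1, mem_centralizer_singleton_iff.2 (mul_inv_eq_iff_eq_mul.1
      (?_ : s * (t * b * t⁻¹) * s⁻¹ = t * b * t⁻¹)).symm⟩
    rw [root_swap hst, hb.2, show t * b⁻¹ * t⁻¹ = (t * b * t⁻¹)⁻¹ by group]
    rw [show e * (t * b * t⁻¹)⁻¹ * e⁻¹ = (e * (t * b * t⁻¹) * e⁻¹)⁻¹ by group, hA.inv _ (htA hb.1) e he he1 hez,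
      inv_inv]
  exact ⟨B, B', rfl, hBA', fun b => Iff.rfl, hsup, hcard,
    le_antisymm ((card_cj B t).ge.trans (card_le_of_le h1)) ((card_cj B' t).ge.trans (card_le_of_le h2))⟩

/-- The elements whose commutator with `a` is in `⟨z⟩`. -/
def sec (c : Ctx S) {a : G} (ha : a ∈ (S : Subgroup G)) (z : G) : Subgroup G where
  carrier := {x | x ∈ (S : Subgroup G) ∧ ⁅a, x⁆ ∈ zpowers z}
  one_mem' := ⟨one_mem _, by rw [commutatorElement_one_right]; exact one_mem _⟩
  mul_mem' := fun {x y} hx hy => ⟨mul_mem hx.1 hy.1, by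
    rw [comm_mul_right (commute_Ez hx.1 (comm_mem_Ez c.u4 ha hy.1))]; exact mul_mem hx.2 hy.2⟩
  inv_mem' := fun {x} hx => ⟨inv_mem hx.1, by
    have h := comm_mul_right (a := a) (x := x⁻¹) (y := x) (commute_Ez (inv_mem hx.1) (comm_mem_Ez c.u4 ha hx.1))
    rw [inv_mul_cancel, commutatorElement_one_right] at h
    rw [eq_inv_of_mul_eq_one_left h.symm]; exact inv_mem hx.2⟩

theorem mem_zpowers_of_centralizes (c : Ctx S) (hA : Iv S z A) (hz : z ∈ Ez S) (hz1 : z ≠ 1) {w : G}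
    (hw : w ∈ Ez S) (h : w ∈ centralizer (A : Set G)) : w ∈ zpowers z := by
  obtain ⟨e, he, he1, hez⟩ := exists_other c.u4 hz
  by_contra hne
  obtain ⟨a, ha, ha1⟩ : ∃ a ∈ A, a ≠ 1 := by
    by_contra hh; push Not at hh
    exact hA.ne ((Subgroup.eq_bot_iff_forall _).2 hh)
  have hw1 : w ≠ 1 := fun e' => hne (e' ▸ one_mem _)
  have hwz : w ≠ z := fun e' => hne (e' ▸ mem_zpowers z)
  have h1 := hA.inv a ha w hw hw1 hwz
  rw [← mem_centralizer_iff.1 h a ha, mul_inv_cancel_right] at h1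
  exact ha1 (eq_one_of_inv_eq h1.symm (orderOf_odd hA.mem.odd ha))

theorem mul_mem_zpowers (c : Ctx S) (hz : z ∈ Ez S) (hz1 : z ≠ 1) {a b : G} (ha : a ∈ Ez S) (hb : b ∈ Ez S)
    (ha' : a ∉ zpowers z) (hb' : b ∉ zpowers z) : a * b ∈ zpowers z := by
  obtain ⟨e, he, he1, hez⟩ := exists_other c.u4 hz
  have hc : ∀ {w : G}, w ∈ Ez S → w ∉ zpowers z → w = e ∨ w = z * e := fun {w} hw hw' => by
    rcases mem_Ez_cases c.u4 hz he hz1 he1 hez.symm hw with h1 | h1 | h1 | h1 <;>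
      first
        | exact Or.inl h1
        | exact Or.inr h1
        | (rw [h1] at hw'; exact absurd (one_mem _) hw')
        | (rw [h1] at hw'; exact absurd (mem_zpowers z) hw')
  rcases hc ha ha' with rfl | rfl <;> rcases hc hb hb' with rfl | rfl
  · rw [he.2.1]; exact one_mem _
  · rw [(Ez_comm hz he).eq, ← mul_assoc, he.2.1, one_mul]; exact mem_zpowers z
  · rw [mul_assoc, he.2.1, mul_one]; exact mem_zpowers z
  · rw [(mul_mem hz he : z * _ ∈ Ez S).2.1]; exact one_mem _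

theorem sec_rule (c : Ctx S) (hz : z ∈ Ez S) (hz1 : z ≠ 1) {a : G} (ha : a ∈ (S : Subgroup G)) :
    ∀ x ∈ (S : Subgroup G), ∀ y ∈ (S : Subgroup G), x ∉ sec c ha z → y ∉ sec c ha z →
      x⁻¹ * y ∈ sec c ha z := by
  intro x hx y hy hxn hyn
  refine ⟨mul_mem (inv_mem hx) hy, ?_⟩
  have h0 := comm_mul_right (a := a) (x := x⁻¹) (y := x) (commute_Ez (inv_mem hx) (comm_mem_Ez c.u4 ha hx))
  rw [inv_mul_cancel, commutatorElement_one_right] at h0
  rw [comm_mul_right (commute_Ez (inv_mem hx) (comm_mem_Ez c.u4 ha hy)), eq_inv_of_mul_eq_one_left h0.symm,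
    Ez_inv (comm_mem_Ez c.u4 ha hx)]
  have hwx : ⁅a, x⁆ ∉ zpowers z := fun h => hxn ⟨hx, h⟩
  have hwy : ⁅a, y⁆ ∉ zpowers z := fun h => hyn ⟨hy, h⟩
  exact mul_mem_zpowers c hz hz1 (comm_mem_Ez c.u4 ha hx) (comm_mem_Ez c.u4 ha hy) hwx hwy

/-- An inverted `p`-subgroup has order `p` to an even power at least four. -/
theorem card_iv (c : Ctx S) (hz : z ∈ Ez S) (hz1 : z ≠ 1) (hA : Iv S z A) {p : ℕ} [Fact p.Prime]
    (hp : IsPGroup p A) : ∃ k, 2 ≤ k ∧ Nat.card A = p ^ (2 * k) := by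
  obtain ⟨s, hs, hsz, hsE⟩ := exists_root c.u4 hz hz1
  obtain ⟨B, B', hBd, hB'A, hB'm, hsup, hcard, heq⟩ := iv_split c hA hz hz1 hs hsz
  obtain ⟨k, hk⟩ := IsPGroup.iff_card.1 (hp.to_le (show B ≤ A from hBd ▸ inf_le_left))
  refine ⟨k, ?_, by rw [hcard, ← heq, hk, two_mul, pow_add]⟩
  by_contra hlt
  obtain rfl | rfl : k = 0 ∨ k = 1 := by omega
  · exact hA.ne (Subgroup.card_eq_one.1 (by rw [hcard, ← heq, hk]; simp))
  rw [pow_one] at hk
  have hcyc : ∀ D : Subgroup G, Nat.card D = p → ∀ b ∈ D, b ≠ 1 → zpowers b = D := fun D hD b hb hb1 => by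
    refine Subgroup.eq_of_le_of_card_ge (zpowers_le.2 hb) ?_
    rw [Nat.card_zpowers, hD]
    have : orderOf b ∣ p := hD ▸ orderOf_dvd_natCard D hb
    exact ((Nat.dvd_prime (Fact.out : p.Prime)).1 this).elim (fun h => absurd (orderOf_eq_one_iff.1 h) hb1) ge_of_eq
  obtain ⟨e, he, he1, hez⟩ := exists_other c.u4 hz
  obtain ⟨t, ht, hst⟩ := comm_surj' c.u4 hs hsE he
  set H := sec c hs z with hH
  have htH : t ∉ H := fun h => by
    have h2 : ⁅s, t⁆ ∈ zpowers z := h.2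
    rw [hst] at h2
    obtain ⟨i, hi⟩ := h2
    rcases Int.even_or_odd' i with ⟨j, rfl | rfl⟩
    · exact he1 (by rw [← hi]; simp [zpow_mul, show z ^ (2 : ℤ) = 1 by rw [zpow_two, hz.2.1]])
    · exact hez (by rw [← hi]; simp [zpow_add, zpow_mul, show z ^ (2 : ℤ) = 1 by rw [zpow_two, hz.2.1]])
  have hHS : H ≤ (S : Subgroup G) := fun x hx => hx.1
  -- the elements of `H` keep both parts
  have hzA : ∀ a ∈ A, ∀ w ∈ zpowers z, Commute w a := fun a ha w hw => by
    obtain ⟨i, rfl⟩ := hw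
    exact Commute.zpow_left (Commute.symm (mem_centralizer_singleton_iff.1 (hA.cent ha) : Commute a z)) i
  have hrel : ∀ x ∈ H, ∀ a ∈ A, s * (x * a * x⁻¹) * s⁻¹ = x * (s * a * s⁻¹) * x⁻¹ := fun x hx a ha => by
    have hmem : x * (s * a * s⁻¹) * x⁻¹ ∈ A :=
      (mem_normalizer_iff.1 (hA.mem.norm hx.1) _).1 ((mem_normalizer_iff.1 (hA.mem.norm hs) a).1 ha)
    rw [show s * (x * a * x⁻¹) * s⁻¹ = ⁅s, x⁆ * (x * (s * a * s⁻¹) * x⁻¹) * ⁅s, x⁆⁻¹ by
      rw [commutatorElement_def]; group]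
    exact mul_inv_eq_iff_eq_mul.2 (hzA _ hmem _ hx.2).eq
  have hnB : ∀ x ∈ H, x ∈ normalizer (B : Set G) := fun x hx => mem_normalizer_fintype fun b hb => by
    rw [hBd] at hb ⊢
    refine Subgroup.mem_inf.2 ⟨(mem_normalizer_iff.1 (hA.mem.norm hx.1) b).1 hb.1,
      mem_centralizer_singleton_iff.2 (mul_inv_eq_iff_eq_mul.1
        (?_ : s * (x * b * x⁻¹) * s⁻¹ = x * b * x⁻¹)).symm⟩
    rw [hrel x hx b hb.1, ← mem_centralizer_singleton_iff.1 hb.2, mul_inv_cancel_right]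
  have hnB' : ∀ x ∈ H, x ∈ normalizer (B' : Set G) := fun x hx => mem_normalizer_fintype fun b hb => by
    rw [SetLike.mem_coe, hB'm] at hb ⊢
    exact ⟨(mem_normalizer_iff.1 (hA.mem.norm hx.1) b).1 hb.1, by rw [hrel x hx b hb.1, hb.2]; group⟩
  have hcomm : ∀ u ∈ H, ∀ v ∈ H, ⁅u, v⁆ ∈ zpowers z := fun u hu v hv => by
    refine mem_zpowers_of_centralizes c hA hz hz1 (comm_mem_Ez c.u4 hu.1 hv.1) (le_centralizer_iff.1 (?_ :
      A ≤ centralizer (zpowers ⁅u, v⁆ : Set G)) (mem_zpowers _))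
    refine hsup.trans (sup_le (fun b hb => ?_) fun b hb => ?_) <;>
      refine mem_centralizer_iff.2 fun w hw => ?_ <;>
      obtain ⟨i, rfl⟩ := hw
    · by_cases hb1 : b = 1
      · subst hb1; simp
      have e1 := hcyc B hk b hb hb1
      exact ((commutator_fixes_cyclic (e1 ▸ hnB u hu) (e1 ▸ hnB v hv)).zpow_left i).eq
    · by_cases hb1 : b = 1
      · subst hb1; simp
      have e1 := hcyc B' (heq ▸ hk) b hb hb1
      exact ((commutator_fixes_cyclic (e1 ▸ hnB' u hu) (e1 ▸ hnB' v hv)).zpow_left i).eq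
  -- some element outside the centre has all commutators in `⟨z⟩`
  have h1 := card_le_two_mul (K := (S : Subgroup G)) (T := H) (sec_rule c hz hz1 hs)
  rw [inf_eq_right.2 hHS, c.u4.card] at h1
  have h2 := card_le_two_mul (K := H) (T := sec c ht z) fun x hx y hy => sec_rule c hz hz1 ht x hx.1 y hy.1
  obtain ⟨u, ⟨huH, hut⟩, huE⟩ := SetLike.not_le_iff_exists.1 (fun hle : H ⊓ sec c ht z ≤ Ez S => by
    have := card_le_of_le hle
    rw [card_Ez c.u4] at this
    omega)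
  have hall : ∀ x ∈ (S : Subgroup G), ⁅u, x⁆ ∈ zpowers z := fun x hx => by
    by_cases hxH : x ∈ H
    · exact hcomm u huH x hxH
    · have hw := sec_rule c hz hz1 hs t ht x hx htH hxH
      have e1 : ⁅u, t⁆ ∈ zpowers z := by rw [← commutatorElement_inv]; exact inv_mem hut.2
      rw [← mul_inv_cancel_left t x, comm_mul_right (commute_Ez ht (comm_mem_Ez c.u4 huH.1 hw.1))]
      exact mul_mem e1 (hcomm u huH _ hw)
  obtain ⟨y, hy, huy⟩ := comm_surj' c.u4 huH.1 huE he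
  have h3 := hall y hy
  rw [huy] at h3
  exact htH ⟨ht, hst ▸ h3⟩

/-- An odd `3'`-member centralising the involutions centralises an inverted subgroup of order eighty-one. -/
theorem centralizes_eighty_one (c : Ctx S) (hz : z ∈ Ez S) (hz1 : z ≠ 1) (hA : Iv S z A) (h81 : Nat.card A = 81)
    {X : Subgroup G} (hX : Mem S X) (hXE : X ≤ centralizer (Ez S : Set G)) (hXA : X ≤ normalizer (A : Set G))
    (h3 : ¬ 3 ∣ Nat.card X) : X ≤ centralizer (A : Set G) := by
  classical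
  set X₀ := X ⊓ centralizer (A : Set G) with hX₀d
  have hX₀ : Mem S X₀ := hX.inf_normalized (norm_centralizer_of_norm hA.mem.norm)
  have hX₀n : X ≤ normalizer (X₀ : Set G) := fun x hx => mem_normalizer_of_cj_le (by
    rw [hX₀d, cj_inf, cj_eq_self_of_mem hx, cj_centralizer, cj_eq_self (hXA hx)])
  -- the fixed elements of a root centralise `A`
  have hfix : ∀ s ∈ (S : Subgroup G), s * s = z → X ⊓ centralizer ({s} : Set G) ≤ X₀ := fun s hs hsz => by
    obtain ⟨B, B', hBd, hB'A, hB'm, hsup, hcard, heq⟩ := iv_split c hA hz hz1 hs hsz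
    have h9 : Nat.card B = 9 := by
      rw [h81, ← heq, ← pow_two, show (81 : ℕ) = 9 ^ 2 by norm_num] at hcard
      exact (Nat.pow_left_injective (by norm_num : 2 ≠ 0) hcard).symm
    set K := X ⊓ centralizer ({s} : Set G)
    have hK : Odd (Nat.card K) := odd_of_le inf_le_left hX.odd
    have hK3 : ¬ 3 ∣ Nat.card K := fun h => h3 (h.trans (card_dvd_of_le inf_le_left))
    have hnB : K ≤ normalizer (B : Set G) := fun x hx => mem_normalizer_of_cj_le (by
      rw [hBd, cj_inf, cj_eq_self (hXA hx.1), cj_cent,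
        mul_inv_eq_iff_eq_mul.2 (mem_centralizer_singleton_iff.1 hx.2)])
    have hnB' : K ≤ normalizer (B' : Set G) := fun x hx => mem_normalizer_fintype fun b hb => by
      rw [SetLike.mem_coe, hB'm] at hb ⊢
      refine ⟨(mem_normalizer_iff.1 (hXA hx.1) b).1 hb.1, ?_⟩
      have hxs : x * s = s * x := mem_centralizer_singleton_iff.1 hx.2
      calc s * (x * b * x⁻¹) * s⁻¹ = s * x * b * (s * x)⁻¹ := by group
        _ = x * s * b * (x * s)⁻¹ := by rw [hxs]
        _ = x * (s * b * s⁻¹) * x⁻¹ := by group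
        _ = (x * b * x⁻¹)⁻¹ := by rw [hb.2]; group
    refine le_inf inf_le_left (le_centralizer_iff.1 (hsup.trans (sup_le ?_ ?_)))
    · exact le_centralizer_iff.1 (centralizes_nine h9 hK hK3 hnB)
    · exact le_centralizer_iff.1 (centralizes_nine (heq ▸ h9) hK hK3 hnB')
  by_contra hne
  have hneq : ¬ X ≤ X₀ := fun h => hne (h.trans inf_le_right)
  haveI : (X₀.subgroupOf X).Normal := normal_subgroupOf_of_le_normalizer hX₀n
  -- the roots invert the quotient
  have hinv : ∀ s ∈ (S : Subgroup G), s * s = z → ∀ x ∈ X, x * (s * x * s⁻¹) ∈ X₀ := by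
    intro s hs hsz
    have hsX := hX.norm hs
    set ψ : X →* X := (X.normalizerMonoidHom ⟨s, hsX⟩).toMonoidHom with hψ
    have happ : ∀ y : X, ((ψ y : X) : G) = s * y * s⁻¹ := fun y => rfl
    have hle : X₀.subgroupOf X ≤ (X₀.subgroupOf X).comap ψ := fun y hy => by
      show ((ψ y : X) : G) ∈ X₀
      rw [happ]
      exact (mem_normalizer_iff.1 (hX₀.norm hs) _).1 hy
    set φ := QuotientGroup.map (X₀.subgroupOf X) (X₀.subgroupOf X) ψ hle with hφ
    have hf : MonoidHom.FixedPointFree φ := fun q hq => by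
      induction q using QuotientGroup.induction_on with | _ x =>
      rw [QuotientGroup.eq_one_iff, mem_subgroupOf]
      have h1 : (x : G)⁻¹ * (s * x * s⁻¹) ∈ X₀ := by
        have := QuotientGroup.eq.1 (hq.symm : (x : X ⧸ X₀.subgroupOf X) = (ψ x : X))
        exact this
      haveI : Fact (Nat.Prime 2) := ⟨Nat.prime_two⟩
      obtain ⟨y, hy, hyD⟩ := Solv.exists_fixed_in_coset' (zpowers s) X X₀ (zpowers_le.2 hsX)
        (hX.coprime_two (S.isPGroup'.to_le (zpowers_le.2 hs))) (Or.inr hX.solvable) inf_le_left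
        (zpowers_le.2 (hX₀.norm hs)) x.2 (fun a ha => by
          -- the powers of `s` act as `1` or `s`
          obtain ⟨i, rfl⟩ := ha
          rcases Int.even_or_odd' i with ⟨j, rfl | rfl⟩
          · have hj : Commute (z ^ j) (x : G) :=
              Commute.zpow_left (mem_centralizer_iff.1 (hXE x.2) z hz : Commute z (x : G)) j
            simp only [zpow_mul, zpow_two, hsz]
            rw [hj.eq, mul_inv_cancel_right, inv_mul_cancel]
            exact one_mem _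
          · have hj : Commute (z ^ j) (x : G) :=
              Commute.zpow_left (mem_centralizer_iff.1 (hXE x.2) z hz : Commute z (x : G)) j
            simp only [zpow_add, zpow_mul, zpow_two, hsz, zpow_one]
            have hjs : Commute (z ^ j) s := (commute_Ez hs hz).symm.zpow_left j
            rw [show z ^ j * s * (x : G) * (z ^ j * s)⁻¹ = z ^ j * (s * x * s⁻¹) * (z ^ j)⁻¹ by group,
              show z ^ j * (s * (x : G) * s⁻¹) = s * x * s⁻¹ * z ^ j from
                ((hjs.mul_right hj).mul_right hjs.inv_right).eq, mul_inv_cancel_right]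
            exact h1)
      have hy0 : y ∈ X₀ := hfix s hs hsz (Subgroup.mem_inf.2 ⟨hy.1, mem_centralizer_singleton_iff.2
        (mem_centralizer_iff.1 hy.2 s (mem_zpowers s)).symm⟩)
      have := mul_mem hy0 (inv_mem hyD)
      rwa [show y * ((x : G)⁻¹ * y)⁻¹ = x by group] at this
    have h2 : Function.Involutive φ := fun q => by
      induction q using QuotientGroup.induction_on with | _ x =>
      show ((ψ (ψ x) : X) : X ⧸ X₀.subgroupOf X) = x
      rw [show ψ (ψ x) = x from Subtype.ext (by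
        rw [happ, happ, show s * (s * (x : G) * s⁻¹) * s⁻¹ = s * s * x * (s * s)⁻¹ by group, hsz,
          mem_centralizer_iff.1 (hXE x.2) z hz, mul_inv_cancel_right])]
    intro x hx
    have h3 := congrFun (hf.coe_eq_inv_of_involutive h2) ((⟨x, hx⟩ : X) : X ⧸ X₀.subgroupOf X)
    have h4 : ((ψ ⟨x, hx⟩ : X) : X ⧸ X₀.subgroupOf X) = ((⟨x, hx⟩⁻¹ : X) : X ⧸ X₀.subgroupOf X) := h3
    have h5 := QuotientGroup.eq.1 h4.symm
    rw [mem_subgroupOf] at h5
    rw [show x * (s * x * s⁻¹) = ((⟨x, hx⟩⁻¹ : X)⁻¹ * ψ ⟨x, hx⟩ : X) by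
      rw [Subgroup.coe_mul, happ, Subgroup.coe_inv, Subgroup.coe_inv, inv_inv]]
    exact h5
  let Kh : Subgroup G :=
    { carrier := {u | u ∈ (S : Subgroup G) ∧ ∀ x ∈ X, x⁻¹ * (u * x * u⁻¹) ∈ X₀}
      one_mem' := ⟨one_mem _, fun x _ => by simp⟩
      mul_mem' := fun {u v} hu hv => ⟨mul_mem hu.1 hv.1, fun x hx => by
        rw [show x⁻¹ * (u * v * x * (u * v)⁻¹) = (x⁻¹ * (u * x * u⁻¹)) * (u * (x⁻¹ * (v * x * v⁻¹)) * u⁻¹) by group]
        exact mul_mem (hu.2 x hx) ((mem_normalizer_iff.1 (hX₀.norm hu.1) _).1 (hv.2 x hx))⟩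
      inv_mem' := fun {u} hu => ⟨inv_mem hu.1, fun x hx => by
        have hy : u⁻¹ * x * u ∈ X := by
          have := (mem_normalizer_iff.1 (inv_mem (hX.norm hu.1)) x).1 hx
          rwa [inv_inv] at this
        have := inv_mem (hu.2 _ hy)
        rwa [show ((u⁻¹ * x * u)⁻¹ * (u * (u⁻¹ * x * u) * u⁻¹))⁻¹ = x⁻¹ * (u⁻¹ * x * u⁻¹⁻¹) by group] at this⟩ }
  have hKS : Kh ≤ (S : Subgroup G) := fun u hu => hu.1
  have hEK : Ez S ≤ Kh := fun w hw => ⟨hw.1, fun x hx => by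
    rw [mem_centralizer_iff.1 (hXE hx) w hw, mul_inv_cancel_right, inv_mul_cancel]; exact one_mem _⟩
  have hroot : ∀ s ∈ (S : Subgroup G), s * s = z → s ∉ Kh := fun s hs hsz hsK => hneq fun x hx => by
    have h1 := mul_mem (hinv s hs hsz x hx) (inv_mem (hsK.2 x hx))
    rw [show x * (s * x * s⁻¹) * (x⁻¹ * (s * x * s⁻¹))⁻¹ = x ^ 2 by rw [pow_two]; group] at h1
    obtain ⟨j, hj⟩ := exists_pow_eq_self_of_coprime (orderOf_odd hX.odd hx).coprime_two_left
    rw [← hj]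
    exact pow_mem h1 j
  have hprod : ∀ s₁ ∈ (S : Subgroup G), s₁ * s₁ = z → ∀ s₂ ∈ (S : Subgroup G), s₂ * s₂ = z → s₁⁻¹ * s₂ ∈ Kh :=
    fun s₁ h₁ h₁z s₂ h₂ h₂z => ⟨mul_mem (inv_mem h₁) h₂, fun x hx => by
      rw [show x⁻¹ * (s₁⁻¹ * s₂ * x * (s₁⁻¹ * s₂)⁻¹) =
        s₁⁻¹ * ((s₁ * x⁻¹ * s₁⁻¹ * x⁻¹) * (x * (s₂ * x * s₂⁻¹))) * s₁⁻¹⁻¹ by group]
      refine (mem_normalizer_iff.1 (hX₀.norm (inv_mem h₁)) _).1 (mul_mem ?_ (hinv s₂ h₂ h₂z x hx))
      rw [show s₁ * x⁻¹ * s₁⁻¹ * x⁻¹ = (x * (s₁ * x * s₁⁻¹))⁻¹ by group]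
      exact inv_mem (hinv s₁ h₁ h₁z x hx)⟩
  obtain ⟨s₁, hs₁, hs₁z, -⟩ := exists_root c.u4 hz hz1
  have h20 : 20 ≤ Nat.card Kh := by
    rw [← card_fibre c.u4 hz hz1]
    exact Nat.card_le_card_of_injective
      (fun s : {x : G // x ∈ (S : Subgroup G) ∧ x * x = z} => (⟨s₁⁻¹ * s.1, hprod s₁ hs₁ hs₁z s.1 s.2.1 s.2.2⟩ : Kh))
      fun a b hab => Subtype.ext (mul_left_cancel (congrArg Subtype.val hab))
  obtain ⟨i, -, hi⟩ := (Nat.dvd_prime_pow Nat.prime_two (m := 6)).1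
    (show Nat.card Kh ∣ 2 ^ 6 from (by rw [c.u4.card]; norm_num : Nat.card (S : Subgroup G) = 2 ^ 6) ▸ card_dvd_of_le hKS)
  have hi5 : i = 5 := by
    have hle : i ≤ 5 := by
      by_contra hc
      have := Nat.pow_le_pow_right two_pos (show 6 ≤ i by omega)
      exact hroot s₁ hs₁ hs₁z (Subgroup.eq_of_le_of_card_ge hKS (by rw [c.u4.card, hi]; omega) ▸ hs₁)
    have hge : 5 ≤ i := by
      by_contra hc
      have := Nat.pow_le_pow_right two_pos (show i ≤ 4 by omega)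
      omega
    omega
  subst hi5
  obtain ⟨u, hu, huE⟩ := SetLike.not_le_iff_exists.1 (fun hle : Kh ≤ Ez S => by
    have := card_le_of_le hle
    rw [card_Ez c.u4] at this
    omega)
  set T := Ez S ⊔ zpowers u with hT
  have hT8 : Nat.card T ≤ 8 := by
    have h1 := Solv.card_sup_mul_card_inf' (Ez S) (zpowers u) (fun w hw => mem_normalizer_fintype fun y hy => by
      rw [(commute_Ez (zpowers_le.2 hu.1 hw) hy).eq, mul_inv_cancel_right]; exact hy)
    have hu4 : orderOf u ≤ 4 := Nat.le_of_dvd (by norm_num) (orderOf_dvd_of_pow_eq_one (by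
      rw [show (4 : ℕ) = 2 * 2 from rfl, pow_mul, pow_two u, pow_two, (sq_mem_Ez c.u4 hu.1).2.1]))
    have hinf : 2 ≤ Nat.card (Ez S ⊓ zpowers u : Subgroup G) := by
      haveI : Nontrivial (Ez S ⊓ zpowers u : Subgroup G) := (Subgroup.nontrivial_iff_ne_bot _).2 fun e =>
        huE (mem_Ez_of_sq c.u4 hu.1 (Subgroup.mem_bot.1 (e ▸ Subgroup.mem_inf.2
          ⟨sq_mem_Ez c.u4 hu.1, mul_mem (mem_zpowers u) (mem_zpowers u)⟩)))
      exact Finite.one_lt_card
    rw [card_Ez c.u4, Nat.card_zpowers] at h1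
    nlinarith
  have h16 := card_le_two_mul (K := Kh) (T := sec c hu.1 z) fun x hx y hy => sec_rule c hz hz1 hu.1 x hx.1 y hy.1
  obtain ⟨v, ⟨hv, hvu⟩, hvT⟩ := SetLike.not_le_iff_exists.1 (fun hle : Kh ⊓ sec c hu.1 z ≤ T => by
    have := card_le_of_le hle
    omega)
  have hvE : v ∉ Ez S := fun h => hvT (mem_sup_left h)
  have huv : u * v ∉ Ez S := fun h => hvT (by
    rw [show v = u⁻¹ * (u * v) by group]
    exact mul_mem (mem_sup_right (inv_mem (mem_zpowers u))) (mem_sup_left h))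
  have hsq : ∀ w ∈ Kh, w ∉ Ez S → w * w ∉ zpowers z := fun w hw hwE h => by
    have h' : w * w = 1 ∨ w * w = z := by
      obtain ⟨e, he, he1, hez⟩ := exists_other c.u4 hz
      obtain ⟨j, hj⟩ := h
      simp only at hj
      rcases Int.even_or_odd' j with ⟨m, rfl | rfl⟩
      · left; rw [← hj, zpow_mul, zpow_two, hz.2.1, one_zpow]
      · right; rw [← hj, zpow_add, zpow_mul, zpow_two, hz.2.1, one_zpow, one_mul, zpow_one]
    exact h'.elim (fun h1 => hwE (mem_Ez_of_sq c.u4 hw.1 h1)) fun h1 => hroot w hw.1 h1 hw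
  refine hsq _ (mul_mem hu hv) huv ?_
  have hw' : ⁅u⁻¹, v⁆ = ⁅u, v⁆⁻¹ := by
    have hc := commute_Ez (inv_mem hu.1) (comm_mem_Ez c.u4 hu.1 hv.1)
    rw [show ⁅u⁻¹, v⁆ = u⁻¹ * ⁅u, v⁆⁻¹ * u⁻¹⁻¹ by rw [commutatorElement_def, commutatorElement_def]; group,
      hc.inv_right.eq, mul_inv_cancel_right]
  have e1 : u * v * (u * v) = u * u * (v * v) * ⁅u⁻¹, v⁆ := by
    have hc : Commute (v * v) ⁅u⁻¹, v⁆ := commute_Ez (mul_mem hv.1 hv.1) (comm_mem_Ez c.u4 (inv_mem hu.1) hv.1)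
    rw [mul_assoc (u * u), hc.eq, commutatorElement_def]; group
  rw [e1, hw']
  exact mul_mem (mul_mem_zpowers c hz hz1 (sq_mem_Ez c.u4 hu.1) (sq_mem_Ez c.u4 hv.1) (hsq u hu huE) (hsq v hv hvE))
    (inv_mem hvu.2)

end Cfsg.Agent.UFour
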