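import Cfsg.Agent.Lib.UFour.Members

/-!
# Maximal members of prime power order

Two of them with non-trivial intersection are conjugate under `C(S)`. A prime is linked when a member of its power order
meets two centralisers; then a moving element of the normaliser fixes each of them.
-/

set_option autoImplicit false
set_option linter.style.haveILetI false
set_option linter.unusedSectionVars false

namespace Cfsg.Agent.UFour

open Subgroup Cfsg.Agent Cfsg.Agent.Fusion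
open scoped commutatorElement Pointwise

universe u

variable {G : Type u} [Group G]

/-- A maximal member of `p`-power order. -/
structure PMx (p : ℕ) (S : Sylow 2 G) (R : Subgroup G) : Prop where
  mem : Mem S R
  pgrp : IsPGroup p R
  max : ∀ Y : Subgroup G, Mem S Y → IsPGroup p Y → R ≤ Y → Y ≤ R

/-- A member of `p`-power order meets the centralisers of two central involutions. -/
def Lk (p : ℕ) (S : Sylow 2 G) : Prop :=
  ∃ X : Subgroup G, Mem S X ∧ IsPGroup p X ∧ ∃ a ∈ Ez S, ∃ b ∈ Ez S, a ≠ 1 ∧ b ≠ 1 ∧ a ≠ b ∧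
    X ⊓ centralizer ({a} : Set G) ≠ ⊥ ∧ X ⊓ centralizer ({b} : Set G) ≠ ⊥

/-- Conjugate under `C(S)`. -/
def Rel (S : Sylow 2 G) (R R' : Subgroup G) : Prop :=
  ∃ c ∈ centralizer ((S : Subgroup G) : Set G), cj R c = R'

theorem Rel.refl (S : Sylow 2 G) (R : Subgroup G) : Rel S R R := ⟨1, one_mem _, cj_one R⟩

theorem Rel.symm {S : Sylow 2 G} {R R' : Subgroup G} (h : Rel S R R') : Rel S R' R := by
  obtain ⟨c, hc, rfl⟩ := h
  exact ⟨c⁻¹, inv_mem hc, cj_cj_inv R c⟩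

theorem Rel.trans {S : Sylow 2 G} {R R' R'' : Subgroup G} (h : Rel S R R') (h' : Rel S R' R'') : Rel S R R'' := by
  obtain ⟨c, hc, rfl⟩ := h
  obtain ⟨d, hd, rfl⟩ := h'
  exact ⟨d * c, mul_mem hd hc, (cj_cj R c d).symm⟩

variable [Finite G] {S : Sylow 2 G} {p : ℕ}

theorem Rel.map {R R' : Subgroup G} (h : Rel S R R') {n : G} (hn : n ∈ normalizer ((S : Subgroup G) : Set G)) :
    Rel S (cj R n) (cj R' n) := by
  obtain ⟨c, hc, rfl⟩ := h
  refine ⟨n * c * n⁻¹, ?_, ?_⟩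
  · refine mem_centralizer_iff.2 fun y hy => ?_
    have hy' : n⁻¹ * y * n ∈ (S : Subgroup G) := by
      have := (mem_normalizer_iff.1 (inv_mem hn) y).1 hy
      rwa [inv_inv] at this
    calc y * (n * c * n⁻¹) = n * (n⁻¹ * y * n * c) * n⁻¹ := by group
      _ = n * (c * (n⁻¹ * y * n)) * n⁻¹ := by rw [mem_centralizer_iff.1 hc _ hy']
      _ = n * c * n⁻¹ * y := by group
  · rw [cj_cj, cj_cj, inv_mul_cancel_right]

theorem exists_pmx {X : Subgroup G} (hX : Mem S X) (hp : IsPGroup p X) : ∃ R, PMx p S R ∧ X ≤ R := by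
  obtain ⟨R, hXR, hR⟩ := Finite.exists_le_maximal
    (p := fun R : Subgroup G => Mem S R ∧ IsPGroup p R) (a := X) ⟨hX, hp⟩
  exact ⟨R, ⟨hR.prop.1, hR.prop.2, fun Y hY hpY h => hR.2 ⟨hY, hpY⟩ h⟩, hXR⟩

theorem PMx.cj {R : Subgroup G} (hR : PMx p S R) {n : G} (hn : n ∈ normalizer ((S : Subgroup G) : Set G)) :
    PMx p S (Fusion.cj R n) := by
  refine ⟨hR.mem.cj hn, isPGroup_cj hR.pgrp n, fun Y hY hpY h => ?_⟩
  have h1 := hR.max (Fusion.cj Y n⁻¹) (hY.cj (inv_mem hn)) (isPGroup_cj hpY _)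
    ((cj_cj_inv R n).ge.trans (cj_mono h n⁻¹))
  exact (cj_inv_cj Y n).ge.trans (cj_mono h1 n)

theorem cent_le_normalizer' : centralizer ((S : Subgroup G) : Set G) ≤ normalizer ((S : Subgroup G) : Set G) :=
  fun x hx => mem_normalizer_fintype fun y hy => by
    rw [← mem_centralizer_iff.1 hx y hy, mul_inv_cancel_right]; exact hy

/-- An invariant Sylow subgroup over an invariant subgroup of prime power order. -/
theorem exists_inv_sylow [Fact p.Prime] {X U : Subgroup G} (hX : Mem S X) (hU : Mem S U) (hUX : U ≤ X)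
    (hp : IsPGroup p U) : ∃ P, Solv.IsSylIn p P X ∧ U ≤ P ∧ Mem S P ∧ IsPGroup p P := by
  obtain ⟨P, hP, hUP, hSP⟩ := Solv.exists_invariant_sylow_ge (A := (S : Subgroup G)) (K := X) hX.norm
    (hX.coprime_two S.isPGroup') (Or.inr hX.solvable) U hUX hp hU.norm
  exact ⟨P, hP, hUP, ⟨odd_of_le hP.1 hX.odd, hSP⟩, hP.isPGroup⟩

theorem inv_sylow_conj [Fact p.Prime] {X P Q : Subgroup G} (hX : Mem S X) (hP : Solv.IsSylIn p P X)
    (hQ : Solv.IsSylIn p Q X) (hPS : Mem S P) (hQS : Mem S Q) : Rel S P Q := by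
  obtain ⟨c, hc, he⟩ := Solv.invariant_sylow_conj (A := (S : Subgroup G)) (K := X) hX.norm
    (hX.coprime_two S.isPGroup') (Or.inr hX.solvable) hP hQ hPS.norm hQS.norm
  exact ⟨c, hc.2, he ▸ rfl⟩

namespace Ctx

variable (c : Ctx S)
include c

theorem normalizer_growth_le {R D : Subgroup G} (hR : Mem S R) (hD : Mem S D) (hD1 : D ≠ ⊥) :
    R ⊓ normalizer (D : Set G) ≤ od (normalizer (D : Set G)) :=
  c.mem_le hD hD1 (hR.inf_normalized (hD.norm.trans le_normalizer)) inf_le_right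

/-- Maximal members of prime power order meeting non-trivially are conjugate under `C(S)`. -/
theorem pmx_rel [Fact p.Prime] {R₁ R₂ : Subgroup G} (h1 : PMx p S R₁) (h2 : PMx p S R₂) (hne : R₁ ⊓ R₂ ≠ ⊥) :
    Rel S R₁ R₂ := by
  suffices key : ∀ m : ℕ, ∀ R₁ R₂ : Subgroup G, PMx p S R₁ → PMx p S R₂ → R₁ ⊓ R₂ ≠ ⊥ →
      Nat.card G - Nat.card (R₁ ⊓ R₂ : Subgroup G) = m → Rel S R₁ R₂ from key _ R₁ R₂ h1 h2 hne rfl
  intro m
  induction m using Nat.strong_induction_on with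
  | _ m ih =>
    intro R₁ R₂ h1 h2 hne hm
    set D := R₁ ⊓ R₂ with hDdef
    have hD : Mem S D := h1.mem.inf_normalized h2.mem.norm
    by_cases e1 : D = R₁
    · have hle : R₁ ≤ R₂ := e1.ge.trans inf_le_right
      rw [le_antisymm (h1.max R₂ h2.mem h2.pgrp hle) hle]
      exact Rel.refl S R₁
    by_cases e2 : D = R₂
    · have hle : R₂ ≤ R₁ := e2.ge.trans inf_le_left
      rw [le_antisymm hle (h2.max R₁ h1.mem h1.pgrp hle)]
      exact Rel.refl S R₁
    set X := od (normalizer (D : Set G)) with hX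
    have hXm : Mem S X := c.mem_od_norm hD
    have g1 := SylIn.normalizer_growth (T := D) inf_le_left e1 h1.pgrp
    have g2 := SylIn.normalizer_growth (T := D) inf_le_right e2 h2.pgrp
    obtain ⟨P₁, hP₁, hQ₁P₁, hP₁S, hP₁p⟩ := exists_inv_sylow hXm (h1.mem.inf_normalized (hD.norm.trans le_normalizer))
      (c.normalizer_growth_le h1.mem hD hne) (h1.pgrp.to_inf_left (K := normalizer (D : Set G)))
    obtain ⟨P₂, hP₂, hQ₂P₂, hP₂S, hP₂p⟩ := exists_inv_sylow hXm (h2.mem.inf_normalized (hD.norm.trans le_normalizer))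
      (c.normalizer_growth_le h2.mem hD hne) (h2.pgrp.to_inf_left (K := normalizer (D : Set G)))
    obtain ⟨R₁', hR₁', hP₁R⟩ := exists_pmx hP₁S hP₁p
    obtain ⟨R₂', hR₂', hP₂R⟩ := exists_pmx hP₂S hP₂p
    have step : ∀ A B : Subgroup G, PMx p S A → PMx p S B → D < A ⊓ B → Rel S A B := fun A B hA hB hlt => by
      have hc : Nat.card D < Nat.card (A ⊓ B : Subgroup G) := by
        by_contra hle
        exact hlt.ne (Subgroup.eq_of_le_of_card_ge hlt.le (Nat.le_of_not_lt hle))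
      have := Subgroup.card_le_card_group (A ⊓ B)
      refine ih _ ?_ A B hA hB (fun e => hne (le_bot_iff.1 (e ▸ hlt.le))) rfl
      omega
    obtain ⟨k, hk, hkP⟩ := inv_sylow_conj hXm hP₁ hP₂ hP₁S hP₂S
    have r1 : Rel S R₁ R₁' := step _ _ h1 hR₁'
      (g1.trans_le (le_inf inf_le_left (hQ₁P₁.trans hP₁R)))
    have r2 : Rel S (cj R₁' k) R₂' := step _ _ (hR₁'.cj (cent_le_normalizer' hk)) hR₂'
      ((g2.trans_le hQ₂P₂).trans_le (le_inf (hkP ▸ cj_mono hP₁R k) hP₂R))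
    have r3 : Rel S R₂' R₂ := step _ _ hR₂' h2 (g2.trans_le (le_inf (hQ₂P₂.trans hP₂R) inf_le_left))
    exact (r1.trans ⟨k, hk, rfl⟩).trans (r2.trans r3)

theorem pmx_rel_of_meet [Fact p.Prime] {R R' : Subgroup G} (hR : PMx p S R) (hR' : PMx p S R') {e : G}
    (he : e ∈ Ez S) (he1 : e ≠ 1) (h : R ⊓ centralizer ({e} : Set G) ≠ ⊥)
    (h' : R' ⊓ centralizer ({e} : Set G) ≠ ⊥) : Rel S R R' := by
  obtain ⟨P, hP, hRP, hPS, hPp⟩ := exists_inv_sylow (mem_th he) (hR.mem.inf_cent he) (c.le_th he he1 hR.mem)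
    (hR.pgrp.to_inf_left (K := centralizer ({e} : Set G)))
  obtain ⟨P', hP', hRP', hPS', hPp'⟩ := exists_inv_sylow (mem_th he) (hR'.mem.inf_cent he) (c.le_th he he1 hR'.mem)
    (hR'.pgrp.to_inf_left (K := centralizer ({e} : Set G)))
  obtain ⟨k, hk, hkP⟩ := inv_sylow_conj (mem_th he) hP hP' hPS hPS'
  obtain ⟨A, hA, hPA⟩ := exists_pmx hPS hPp
  obtain ⟨B, hB, hPB⟩ := exists_pmx hPS' hPp'
  have hne' : P' ≠ ⊥ := fun e' => h' (le_bot_iff.1 (e' ▸ hRP'))
  refine ((c.pmx_rel hR hA fun e' => h (le_bot_iff.1 (e' ▸ le_inf inf_le_left (hRP.trans hPA)))).trans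
    ⟨k, hk, rfl⟩).trans ((c.pmx_rel (hA.cj (cent_le_normalizer' hk)) hB fun e' => hne' (le_bot_iff.1
      (e' ▸ le_inf (hkP ▸ cj_mono hPA k) hPB))).trans (c.pmx_rel hB hR' fun e' => h' (le_bot_iff.1
        (e' ▸ le_inf (hRP'.trans hPB) inf_le_left))))

theorem exists_meet {X : Subgroup G} (hX : Mem S X) (hX1 : X ≠ ⊥) :
    ∃ e ∈ Ez S, e ≠ 1 ∧ X ⊓ centralizer ({e} : Set G) ≠ ⊥ := by
  by_contra h
  push Not at h
  exact hX1 (le_bot_iff.1 (c.gen hX.odd (Ez_le_normalizer hX) fun e he he1 => (h e he he1).le))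

theorem moves_all {n z a : G} (hn : n ∈ normalizer ((S : Subgroup G) : Set G)) (hz : z ∈ Ez S) (hz1 : z ≠ 1)
    (hnz : n * z * n⁻¹ ≠ z) (ha : a ∈ Ez S) (ha1 : a ≠ 1) : n * a * n⁻¹ ≠ a := by
  have hinj : ∀ {x y : G}, n * x * n⁻¹ = n * y * n⁻¹ → x = y := fun e => mul_left_cancel (mul_right_cancel e)
  intro e
  rcases cycle c.u4 hn hz hz1 hnz ha ha1 with rfl | rfl | rfl
  · exact hnz e
  · exact hnz (hinj e)
  · exact hnz (hinj (hinj e))

/-- A moving element of the normaliser of `S` fixing a maximal member of linked prime power order. -/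
theorem exists_stabilizer [Fact p.Prime] (hl : Lk p S) {R : Subgroup G} (hR : PMx p S R) (hR1 : R ≠ ⊥) {z n : G}
    (hz : z ∈ Ez S) (hz1 : z ≠ 1) (hn : n ∈ normalizer ((S : Subgroup G) : Set G)) (hnz : n * z * n⁻¹ ≠ z) :
    ∃ g ∈ normalizer ((S : Subgroup G) : Set G), g * z * g⁻¹ ≠ z ∧ cj R g = R := by
  obtain ⟨X, hX, hXp, a, ha, b, hb, ha1, hb1, hab, hXa, hXb⟩ := hl
  obtain ⟨R₀, hR₀, hXR₀⟩ := exists_pmx hX hXp
  have h0a : R₀ ⊓ centralizer ({a} : Set G) ≠ ⊥ := fun e => hXa (le_bot_iff.1 (e ▸ inf_le_inf_right _ hXR₀))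
  have h0b : R₀ ⊓ centralizer ({b} : Set G) ≠ ⊥ := fun e => hXb (le_bot_iff.1 (e ▸ inf_le_inf_right _ hXR₀))
  let Q : G → G → Prop := fun e e' => ∀ A B : Subgroup G, PMx p S A → PMx p S B →
    A ⊓ centralizer ({e} : Set G) ≠ ⊥ → B ⊓ centralizer ({e'} : Set G) ≠ ⊥ → Rel S A B
  have hQab : Q a b := fun A B hA hB hAa hBb =>
    (c.pmx_rel_of_meet hA hR₀ ha ha1 hAa h0a).trans (c.pmx_rel_of_meet hR₀ hB hb hb1 h0b hBb)
  have hback : ∀ {A : Subgroup G} {e : G}, A ⊓ centralizer ({n * e * n⁻¹} : Set G) ≠ ⊥ →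
      cj A n⁻¹ ⊓ centralizer ({e} : Set G) ≠ ⊥ := fun {A e} hA e' => hA (by
    have h1 := congrArg (fun H : Subgroup G => cj H n) e'
    simp only [cj_inf, cj_inv_cj, cj_cent, cj_bot] at h1
    exact h1)
  have hmap : ∀ {e e' : G}, Q e e' → Q (n * e * n⁻¹) (n * e' * n⁻¹) := fun {e e'} hQ A B hA hB hAe hBe => by
    have h1 := (hQ _ _ (hA.cj (inv_mem hn)) (hB.cj (inv_mem hn)) (hback hAe) (hback hBe)).map hn
    rwa [cj_inv_cj, cj_inv_cj] at h1
  have hsymm : ∀ {e e' : G}, Q e e' → Q e' e := fun {e e'} hQ A B hA hB hAe hBe => (hQ B A hB hA hBe hAe).symm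
  have hna := c.moves_all hn hz hz1 hnz ha ha1
  have hna' : n * a * n⁻¹ ∈ Ez S := PiClosed.omegaZ_normalizer hn ha
  have hna1 : n * a * n⁻¹ ≠ 1 := fun e => ha1 (conj_eq_one_iff.1 e)
  have hQ1 : Q a (n * a * n⁻¹) := by
    rcases cycle c.u4 hn ha ha1 hna hb hb1 with h | h | h
    · exact absurd h.symm hab
    · exact h ▸ hQab
    · have h2 := hsymm (hmap (h ▸ hQab : Q a (n * (n * a * n⁻¹) * n⁻¹)))
      have h3 : n * (n * (n * a * n⁻¹) * n⁻¹) * n⁻¹ = a := by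
        have hinj : ∀ {x y : G}, n * x * n⁻¹ = n * y * n⁻¹ → x = y := fun e => mul_left_cancel (mul_right_cancel e)
        have hm := PiClosed.omegaZ_normalizer hn (PiClosed.omegaZ_normalizer hn hna')
        rcases cycle c.u4 hn ha ha1 hna hm (fun e => hna1 (conj_eq_one_iff.1 (conj_eq_one_iff.1 e))) with h' | h' | h'
        · exact h'
        · exact absurd ((h.trans (hinj h')) : b = a) (Ne.symm hab)
        · exact absurd (hinj h') (c.moves_all hn hz hz1 hnz hna' hna1)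
      rwa [h3] at h2
  have hQall : ∀ e ∈ Ez S, e ≠ 1 → Q e (n * e * n⁻¹) := fun e he he1 => by
    rcases cycle c.u4 hn ha ha1 hna he he1 with rfl | rfl | rfl
    · exact hQ1
    · exact hmap hQ1
    · exact hmap (hmap hQ1)
  obtain ⟨e, he, he1, hRe⟩ := c.exists_meet hR.mem hR1
  have hRn : cj R n ⊓ centralizer ({n * e * n⁻¹} : Set G) ≠ ⊥ := fun e' => hRe (by
    have h1 := congrArg (fun H : Subgroup G => cj H n⁻¹) e'
    rw [← cj_cent e n] at h1
    simp only [cj_inf, cj_cj_inv, cj_bot] at h1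
    exact h1)
  obtain ⟨k, hk, hkR⟩ := (hQall e he he1 R (cj R n) hR (hR.cj hn) hRe hRn).symm
  refine ⟨k * n, mul_mem (cent_le_normalizer' hk) hn, ?_, by rw [← cj_cj, hkR]⟩
  rw [show k * n * z * (k * n)⁻¹ = k * (n * z * n⁻¹) * k⁻¹ by group,
    ← mem_centralizer_iff.1 hk _ (PiClosed.omegaZ_normalizer hn hz).1, mul_inv_cancel_right]
  exact hnz

/-- At an unlinked prime the members inside a member meet one centraliser only. -/
theorem collide [Fact p.Prime] (hl : ¬ Lk p S) {X D D' : Subgroup G} (hX : Mem S X) (hD : Mem S D)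
    (hDp : IsPGroup p D) (hDX : D ≤ X) (hD' : Mem S D') (hDp' : IsPGroup p D') (hDX' : D' ≤ X) {a b : G}
    (ha : a ∈ Ez S) (hb : b ∈ Ez S) (ha1 : a ≠ 1) (hb1 : b ≠ 1) (hDa : D ⊓ centralizer ({a} : Set G) ≠ ⊥)
    (hDb : D' ⊓ centralizer ({b} : Set G) ≠ ⊥) : a = b := by
  by_contra hab
  obtain ⟨P, hP, hDP, hPS, hPp⟩ := exists_inv_sylow hX hD hDX hDp
  obtain ⟨P', hP', hDP', hPS', hPp'⟩ := exists_inv_sylow hX hD' hDX' hDp'
  obtain ⟨k, hk, rfl⟩ := inv_sylow_conj hX hP hP' hPS hPS'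
  refine hl ⟨_, hPS', hPp', a, ha, b, hb, ha1, hb1, hab, fun e => hDa ?_,
    fun e => hDb (le_bot_iff.1 (e ▸ inf_le_inf_right _ hDP'))⟩
  have h1 : cj (P ⊓ centralizer ({a} : Set G)) k = ⊥ := by rw [cj_inf, (c.fix_of_cent hk ha).2, e]
  refine le_bot_iff.1 ((inf_le_inf_right _ hDP).trans (le_of_eq ?_))
  exact (Subgroup.map_eq_bot_iff_of_injective _ (MulAut.conj k).injective).1 h1

end Ctx

end Cfsg.Agent.UFour
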