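import Cfsg.Agent.Lib.UFour.Stable

/-!
# A maximal member with linked primes

If a centre of some `O_p` is moved by the involutions, an element of the normaliser of `S` fixes the closure of the
signalisers of the piece it inverts, and then the member itself.
-/

set_option autoImplicit false
set_option linter.style.haveILetI false
set_option linter.unusedSectionVars false
set_option maxHeartbeats 1000000

namespace Cfsg.Agent.UFour

open Subgroup Cfsg.Agent Cfsg.Agent.Fusion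
open scoped commutatorElement Pointwise

universe u

variable {G : Type u} [Group G] [Finite G] {S : Sylow 2 G} (c : Ctx S)

namespace Ctx

include c

/-- The first level of the upper central series of a `p`-member moved by the involutions. -/
theorem exists_level {p : ℕ} [Fact p.Prime] {R : Subgroup G} (hR : Mem S R) (hp : IsPGroup p R)
    (h : ¬ R ≤ centralizer (Ez S : Set G)) :
    ∃ B D : Subgroup G, D ≤ R ∧ ¬ D ≤ centralizer (Ez S : Set G) ∧ B ≤ centralizer (Ez S : Set G) ∧ B ≤ R ∧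
      normalizer (R : Set G) ≤ normalizer (D : Set G) ∧ normalizer (R : Set G) ≤ normalizer (B : Set G) ∧
      ∀ d ∈ D, ∀ r ∈ R, ⁅d, r⁆ ∈ B := by
  classical
  haveI : Group.IsNilpotent R := hp.isNilpotent
  obtain ⟨n, hn⟩ := (inferInstance : Group.IsNilpotent R).nilpotent'
  let Z : ℕ → Subgroup G := fun i => (Subgroup.upperCentralSeries R i).map R.subtype
  have hex : ∃ i, ¬ Z i ≤ centralizer (Ez S : Set G) := ⟨n, by
    show ¬ (Subgroup.upperCentralSeries R n).map R.subtype ≤ _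
    rwa [hn, ← MonoidHom.range_eq_map, range_subtype]⟩
  obtain ⟨i, hi⟩ : ∃ i, Nat.find hex = i + 1 := by
    refine Nat.exists_eq_succ_of_ne_zero fun e => ?_
    have h0 := Nat.find_spec hex
    rw [e] at h0
    refine h0 ?_
    show (Subgroup.upperCentralSeries R 0).map R.subtype ≤ _
    rw [Subgroup.upperCentralSeries_zero, Subgroup.map_bot]
    exact bot_le
  refine ⟨Z i, Z (i + 1), map_subtype_le _, hi ▸ Nat.find_spec hex,
    not_not.1 (Nat.find_min hex (by omega)), map_subtype_le _,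
    normalizer_le_normalizer_char _, normalizer_le_normalizer_char _, ?_⟩
  rintro _ ⟨d, hd, rfl⟩ r hr
  exact ⟨⁅d, ⟨r, hr⟩⁆, Subgroup.mem_upperCentralSeries_succ_iff.1 hd ⟨r, hr⟩, rfl⟩

/-- An element fixing the closure of the signalisers of a piece of a centre fixes the member. -/
theorem false_of_fixed_closure {M : Subgroup G} (hM : Mx S M) {z : G} (hz : z ∈ Ez S) (hz1 : z ≠ 1) (hth : th z ≠ ⊥)
    (hzM : th z ≤ M) {p q : ℕ} [Fact p.Prime] [Fact q.Prime] (hpq : p ≠ q) (hpM : SSF.Ox p M ≠ ⊥)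
    (hqM : SSF.Ox q M ≠ ⊥) {z' : G} (hz' : z' ∈ Ez S) (hz'1 : z' ≠ 1) {A : Subgroup G} (hA : Iv S z' A)
    (hAp : ∀ a ∈ A, a ^ p = 1) (hAZ : A ≤ Zc p M) {g : G} (hg : g ∈ normalizer ((S : Subgroup G) : Set G))
    (hgz : g * z * g⁻¹ ≠ z) (hgU : cj (Uf p A) g = Uf p A) : False := by
  obtain ⟨hU, hUp, -, -⟩ := Uf_data c hz' hz'1 hA hAp
  set U := Uf p A
  obtain ⟨b, hb, hb1⟩ : ∃ b ∈ A, b ≠ 1 := by
    by_contra hh; push Not at hh
    exact hA.ne ((Subgroup.eq_bot_iff_forall _).2 hh)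
  obtain ⟨hod, -⟩ := (hA.real hb hb1).npc c hz' hz'1
  have hZb : ∀ r : ℕ, r.Prime → r ≠ p → SSF.Ox r M ≤ centralizer ({b} : Set G) := fun r hr hrp => by
    haveI := Fact.mk hr
    exact (Ox_le_cent (q := p) hrp).trans (centralizer_le (Set.singleton_subset_iff.2 (Zc_le_Ox p M (hAZ hb))))
  have hqU : ∀ r : ℕ, r.Prime → r ≠ p → SSF.Ox r M ≤ U := fun r hr hrp => by
    haveI := Fact.mk hr
    refine le_trans ?_ (sg_le_Uf hb hb1)
    have hZb' : Zc p M ≤ od (centralizer ({b} : Set G)) := fun x hx => hod x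
      (mem_centralizer_iff.1 hx.2 b (Zc_le_Ox p M (hAZ hb))).symm (orderOf_odd hM.mem.odd (Zc_le p M hx))
    refine SSF.bel (Lie.CoreFun.solvable_of_odd (od_odd _)) hZb' ((SSF.isPGroup_Ox p M).to_le (Zc_le_Ox p M))
      (fun x hx => hod x (mem_cent_singleton.1 (hZb r hr hrp hx)) (orderOf_odd hM.mem.odd (SSF.Ox_le r M hx)))
      (coprime_of_pGroup (Ne.symm hrp) (SSF.isPGroup_Ox r M))
      ((Ox_le_cent (q := p) hrp).trans (centralizer_le (SetLike.coe_subset_coe.2 (Zc_le_Ox p M)))) ?_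
    refine le_trans (le_trans (le_inf ?_ inf_le_right) (c.inf_cent_Zc_le hM
      (mem_od (norm_centralizer_of_norm hA.mem.norm)) hpM)) (SSF.self_le_normalizer_Ox r M)
    refine (le_inf inf_le_left (inf_le_right.trans (centralizer_le (SetLike.coe_subset_coe.2 hAZ)))).trans ?_
    have hCA : centralizer (A : Set G) ≤ centralizer ({b} : Set G) := centralizer_le (Set.singleton_subset_iff.2 hb)
    refine le_od inf_le_right ?_ (odd_of_le inf_le_left (od_odd _))
    exact fun x hx => mem_normalizer_of_cj_le (by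
      rw [cj_inf, cj_eq_self (od_norm _ (hCA hx)), cj_eq_self (le_normalizer hx)])
  have hU1 : U ≠ ⊥ := fun e => hqM (le_bot_iff.1 (e ▸ hqU q Fact.out hpq.symm))
  have hallN : ∀ r : ℕ, r.Prime → SSF.Ox r M ≤ normalizer (U : Set G) := fun r hr => by
    by_cases hrp : r = p
    · subst hrp
      refine le_trans ?_ ((centralizer_le_normalizer (A : Set G)).trans (Uf_norm r A))
      exact le_centralizer_iff.1 (hAZ.trans inf_le_right)
    · exact (hqU r hr hrp).trans le_normalizer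
  set W₀ := od (normalizer (U : Set G)) with hW₀
  have hW₀m : Mem S W₀ := c.mem_od_norm hU
  have hW₀g : cj W₀ g = W₀ := by rw [hW₀, od_cj, cj_normalizer, hgU]
  have hFW : ∀ r : ℕ, r.Prime → SSF.Ox r M ≤ W₀ := fun r hr => c.mem_le hU hU1 (mem_Ox hM.mem r) (hallN r hr)
  obtain ⟨W, hW₀W, hWmax⟩ := Finite.exists_le_maximal
    (p := fun W : Subgroup G => Mem S W ∧ cj W g = W) (a := W₀) ⟨hW₀m, hW₀g⟩
  obtain ⟨hWm, hWg⟩ := hWmax.prop
  have hW1 : W ≠ ⊥ := fun e => hqM (le_bot_iff.1 (e ▸ (hFW q Fact.out).trans hW₀W))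
  have hWcl : Cl S W := ⟨hWm, hW1, fun T hT hT1 _ hn Y hY hYn => by
    have h1 : W ≤ od (normalizer (T : Set G)) := c.mem_le hT hT1 hWm (le_normalizer.trans hn)
    have h2 : cj (od (normalizer (T : Set G))) g = od (normalizer (T : Set G)) := by
      rw [od_cj, cj_normalizer, cj_eq_self (hn (mem_normalizer_iff_cj.2 hWg))]
    exact (c.mem_le hT hT1 hY hYn).trans (hWmax.2 ⟨c.mem_od_norm hT, h2⟩ h1)⟩
  have hMW : ∀ r : ℕ, r.Prime → SSF.Ox r M ≤ W := fun r hr => (hFW r hr).trans hW₀W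
  have hZW : ∀ r : ℕ, r.Prime → Zc r M ≤ W := fun r hr => (Zc_le_Ox r M).trans (hMW r hr)
  have hWM : ∀ r : ℕ, r.Prime → SSF.Ox r W ≤ M := fun r hr => by
    haveI := Fact.mk hr
    by_cases hr0 : SSF.Ox r M = ⊥
    swap
    · by_cases hrp : r = p
      · exact c.Ox_le_of_Zc hM hWm hZW (q := q) (hrp ▸ hpq) hr0 hqM
      · exact c.Ox_le_of_Zc hM hWm hZW (q := p) hrp hr0 hpM
    set L := SSF.Ox r W with hL
    have hLM : L ⊓ M = ⊥ := by
      refine le_bot_iff.1 (hr0 ▸ SSF.le_Ox_of_centralizes hM.mem.solvable inf_le_right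
        ((SSF.isPGroup_Ox r W).to_le inf_le_left) fun t ht => ?_)
      haveI := Fact.mk ht
      by_cases htr : t = r
      · subst htr
        rw [hr0]
        exact fun x _ => mem_centralizer_iff.2 fun y hy => by simp [Subgroup.mem_bot.1 hy]
      refine le_cent_of_disjoint (inf_le_right.trans (SSF.self_le_normalizer_Ox t M)) (fun x hx => ?_)
        (inf_eq_bot_of_pGroup_coprime ((SSF.isPGroup_Ox r W).to_le inf_le_left)
          (coprime_of_pGroup (Ne.symm htr) (SSF.isPGroup_Ox t M)))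
      refine mem_normalizer_of_cj_le ?_
      rw [cj_inf, cj_eq_self (SSF.self_le_normalizer_Ox r W (hMW t ht hx)),
        cj_eq_self (le_normalizer (SSF.Ox_le t M hx))]
    have hLz : L ⊓ centralizer ({z} : Set G) = ⊥ :=
      le_bot_iff.1 (hLM ▸ le_inf inf_le_left ((c.le_th hz hz1 (mem_Ox hWm r)).trans hzM))
    have hLg : cj L g = L := by rw [hL, cj_Ox, hWg]
    have hstep : ∀ {a : G}, L ⊓ centralizer ({a} : Set G) = ⊥ → L ⊓ centralizer ({g * a * g⁻¹} : Set G) = ⊥ :=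
      fun {a} h => by
        have h' := congrArg (fun X : Subgroup G => cj X g) h
        simp only [cj_inf, cj_cent, cj_bot, hLg] at h'
        exact h'
    by_contra hne
    have hL1 : L ≠ ⊥ := fun e => hne (e ▸ bot_le)
    obtain ⟨e, he, he1, hLe⟩ := c.exists_meet (mem_Ox hWm r) hL1
    rcases cycle c.u4 hg hz hz1 hgz he he1 with rfl | rfl | rfl
    · exact hLe hLz
    · exact hLe (hstep hLz)
    · exact hLe (hstep (hstep hLz))
  have hMeq : M = W := bender (c.mx_cl hM) hWcl hMW hWM hpq hpM hqM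
  exact c.stable_false hM.mem hz hz1 hth hzM hg hgz (hMeq ▸ hWg)

/-- A centre moved by the involutions at a linked prime. -/
theorem piece_false {M : Subgroup G} (hM : Mx S M) {z : G} (hz : z ∈ Ez S) (hz1 : z ≠ 1) (hth : th z ≠ ⊥)
    (hzM : th z ≤ M) {p q : ℕ} [Fact p.Prime] [Fact q.Prime] (hpq : p ≠ q) (hpM : SSF.Ox p M ≠ ⊥)
    (hqM : SSF.Ox q M ≠ ⊥) (hl : Lk p S) (hpiece : ¬ Zc p M ≤ centralizer (Ez S : Set G)) : False := by
  classical
  have hZm := mem_Zc hM.mem p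
  have hZc : ∀ {a b : G}, a ∈ Zc p M → b ∈ Zc p M → Commute a b := fun {a b} ha hb =>
    mem_centralizer_iff.1 hb.2 a ha.1
  obtain ⟨z', hz', hz'1, d₀, hd₀, hd₀R⟩ := c.exists_inverted hZm.odd (Ez_le_normalizer hZm) hpiece
  let A : Subgroup G :=
    { carrier := {a | a ∈ Zc p M ∧ a ^ p = 1 ∧ Commute z' a ∧ ∀ e ∈ Ez S, e ≠ 1 → e ≠ z' → e * a * e⁻¹ = a⁻¹}
      one_mem' := ⟨one_mem _, one_pow _, Commute.one_right _, fun e _ _ _ => by simp⟩
      mul_mem' := fun {a b} ha hb => ⟨mul_mem ha.1 hb.1, by rw [(hZc ha.1 hb.1).mul_pow, ha.2.1, hb.2.1, one_mul],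
        ha.2.2.1.mul_right hb.2.2.1, fun e he he1 hez => by
          rw [show e * (a * b) * e⁻¹ = e * a * e⁻¹ * (e * b * e⁻¹) by group, ha.2.2.2 e he he1 hez,
            hb.2.2.2 e he he1 hez, mul_inv_rev, (hZc ha.1 hb.1).inv_inv.eq]⟩
      inv_mem' := fun {a} ha => ⟨inv_mem ha.1, by rw [inv_pow, ha.2.1, inv_one], ha.2.2.1.inv_right,
        fun e he he1 hez => by rw [show e * a⁻¹ * e⁻¹ = (e * a * e⁻¹)⁻¹ by group, ha.2.2.2 e he he1 hez]⟩ }
  have hAZ : A ≤ Zc p M := fun a ha => ha.1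
  have hAp : ∀ a ∈ A, a ^ p = 1 := fun a ha => ha.2.1
  have hAm : Mem S A := ⟨odd_of_le hAZ hZm.odd, fun s hs => mem_normalizer_fintype fun a ha => by
    have hse : ∀ e ∈ Ez S, Commute s e := fun e he => commute_Ez hs he
    refine ⟨(mem_normalizer_iff.1 (hZm.norm hs) a).1 ha.1, by rw [conj_pow, ha.2.1, mul_one, mul_inv_cancel],
      ((hse z' hz').symm.mul_right ha.2.2.1).mul_right (hse z' hz').symm.inv_right, fun e he he1 hez => ?_⟩
    rw [show (s * a * s⁻¹)⁻¹ = s * a⁻¹ * s⁻¹ by group, ← ha.2.2.2 e he he1 hez,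
      show e * (s * a * s⁻¹) * e⁻¹ = e * s * a * (e * s)⁻¹ by group, ← (hse e he).eq]
    group⟩
  obtain ⟨k, hk, hkp⟩ := hd₀R.order_p (SSF.isPGroup_Ox p M) (Zc_le_Ox p M hd₀)
  have hAne : d₀ ^ k ∈ A := ⟨pow_mem hd₀ k, hkp, hk.comm, hk.inv⟩
  have hA : Iv S z' A := ⟨hAm, fun e => hk.ne (Subgroup.mem_bot.1 (e ▸ hAne)),
    fun a ha => mem_cent_singleton.2 ha.2.2.1.symm, fun a ha => ha.2.2.2⟩
  obtain ⟨P, hP, hOP, hPS, hPp⟩ := exists_inv_sylow hM.mem (mem_Ox hM.mem p) (SSF.Ox_le p M) (SSF.isPGroup_Ox p M)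
  obtain ⟨R, hR, hPR⟩ := exists_pmx hPS hPp
  have hAR : A ≤ R := hAZ.trans ((Zc_le_Ox p M).trans (hOP.trans hPR))
  have hR1 : R ≠ ⊥ := fun e => hA.ne (le_bot_iff.1 (e ▸ hAR))
  obtain ⟨n, hn, hnz⟩ := c.exists_mover hz' hz'1
  obtain ⟨g, hg, hgz', hgR⟩ := c.exists_stabilizer hl hR hR1 hz' hz'1 hn hnz
  have hgz : g * z * g⁻¹ ≠ z := c.moves_all hg hz' hz'1 hgz' hz hz1
  refine c.false_of_fixed_closure hM hz hz1 hth hzM hpq hpM hqM hz' hz'1 hA hAp hAZ hg hgz ?_
  -- the levels of `R`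
  have hREz : ¬ R ≤ centralizer (Ez S : Set G) := fun h => by
    obtain ⟨e, he, he1, hez⟩ := exists_other c.u4 hz'
    have h1 := hk.inv e he he1 hez
    rw [mem_centralizer_iff.1 (h (hAR hAne)) e he, mul_inv_cancel_right] at h1
    exact hk.ne (eq_one_of_inv_eq h1.symm hk.odd)
  obtain ⟨B, D, hDR, hDE, hBE, hBR, hDn, hBn, hDB⟩ := c.exists_level hR.mem hR.pgrp hREz
  have hB : ∀ {d e : G}, d ∈ D → e ∈ Ez S → Odd (orderOf d) → e * d * e⁻¹ = d⁻¹ → ∀ y ∈ B, Commute d y :=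
    fun {d e} hd he hdo hinv y hy => by
      have hy' : d * y * d⁻¹ ∈ B := (mem_normalizer_iff.1 (hBn (le_normalizer (hDR hd))) y).1 hy
      have h1 : e * (d * y * d⁻¹) * e⁻¹ = d * y * d⁻¹ :=
        conj_eq_of_commute (mem_centralizer_iff.1 (hBE hy') e he)
      rw [show e * (d * y * d⁻¹) * e⁻¹ = e * d * e⁻¹ * (e * y * e⁻¹) * (e * d * e⁻¹)⁻¹ by group, hinv,
        conj_eq_of_commute (mem_centralizer_iff.1 (hBE hy) e he : Commute e y), inv_inv] at h1
      refine commute_of_commute_sq hdo (commute_of_conj_eq ?_)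
      rw [show d * d * y * (d * d)⁻¹ = d * (d * y * d⁻¹) * d⁻¹ by group, ← h1]
      group
  have hcR : ∀ {d e a : G}, d ∈ D → e ∈ Ez S → Odd (orderOf d) → e * d * e⁻¹ = d⁻¹ → a ∈ R → Commute e a →
      Commute d a := fun {d e a} hd he hdo hinv ha hea => by
    have hk1 := hDB d hd a ha
    have h1 : e * ⁅d, a⁆ * e⁻¹ = ⁅d, a⁆ := conj_eq_of_commute (mem_centralizer_iff.1 (hBE hk1) e he)
    have h2 : e * ⁅d, a⁆ * e⁻¹ = d⁻¹ * ⁅d, a⁆⁻¹ * d := by
      rw [commutatorElement_def, show e * (d * a * d⁻¹ * a⁻¹) * e⁻¹ =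
        e * d * e⁻¹ * (e * a * e⁻¹) * (e * d * e⁻¹)⁻¹ * (e * a * e⁻¹)⁻¹ by group, hinv, conj_eq_of_commute hea]
      group
    have hc := (hB hd he hdo hinv _ hk1).inv_right
    rw [h1, mul_assoc, ← hc.eq, inv_mul_cancel_left] at h2
    exact commutatorElement_eq_one_iff_mul_comm.1 (eq_one_of_inv_eq h2.symm
      (orderOf_odd hR.mem.odd (hBR hk1)))
  set w := g * z' * g⁻¹ with hw
  have hwE : w ∈ Ez S := PiClosed.omegaZ_normalizer hg hz'
  have hw1 : w ≠ 1 := fun e => hz'1 (conj_eq_one_iff.1 e)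
  set v := z' * w with hv
  have hvE : v ∈ Ez S := mul_mem hz' hwE
  have hv1 : v ≠ 1 := fun e => hgz' ((eq_inv_of_mul_eq_one_right e).trans (Ez_inv hz'))
  have hvz : z' ≠ v := fun e => hw1 (mul_eq_left.1 e.symm)
  have hvw : w ≠ v := fun e => hz'1 (mul_eq_right.1 e.symm)
  have hgv : g * v * g⁻¹ ≠ v := c.moves_all hg hz' hz'1 hgz' hvE hv1
  have hgN : g ∈ normalizer (R : Set G) := mem_normalizer_iff_cj.2 hgR
  -- an element of order `p` inverted by both
  obtain ⟨d, hdD, hd, hdp⟩ : ∃ d ∈ D, Real S v d ∧ d ^ p = 1 := by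
    obtain ⟨e, he, he1, d₁, hd₁, hd₁R⟩ := c.exists_inverted (odd_of_le hDR hR.mem.odd)
      ((Ez_le_normalizer hR.mem).trans hDn) hDE
    have hback : ∀ {a x : G}, x ∈ D → Real S (g * a * g⁻¹) x → g⁻¹ * x * g ∈ D ∧ Real S a (g⁻¹ * x * g) :=
      fun {a x} hx hxR => by
        refine ⟨?_, ?_⟩
        · have := (mem_normalizer_iff.1 (inv_mem (hDn hgN)) x).1 hx
          rwa [inv_inv] at this
        · have := hxR.conj (inv_mem hg)
          rwa [inv_inv, show g⁻¹ * (g * a * g⁻¹) * g = a by group] at this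
    obtain ⟨d₂, hd₂, hd₂R⟩ : ∃ d₂ ∈ D, Real S v d₂ := by
      rcases cycle c.u4 hg hvE hv1 hgv he he1 with rfl | rfl | rfl
      · exact ⟨d₁, hd₁, hd₁R⟩
      · exact ⟨_, hback hd₁ hd₁R⟩
      · obtain ⟨h1, h2⟩ := hback hd₁ hd₁R
        exact ⟨_, hback h1 h2⟩
    obtain ⟨k', hk', hk'p⟩ := hd₂R.order_p hR.pgrp (hDR hd₂)
    exact ⟨_, pow_mem hd₂ k', hk', hk'p⟩
  obtain ⟨d', hd'D, hd', hd'p, hd'd⟩ : ∃ d' ∈ D, Real S v d' ∧ d' ^ p = 1 ∧ d' ∉ zpowers d := by
    by_contra hno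
    push Not at hno
    have hiv : Iv S v (zpowers d) := by
      refine ⟨⟨odd_of_le (zpowers_le.2 hdD) (odd_of_le hDR hR.mem.odd), fun s hs => ?_⟩,
        fun e => hd.ne (zpowers_eq_bot.1 e), zpowers_le.2 (mem_cent_singleton.2 hd.comm.symm), ?_⟩
      · refine mem_normalizer_of_cj_le ?_
        show (zpowers d).map (MulAut.conj s).toMonoidHom ≤ _
        rw [MonoidHom.map_zpowers, zpowers_le]
        have hr := hd.conj (le_normalizer hs)
        rw [conj_eq_of_commute (commute_Ez hs hvE)] at hr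
        exact hno _ ((mem_normalizer_iff.1 (hDn (hR.mem.norm hs)) d).1 hdD) hr
          (by show (s * d * s⁻¹) ^ p = 1; rw [conj_pow, hdp, mul_one, mul_inv_cancel])
      · rintro _ ⟨i, rfl⟩ e he he1 hev
        show e * d ^ i * e⁻¹ = (d ^ i)⁻¹
        rw [← conj_zpow, hd.inv e he he1 hev, inv_zpow]
    obtain ⟨k', hk', hc'⟩ := card_iv c hvE hv1 hiv (isPGroup_zpowers_of_pow hdp)
    rw [Nat.card_zpowers, orderOf_eq_prime hdp hd.ne] at hc'
    have hlt : p ^ 1 < p ^ (2 * k') := Nat.pow_lt_pow_right (Fact.out : p.Prime).one_lt (by omega)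
    rw [pow_one, ← hc'] at hlt
    exact lt_irrefl _ hlt
  -- elements inverted by both normalise both closures
  set A' := cj A g with hA'
  have hA'I : Iv S w A' := hA.conj hg
  have hA'p : ∀ a ∈ A', a ^ p = 1 := by
    rintro _ ⟨a, ha, rfl⟩
    show (g * a * g⁻¹) ^ p = 1
    rw [conj_pow, hAp a ha, mul_one, mul_inv_cancel]
  have hA'R : A' ≤ R := (cj_mono hAR g).trans hgR.le
  have hfA : ∀ {f : G}, f ∈ D → Real S v f → (∀ a ∈ A, Commute f a) ∧ ∀ a ∈ A', Commute f a :=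
    fun {f} hf hfR =>
      ⟨fun a ha => hcR hf hz' hfR.odd (hfR.inv z' hz' hz'1 hvz) (hAR ha) ha.2.2.1,
        fun a ha => hcR hf hwE hfR.odd (hfR.inv w hwE hw1 hvw) (hA'R ha)
          (mem_cent_singleton.1 (hA'I.cent ha)).symm⟩
  set U := Uf p A with hU
  set U' := Uf p A' with hU'
  have hUU' : cj U g = U' := Uf_cj p A g
  obtain ⟨hUm, hUp, -, -⟩ := Uf_data c hz' hz'1 hA hAp
  have hpiece' : ∀ {f : G}, f ∈ D → Real S v f → U ⊓ centralizer ({f} : Set G) ≤ U' := fun {f} hf hfR => by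
    have hfp : IsPGroup p (zpowers f) := hR.pgrp.to_le (zpowers_le.2 (hDR hf))
    have hodf := (hfR.npc c hvE hv1).1
    exact (Uf_at c hz' hz'1 hA hAp (hfA hf hfR).1 hfp hodf).2.trans
      (Uf_at c hwE hw1 hA'I hA'p (hfA hf hfR).2 hfp hodf).1
  have hnU : ∀ {f : G}, f ∈ D → Real S v f →
      f ∈ normalizer (U : Set G) ∧ f ∈ normalizer (U' : Set G) := fun {f} hf hfR =>
    ⟨Uf_norm p A (centralizer_le_normalizer _ (mem_centralizer_iff.2 fun a ha => ((hfA hf hfR).1 a ha).symm)),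
      Uf_norm p A' (centralizer_le_normalizer _ (mem_centralizer_iff.2 fun a ha => ((hfA hf hfR).2 a ha).symm))⟩
  obtain ⟨hdU, -⟩ := hnU hdD hd
  obtain ⟨hd'U, hd'U'⟩ := hnU hd'D hd'
  have hdinv := hd.inv z' hz' hz'1 hvz
  have hd'inv := hd'.inv z' hz' hz'1 hvz
  set k := ⁅d', d⁆ with hk_def
  have hkB : k ∈ B := hDB d' hd'D d (hDR hdD)
  have hkd : Commute k d := (hB hdD hz' hd.odd hdinv k hkB).symm
  have hkd' : Commute k d' := (hB hd'D hz' hd'.odd hd'inv k hkB).symm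
  have hswap := pow_swap (show d' * d = k * (d * d') by rw [hk_def, commutatorElement_def]; group) hkd hkd'
  have hkp : k ^ p = 1 := by
    have h1 := hswap p 1
    rw [pow_one, mul_one, hdp, mul_one, one_mul] at h1
    exact mul_eq_right.1 h1.symm
  have hko : Odd (orderOf k) := orderOf_odd hR.mem.odd (hBR hkB)
  have hz'k : z' * k * z'⁻¹ = k := conj_eq_of_commute (mem_centralizer_iff.1 (hBE hkB) z' hz')
  have hdk : d ∉ zpowers k := fun ⟨i, hi⟩ => hd.ne (eq_one_of_inv_eq (by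
    rw [← hdinv, ← hi, ← conj_zpow, hz'k]) hd.odd)
  -- the fixed subgroup of `k`
  have step1 : U ⊓ centralizer ({k} : Set G) ≤ U' := by
    refine gen_pair (p := p) (hUp.coprime_dvd_left (card_dvd_of_le inf_le_left)) hdp hd'p hkp hkd hkd' ?_
      inf_le_right ?_ ?_ hdk ?_ fun i j hij => ?_
    · rw [← commutatorElement_inv]; exact inv_mem (mem_zpowers k)
    · exact mem_normalizer_of_cj_le (by rw [cj_inf, cj_eq_self hdU, cj_cent, conj_eq_of_commute hkd.symm])
    · exact mem_normalizer_of_cj_le (by rw [cj_inf, cj_eq_self hd'U, cj_cent, conj_eq_of_commute hkd'.symm])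
    · intro hmem
      have hn : zpowers k ≤ normalizer (zpowers d : Set G) := zpowers_le.2 (mem_normalizer_fintype fun y hy => by
        obtain ⟨i, rfl⟩ := hy
        show k * d ^ i * k⁻¹ ∈ zpowers d
        rw [conj_eq_of_commute (hkd.zpow_right i)]
        exact ⟨i, rfl⟩)
      obtain ⟨r, hr, s, hs, hrs⟩ := exists_sup_mul hn hmem
      obtain ⟨i, rfl⟩ := hr
      obtain ⟨j, rfl⟩ := hs
      simp only at hrs
      have hc : Commute (k ^ j) (d ^ i) := (hkd.zpow_left j).zpow_right i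
      have h1 : (d ^ i)⁻¹ * k ^ j = (d ^ i * k ^ j)⁻¹ := by
        rw [← hrs, ← hd'inv, hrs, show z' * (d ^ i * k ^ j) * z'⁻¹ = z' * d ^ i * z'⁻¹ * (z' * k ^ j * z'⁻¹) by group,
          ← conj_zpow, ← conj_zpow, hdinv, hz'k, inv_zpow]
      rw [mul_inv_rev, (hc.inv_inv).eq] at h1
      have h2 : k ^ j = 1 := eq_one_of_inv_eq (mul_left_cancel h1).symm
        (orderOf_odd hR.mem.odd (zpow_mem (hBR hkB) j))
      rw [h2, mul_one] at hrs
      exact hd'd ⟨i, hrs.symm⟩
    · set x := d ^ i * d' ^ j with hx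
      set y := x * (z' * x⁻¹ * z'⁻¹) with hy
      have hxinv : ∀ e ∈ Ez S, e ≠ 1 → e ≠ v → e * x⁻¹ * e⁻¹ = d' ^ j * d ^ i := fun e he he1 hev => by
        rw [hx, mul_inv_rev, show e * ((d' ^ j)⁻¹ * (d ^ i)⁻¹) * e⁻¹ = (e * d' ^ j * e⁻¹)⁻¹ * (e * d ^ i * e⁻¹)⁻¹ by
          group, ← conj_pow, ← conj_pow, hd'.inv e he he1 hev, hd.inv e he he1 hev]
        simp
      have hyD : y ∈ D := by
        rw [hy, hxinv z' hz' hz'1 hvz]
        exact mul_mem (mul_mem (pow_mem hdD i) (pow_mem hd'D j)) (mul_mem (pow_mem hd'D j) (pow_mem hdD i))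
      have hyk : y = k ^ (i * j) * (x * x) := by
        have hc : Commute (k ^ (i * j)) x := ((hkd.pow_right i).mul_right (hkd'.pow_right j)).pow_left (i * j)
        rw [hy, hxinv z' hz' hz'1 hvz, hswap i j, ← hx, ← mul_assoc, ← hc.eq, mul_assoc]
      have hxR : x ∈ R := mul_mem (pow_mem (hDR hdD) i) (pow_mem (hDR hd'D) j)
      have hy1 : y ≠ 1 := fun e => hij (by
        obtain ⟨l, hl⟩ := exists_pow_eq_self_of_coprime (orderOf_odd hR.mem.odd hxR).coprime_two_left
        rw [← hl, pow_two]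
        refine pow_mem ?_ l
        rw [eq_inv_of_mul_eq_one_right (hyk.symm.trans e)]
        exact inv_mem (pow_mem (mem_zpowers k) _))
      have hyR : Real S v y := by
        refine ⟨?_, hy1, orderOf_odd hR.mem.odd (hDR hyD), fun e he he1 hev => ?_⟩
        · rw [hy, hxinv z' hz' hz'1 hvz, hx]
          exact ((hd.comm.pow_right i).mul_right (hd'.comm.pow_right j)).mul_right
            ((hd'.comm.pow_right j).mul_right (hd.comm.pow_right i))
        · rw [hy, hxinv z' hz' hz'1 hvz, show e * (x * (d' ^ j * d ^ i)) * e⁻¹ =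
            (e * x⁻¹ * e⁻¹)⁻¹ * (e * (d' ^ j * d ^ i) * e⁻¹) by group, hxinv e he he1 hev, mul_inv_rev,
            show e * (d' ^ j * d ^ i) * e⁻¹ = e * d' ^ j * e⁻¹ * (e * d ^ i * e⁻¹) by group,
            ← conj_pow, ← conj_pow, hd'.inv e he he1 hev, hd.inv e he he1 hev, hx, inv_pow, inv_pow]
          group
      refine le_trans (fun u hu => mem_inf.2 ⟨hu.1.1, mem_cent_singleton.2 ?_⟩) (hpiece' hyD hyR)
      rw [hyk]
      exact ((mem_cent_singleton.1 hu.1.2).pow_right _).mul_right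
        ((mem_cent_singleton.1 hu.2).mul_right (mem_cent_singleton.1 hu.2))
  -- the whole closure
  have hle : U ≤ U' := by
    by_cases hk1 : k = 1
    · refine le_trans (le_inf le_rfl fun u _ => mem_cent_singleton.2 ?_) step1
      rw [hk1]; exact Commute.one_right u
    have hkN : k ∈ normalizer (U : Set G) := by
      rw [hk_def, commutatorElement_def]
      exact mul_mem (mul_mem (mul_mem hd'U hdU) (inv_mem hd'U)) (inv_mem hdU)
    refine gen_pair (p := p) (k := 1) hUp hkp hdp (one_pow p) (Commute.one_left _) (Commute.one_left _) ?_ ?_ hkN hdU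
      (fun h => hk1 (by simpa using h)) ?_ fun i j hij => ?_
    · rw [commutatorElement_eq_one_iff_mul_comm.2 hkd.eq]; exact one_mem _
    · exact fun u _ => mem_cent_singleton.2 (Commute.one_right u)
    · rw [zpowers_one_eq_bot, sup_bot_eq]; exact hdk
    · intro u hu
      obtain ⟨hu, huc⟩ := mem_inf.1 hu
      have huc' := mem_cent_singleton.1 huc
      by_cases hj : d ^ j = 1
      · refine step1 (mem_inf.2 ⟨hu, mem_cent_singleton.2 ?_⟩)
        rw [hj, mul_one] at huc' hij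
        have hip : i.Coprime (orderOf k) := by
          rw [orderOf_eq_prime hkp hk1]
          refine ((Nat.Prime.coprime_iff_not_dvd (Fact.out : p.Prime)).2 fun h => hij ?_).symm
          obtain ⟨t, rfl⟩ := h
          rw [pow_mul, hkp, one_pow]; exact one_mem _
        obtain ⟨l, hl⟩ := exists_pow_eq_self_of_coprime hip
        rw [← hl]
        exact huc'.pow_right l
      · obtain ⟨t, ht⟩ : ∃ t, j * t ≡ 1 [MOD p] := by
          have hjp : ¬ p ∣ j := fun h => hj (by obtain ⟨t, rfl⟩ := h; rw [pow_mul, hdp, one_pow])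
          have hco : j.Coprime p := ((Nat.Prime.coprime_iff_not_dvd (Fact.out : p.Prime)).2 hjp).symm
          obtain ⟨t, -, ht⟩ := Nat.exists_mul_mod_eq_one_of_coprime hco (Fact.out : p.Prime).one_lt
          exact ⟨t, ht.trans (Nat.mod_eq_of_lt (Fact.out : p.Prime).one_lt).symm⟩
        have hq : Commute u (k ^ (i * t) * d) := by
          have h1 := huc'.pow_right t
          rw [((hkd.pow_left i).pow_right j).mul_pow, ← pow_mul, ← pow_mul] at h1
          rwa [show d ^ (j * t) = d by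
            conv_rhs => rw [← pow_one d]
            exact pow_eq_pow_iff_modEq.2 (by rwa [orderOf_eq_prime hdp hd.ne])] at h1
        set m := i * t
        have hc : d' ^ m * d * (d' ^ m)⁻¹ = k ^ m * d := by
          have h := hswap 1 m
          rw [pow_one, one_mul] at h
          rw [h]; group
        set u' := (d' ^ m)⁻¹ * u * d' ^ m with hu'
        have hu'U : u' ∈ U := by
          have := (mem_normalizer_iff.1 (inv_mem (pow_mem hd'U m)) u).1 hu
          rwa [inv_inv] at this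
        have hu'd : Commute u' d := by
          show u' * d = d * u'
          rw [hu', show (d' ^ m)⁻¹ * u * d' ^ m * d = (d' ^ m)⁻¹ * (u * (d' ^ m * d * (d' ^ m)⁻¹)) * d' ^ m by group,
            hc, hq.eq, ← hc]
          group
        have := (mem_normalizer_iff.1 (pow_mem hd'U' m) u').1 (hpiece' hdD hd (mem_inf.2 ⟨hu'U,
          mem_cent_singleton.2 hu'd⟩))
        rwa [show d' ^ m * u' * (d' ^ m)⁻¹ = u by rw [hu']; group] at this
  rw [hUU']
  exact (Subgroup.eq_of_le_of_card_ge hle (by rw [← hUU', card_cj])).symm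

/-- The linked case. -/
theorem case_linked {M : Subgroup G} (hM : Mx S M) {z : G} (hz : z ∈ Ez S) (hz1 : z ≠ 1) (hth : th z ≠ ⊥)
    (hzM : th z ≤ M) (hall : ∀ p : ℕ, p.Prime → SSF.Ox p M ≠ ⊥ → Lk p S) : False := by
  obtain ⟨p, hp, hpM⟩ := SSF.exists_Ox_ne_bot hM.mem.solvable hM.ne
  haveI := Fact.mk hp
  by_cases hone : ∀ q : ℕ, q.Prime → q ≠ p → SSF.Ox q M = ⊥
  · exact c.one_prime_false hM hz hz1 hth hzM (hall p hp hpM) hpM hone
  push Not at hone
  obtain ⟨q, hq, hqp, hqM⟩ := hone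
  haveI := Fact.mk hq
  by_cases hcen : ∀ r : ℕ, r.Prime → Zc r M ≤ centralizer (Ez S : Set G)
  · exact c.central_false hM hz hz1 hth hzM hqp.symm hpM hqM hcen
  push Not at hcen
  obtain ⟨r, hr, hrZ⟩ := hcen
  haveI := Fact.mk hr
  have hrM : SSF.Ox r M ≠ ⊥ := fun e => hrZ ((Zc_le_Ox r M).trans (e ▸ bot_le))
  by_cases hrp : r = p
  · exact c.piece_false hM hz hz1 hth hzM (hrp ▸ hqp.symm) hrM hqM (hall r hr hrM) hrZ
  · exact c.piece_false hM hz hz1 hth hzM hrp hrM hpM (hall r hr hrM) hrZ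

end Ctx

end Cfsg.Agent.UFour
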