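import Cfsg.Agent.Lib.UFour.Sylows
import Cfsg.Agent.Lib.SSF.Cores
import Cfsg.Agent.Lib.Lie.CoreFunctor
import Cfsg.Agent.S0058

/-!
# Odd subgroups normalised by a Sylow 2-subgroup of the type of `U₃(4)`

`Ctx S`: a simple group without strongly embedded subgroup in whose proper subgroups over `S` the cores of the
centralisers of involutions lie in the odd core.
-/

set_option autoImplicit false
set_option linter.style.haveILetI false
set_option linter.unusedSectionVars false

namespace Cfsg.Agent.UFour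

open Subgroup Cfsg.Agent Cfsg.Agent.Fusion
open scoped commutatorElement Pointwise

universe u

variable {G : Type u} [Group G]

/-- The setting. -/
structure Ctx (S : Sylow 2 G) : Prop where
  simple : IsSimpleGroup G
  nonab : ¬ IsMulCommutative G
  u4 : U4 (S : Subgroup G)
  sub : ∀ N : Subgroup G, N ≠ ⊤ → (S : Subgroup G) ≤ N → ∀ z ∈ Ez S, z ≠ 1 → th z ⊓ N ≤ od N
  noSE : ∀ H : Subgroup G, ¬ Cfsg.IsStronglyEmbedded H

/-- An odd subgroup normalised by `S`. -/
structure Mem (S : Sylow 2 G) (X : Subgroup G) : Prop where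
  odd : Odd (Nat.card X)
  norm : (S : Subgroup G) ≤ normalizer (X : Set G)

/-- A member contains the members normalising one of its `O_q`. -/
structure Cl (S : Sylow 2 G) (M : Subgroup G) : Prop where
  mem : Mem S M
  ne : M ≠ ⊥
  closed : ∀ U : Subgroup G, Mem S U → U ≠ ⊥ → U ≤ M → normalizer (M : Set G) ≤ normalizer (U : Set G) →
    ∀ Y : Subgroup G, Mem S Y → Y ≤ normalizer (U : Set G) → Y ≤ M

/-- A maximal member. -/
structure Mx (S : Sylow 2 G) (M : Subgroup G) : Prop where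
  mem : Mem S M
  ne : M ≠ ⊥
  max : ∀ Y : Subgroup G, Mem S Y → M ≤ Y → Y ≤ M

variable [Finite G]

/-- What centralises every `O_q` of a solvable group on which it acts coprimely centralises the group. -/
theorem centralizes_of_fitting {X U : Subgroup G} (hX : Group.IsSolvable X) (hUX : U ≤ normalizer (X : Set G))
    (hco : (Nat.card U).Coprime (Nat.card X))
    (h : ∀ q : ℕ, q.Prime → U ≤ centralizer (SSF.Ox q X : Set G)) : U ≤ centralizer (X : Set G) := by
  set T := ⁅X, U⁆ with hT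
  have hTX : T ≤ X := (Solv.commutator_normal_in hUX).1
  have h3 : ∀ q : ℕ, q.Prime → ⁅T, SSF.Ox q X⁆ = ⊥ := fun q hq => by
    refine commutator_commutator_eq_bot_of_rotate ?_ ?_
    · rw [commutator_eq_bot_iff_le_centralizer.2 (h q hq), commutator_bot_left]
    · refine le_bot_iff.1 ((commutator_mono (commutator_le.2 fun o ho x hx => ?_) le_rfl).trans
        (le_of_eq ((commutator_comm _ _).trans (commutator_eq_bot_iff_le_centralizer.2 (h q hq)))))
      have hn := (mem_normalizer_iff.1 (SSF.self_le_normalizer_Ox q X hx) o⁻¹).1 (inv_mem ho)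
      rw [commutatorElement_def, show o * x * o⁻¹ * x⁻¹ = o * (x * o⁻¹ * x⁻¹) by group]
      exact mul_mem ho hn
  have hTF : T ≤ (fittingSubgroup X).map X.subtype := SSF.le_fitting_of_centralizes hX hTX fun q hq =>
    commutator_eq_bot_iff_le_centralizer.1 (h3 q hq)
  have hFU : (fittingSubgroup X).map X.subtype ≤ centralizer (U : Set G) := by
    rw [SSF.map_fitting_eq]
    exact iSup_le fun q => le_centralizer_iff.1 (h q q.2)
  have hbot : T = ⊥ := by
    rw [hT, ← Solv.commutator_commutator_eq hUX hco (Or.inr hX)]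
    exact commutator_eq_bot_iff_le_centralizer.2 (hTF.trans hFU)
  exact le_centralizer_iff.1 (commutator_eq_bot_iff_le_centralizer.1 hbot)

variable {S : Sylow 2 G}

theorem Mem.solvable {X : Subgroup G} (hX : Mem S X) : Group.IsSolvable X := Lie.CoreFun.solvable_of_odd hX.odd

theorem Mem.coprime_two {X : Subgroup G} (hX : Mem S X) {P : Subgroup G} (hP : IsPGroup 2 P) :
    (Nat.card P).Coprime (Nat.card X) := by
  haveI : Fact (Nat.Prime 2) := ⟨Nat.prime_two⟩
  obtain ⟨j, hj⟩ := IsPGroup.iff_card.1 hP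
  rw [hj]
  exact (Nat.coprime_two_left.2 hX.odd).pow_left _

theorem Mem.inf_normalized {X Y : Subgroup G} (hX : Mem S X) (hY : (S : Subgroup G) ≤ normalizer (Y : Set G)) :
    Mem S (X ⊓ Y) :=
  ⟨odd_of_le inf_le_left hX.odd, fun s hs => mem_normalizer_of_cj_le (by
    rw [cj_inf, cj_eq_self (hX.norm hs), cj_eq_self (hY hs)])⟩

theorem norm_centralizer_of_norm {T : Subgroup G} (h : (S : Subgroup G) ≤ normalizer (T : Set G)) :
    (S : Subgroup G) ≤ normalizer (centralizer (T : Set G) : Set G) := fun s hs =>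
  mem_normalizer_iff_cj.2 (by rw [cj_centralizer, cj_eq_self (h hs)])

theorem sylow_le_normalizer_cent {e : G} (he : e ∈ Ez S) :
    (S : Subgroup G) ≤ normalizer (centralizer ({e} : Set G) : Set G) := (le_cent he).trans le_normalizer

theorem Mem.inf_cent {X : Subgroup G} (hX : Mem S X) {e : G} (he : e ∈ Ez S) :
    Mem S (X ⊓ centralizer ({e} : Set G)) := hX.inf_normalized (sylow_le_normalizer_cent he)

theorem Mem.sup {X Y : Subgroup G} (hX : Mem S X) (hY : Mem S Y) (hn : Y ≤ normalizer (X : Set G)) :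
    Mem S (X ⊔ Y) :=
  ⟨odd_sup hn hX.odd hY.odd, fun s hs => mem_normalizer_of_cj_le (by
    rw [cj_sup, cj_eq_self (hX.norm hs), cj_eq_self (hY.norm hs)])⟩

theorem Mem.cj {X : Subgroup G} (hX : Mem S X) {n : G} (hn : n ∈ normalizer ((S : Subgroup G) : Set G)) :
    Mem S (Fusion.cj X n) :=
  ⟨by rw [card_cj]; exact hX.odd, fun s hs => by
    rw [← cj_normalizer]
    refine mem_cj.2 (hX.norm ?_)
    have := (mem_normalizer_iff.1 (inv_mem hn) s).1 hs
    rwa [inv_inv] at this⟩

theorem mem_Ox {X : Subgroup G} (hX : Mem S X) (q : ℕ) : Mem S (SSF.Ox q X) :=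
  ⟨odd_of_le (SSF.Ox_le q X) hX.odd, hX.norm.trans (SSF.normalizer_le_normalizer_Ox q X)⟩

theorem mem_Opc {X : Subgroup G} (hX : Mem S X) (q : ℕ) : Mem S (SSF.Opc q X) :=
  ⟨odd_of_le (SSF.Opc_le q X) hX.odd, hX.norm.trans (SSF.normalizer_le_normalizer_Opc q X)⟩

theorem mem_od {N : Subgroup G} (hN : (S : Subgroup G) ≤ normalizer (N : Set G)) : Mem S (od N) :=
  ⟨od_odd N, fun s hs => mem_normalizer_iff_cj.2 (by rw [od_cj, cj_eq_self (hN hs)])⟩

theorem mem_th {z : G} (hz : z ∈ Ez S) : Mem S (th z) := mem_od (sylow_le_normalizer_cent hz)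

theorem sylow_solvable : Group.IsSolvable (S : Subgroup G) := by
  haveI : Fact (Nat.Prime 2) := ⟨Nat.prime_two⟩
  haveI := S.isPGroup'.isNilpotent
  infer_instance

theorem Ez_le_normalizer {X : Subgroup G} (hX : Mem S X) : Ez S ≤ normalizer (X : Set G) :=
  (PiClosed.omegaZ_le _).trans hX.norm

namespace Ctx

variable (c : Ctx S)
include c

theorem cl_of_mx {M : Subgroup G} (hM : Mx S M) (hne : ∀ U : Subgroup G, Mem S U → U ≠ ⊥ →
    ∀ Y : Subgroup G, Mem S Y → Y ≤ normalizer (U : Set G) → Y ≤ od (normalizer (U : Set G))) : Cl S M := by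
  refine ⟨hM.mem, hM.ne, fun U hU hU1 _ hn Y hY hYn => ?_⟩
  have hle : M ≤ od (normalizer (U : Set G)) := hne U hU hU1 M hM.mem (le_normalizer.trans hn)
  exact (hne U hU hU1 Y hY hYn).trans
    (hM.max _ (mem_od (hU.norm.trans le_normalizer)) hle)

theorem le_th {z : G} (hz : z ∈ Ez S) (hz1 : z ≠ 1) {X : Subgroup G} (hX : Mem S X) :
    X ⊓ centralizer ({z} : Set G) ≤ th z :=
  member_le c.u4 hz hz1 (hX.inf_cent hz).odd inf_le_right (hX.inf_cent hz).norm

theorem not_cyclic : ¬ IsCyclic (Ez S) := fun h => by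
  obtain ⟨g, hg⟩ := h.exists_generator
  have h2 : orderOf g ≤ 2 := Nat.le_of_dvd two_pos (orderOf_dvd_of_pow_eq_one (Subtype.ext (by
    show (g : G) ^ 2 = 1
    rw [pow_two]; exact g.2.2.1)))
  have := orderOf_eq_card_of_forall_mem_zpowers hg
  rw [card_Ez c.u4] at this
  omega

/-- An odd subgroup normalised by the involutions is generated by their fixed subgroups. -/
theorem gen {Y : Subgroup G} (hY : Odd (Nat.card Y)) (hE : Ez S ≤ normalizer (Y : Set G)) {T : Subgroup G}
    (h : ∀ e ∈ Ez S, e ≠ 1 → Y ⊓ centralizer ({e} : Set G) ≤ T) : Y ≤ T := by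
  haveI : IsMulCommutative (Ez S) := ⟨⟨fun a b => Subtype.ext (Ez_comm a.2 b.2).eq⟩⟩
  rw [← S0058.result (Ez S) Y c.not_cyclic hE (by
    rw [card_Ez c.u4, show (4 : ℕ) = 2 ^ 2 from rfl]; exact (Nat.coprime_two_left.2 hY).pow_left _)]
  exact iSup₂_le fun e he => h e he.1 he.2

theorem normalizer_ne_top {U : Subgroup G} (hU : Mem S U) (hU1 : U ≠ ⊥) : normalizer (U : Set G) ≠ ⊤ := fun e => by
  haveI := c.simple
  haveI := normalizer_eq_top_iff.1 e
  rcases IsSimpleGroup.eq_bot_or_eq_top_of_normal U inferInstance with h | h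
  · exact hU1 h
  · have ho := hU.odd
    rw [h, Subgroup.card_top] at ho
    exact c.nonab ⟨⟨fun a b => IsSimpleGroup.comm_iff_isSolvable.2 (Lie.CoreFun.solvable_of_odd ho) a b⟩⟩

/-- An odd subgroup of a proper local subgroup over `S`, normalised by the involutions, lies in its core, if its
fixed subgroups lie in the cores of the centralisers. -/
theorem ei_le_of_fixed {U : Subgroup G} (hU : Mem S U) (hU1 : U ≠ ⊥) {Y : Subgroup G} (hY : Odd (Nat.card Y))
    (hYn : Y ≤ normalizer (U : Set G)) (hE : Ez S ≤ normalizer (Y : Set G))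
    (hfix : ∀ e ∈ Ez S, e ≠ 1 → Y ⊓ centralizer ({e} : Set G) ≤ th e) : Y ≤ od (normalizer (U : Set G)) :=
  c.gen hY hE fun e he he1 => (le_inf (hfix e he he1) (inf_le_left.trans hYn)).trans
    (c.sub _ (c.normalizer_ne_top hU hU1) hU.norm e he he1)

/-- A member normalising a member lies in the core of its normaliser. -/
theorem mem_le {U : Subgroup G} (hU : Mem S U) (hU1 : U ≠ ⊥) {Y : Subgroup G} (hY : Mem S Y)
    (hYn : Y ≤ normalizer (U : Set G)) : Y ≤ od (normalizer (U : Set G)) :=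
  c.ei_le_of_fixed hU hU1 hY.odd hYn (Ez_le_normalizer hY) fun _ he he1 => c.le_th he he1 hY

theorem mem_od_norm {U : Subgroup G} (hU : Mem S U) : Mem S (od (normalizer (U : Set G))) :=
  mem_od (hU.norm.trans le_normalizer)

theorem exists_mx {X : Subgroup G} (hX : Mem S X) (hX1 : X ≠ ⊥) : ∃ M, Mx S M ∧ X ≤ M := by
  obtain ⟨M, hXM, hM⟩ := Finite.exists_le_maximal (p := fun M : Subgroup G => Mem S M) (a := X) hX
  exact ⟨M, ⟨hM.prop, fun e => hX1 (le_bot_iff.1 (e ▸ hXM)), fun Y hY h => hM.2 hY h⟩, hXM⟩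

theorem mx_cl {M : Subgroup G} (hM : Mx S M) : Cl S M :=
  c.cl_of_mx hM fun _ hU hU1 _ hY hYn => c.mem_le hU hU1 hY hYn

theorem mx_eq_od {M : Subgroup G} (hM : Mx S M) {U : Subgroup G} (hU : Mem S U) (hU1 : U ≠ ⊥)
    (hn : M ≤ normalizer (U : Set G)) : M = od (normalizer (U : Set G)) :=
  le_antisymm (c.mem_le hU hU1 hM.mem hn) (hM.max _ (c.mem_od_norm hU) (c.mem_le hU hU1 hM.mem hn))

/-- A subgroup moved cyclically lies, with the cores of all three centralisers, in no member. -/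
theorem stable_false {M : Subgroup G} (hM : Mem S M) {z g : G} (hz : z ∈ Ez S) (hz1 : z ≠ 1) (hth : th z ≠ ⊥)
    (hzM : th z ≤ M) (hgS : g ∈ normalizer ((S : Subgroup G) : Set G)) (hgz : g * z * g⁻¹ ≠ z)
    (hgM : cj M g = M) : False := by
  haveI := c.simple
  have hall : ∀ e ∈ Ez S, e ≠ 1 → th e ≤ M := by
    have h1 : th (g * z * g⁻¹) ≤ M := by rw [← th_cj, ← hgM]; exact cj_mono hzM g
    intro e he he1
    rcases cycle c.u4 hgS hz hz1 hgz he he1 with rfl | rfl | rfl
    · exact hzM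
    · exact h1
    · rw [← th_cj, ← hgM]; exact cj_mono h1 g
  set Θ : Subgroup G := ⨆ e : {e : G // e ∈ Ez S ∧ e ≠ 1}, th e.1 with hΘ
  have hle : ∀ {e : G}, e ∈ Ez S → e ≠ 1 → th e ≤ Θ := fun {e} he he1 =>
    le_iSup (fun e : {e : G // e ∈ Ez S ∧ e ≠ 1} => th e.1) ⟨e, he, he1⟩
  have hodd : Odd (Nat.card Θ) := odd_of_le (iSup_le fun e => hall e e.2.1 e.2.2) hM.odd
  have hne : Θ ≠ ⊥ := fun e => hth (le_bot_iff.1 ((hle hz hz1).trans e.le))
  have hNS : normalizer ((S : Subgroup G) : Set G) ≤ normalizer (Θ : Set G) := fun n hn => by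
    refine mem_normalizer_of_cj_le ((Subgroup.map_iSup _ _).le.trans (iSup_le fun e => ?_))
    exact (th_cj e.1 n).le.trans (hle (PiClosed.omegaZ_normalizer hn e.2.1) fun h => e.2.2 (conj_eq_one_iff.1 h))
  have hC : ∀ e ∈ Ez S, e ≠ 1 → centralizer ({e} : Set G) ≤ normalizer (Θ : Set G) := fun e he he1 x hx => by
    obtain ⟨t, ht, n, hn, rfl⟩ := cent_decomp c.u4 he he1 hx
    exact mul_mem (le_normalizer (hle he he1 ht)) (hNS hn.2)
  have hM' : Mem S Θ := ⟨hodd, le_normalizer.trans hNS⟩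
  refine c.noSE _ (se_of_cent S (even_sylow c.u4) (fun v hv hv2 s hs => commute_Ez hs (mem_Ez_of_sq c.u4 hv hv2))
    (c.normalizer_ne_top hM' hne) hNS fun v hv hv2 => ?_)
  exact hC v (mem_Ez_of_sq c.u4 hv (by rw [← pow_two, ← hv2]; exact pow_orderOf_eq_one v))
    (fun e => by rw [e, orderOf_one] at hv2; exact absurd hv2 (by norm_num))

/-- An element of odd order centralising `S` fixes the centralisers. -/
theorem fix_of_cent {x : G} (hx : x ∈ centralizer ((S : Subgroup G) : Set G)) {e : G} (he : e ∈ Ez S) :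
    x * e * x⁻¹ = e ∧ cj (centralizer ({e} : Set G)) x = centralizer ({e} : Set G) := by
  have h1 : x * e * x⁻¹ = e := by rw [← mem_centralizer_iff.1 hx e he.1, mul_inv_cancel_right]
  exact ⟨h1, by rw [cj_cent, h1]⟩

theorem cent_le_normalizer : centralizer ((S : Subgroup G) : Set G) ≤ normalizer ((S : Subgroup G) : Set G) :=
  fun x hx => mem_normalizer_fintype fun y hy => by
    rw [← mem_centralizer_iff.1 hx y hy, mul_inv_cancel_right]; exact hy

end Ctx

end Cfsg.Agent.UFour
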