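import Cfsg.Agent.Lib.UFour.Sylows
import Cfsg.Agent.Lib.Solv.Basic
import Cfsg.Agent.Lib.SSF.Cores

/-!
# Groups with trivial odd core and a Sylow 2-subgroup of the type of `U₃(4)`

The Sylow 2-subgroup is normal, or it lies in a normal simple subgroup.
-/

set_option autoImplicit false
set_option linter.style.haveILetI false
set_option linter.unusedSectionVars false

namespace Cfsg.Agent.UFour

open Subgroup Cfsg.Agent Cfsg.Agent.Fusion
open scoped commutatorElement

universe u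

variable {G : Type u} [Group G] [Finite G] {S : Sylow 2 G} (h : U4 (S : Subgroup G))

theorem od_normal {L : Subgroup G} [L.Normal] : (od L).Normal :=
  normal_iff_cj.2 fun g => by rw [od_cj, cj_of_normal]

theorem od_eq_bot_of_normal (hO : Cfsg.oddCore G = ⊥) (L : Subgroup G) [L.Normal] : od L = ⊥ := by
  haveI := od_normal (L := L)
  exact le_bot_iff.1 (hO ▸ Fusion.le_pPrimeCore (Nat.coprime_two_right.2 (od_odd L)))

include h in
/-- A subgroup of `S` with one involution is cyclic. -/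
theorem isCyclic_of_one_invol {R : Subgroup G} (hRS : R ≤ (S : Subgroup G)) {z₀ : G} (hz₀ : z₀ ∈ R)
    (hz₀1 : z₀ ≠ 1) (hz₀2 : z₀ * z₀ = 1) (hinv : ∀ r ∈ R, r * r = 1 → r = 1 ∨ r = z₀) : IsCyclic R := by
  by_cases hall : ∀ r ∈ R, r * r = 1
  · refine ⟨⟨⟨z₀, hz₀⟩, fun r => ?_⟩⟩
    rcases hinv r r.2 (hall r r.2) with e | e
    · exact ⟨0, Subtype.ext (by simp [e])⟩
    · exact ⟨1, Subtype.ext (by simp [e])⟩
  push Not at hall
  obtain ⟨a, ha, ha2⟩ := hall
  have hsq : ∀ {r}, r ∈ R → r * r * (r * r) = 1 := fun {r} hr => (sq_mem_Ez h (hRS hr)).2.1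
  have haz : a * a = z₀ := (hinv _ (mul_mem ha ha) (hsq ha)).resolve_left ha2
  refine ⟨⟨⟨a, ha⟩, fun r => ?_⟩⟩
  obtain ⟨r, hr⟩ := r
  suffices hs : r ∈ zpowers a by obtain ⟨i, hi⟩ := hs; exact ⟨i, Subtype.ext hi⟩
  have hone : ∀ {x}, x ∈ R → x * x = 1 → x ∈ zpowers a := fun {x} hx hx2 => by
    rcases hinv x hx hx2 with rfl | rfl
    · exact one_mem _
    · exact haz ▸ mul_mem (mem_zpowers a) (mem_zpowers a)
  by_cases hr2 : r * r = 1
  · exact hone hr hr2
  have hrz : r * r = z₀ := (hinv _ (mul_mem hr hr) (hsq hr)).resolve_left hr2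
  have hk : ⁅a, r⁆ ∈ R := by
    rw [commutatorElement_def]; exact mul_mem (mul_mem (mul_mem ha hr) (inv_mem ha)) (inv_mem hr)
  have hc : Commute a r := by
    rcases hinv _ hk (comm_mem_Ez h (hRS ha) (hRS hr)).2.1 with e | e
    · exact commutatorElement_eq_one_iff_mul_comm.1 e
    · exfalso
      refine h.no_q8 ⟨a, hRS ha⟩ ⟨r, hRS hr⟩ (fun e' => hz₀1 (haz ▸ congrArg Subtype.val e'))
        (Subtype.ext (haz.trans hrz.symm)) (Subtype.ext ?_)
      show ⁅a, r⁆ = a * a
      rw [e, haz]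
  rw [show r = a⁻¹ * (a * r) by group]
  refine mul_mem (inv_mem (mem_zpowers a)) (hone (mul_mem ha hr) ?_)
  rw [show a * r * (a * r) = a * (r * a) * r by group, ← hc.eq, ← mul_assoc, mul_assoc _ r r, haz, hrz, hz₀2]

include h in
/-- With a non-trivial `O_2`. -/
theorem normal_of_two_core (hO : Cfsg.oddCore G = ⊥) (hQ : Cfsg.pCore 2 G ≠ ⊥) : (S : Subgroup G).Normal := by
  haveI : Fact (Nat.Prime 2) := ⟨Nat.prime_two⟩
  haveI hQn : (Cfsg.pCore 2 G).Normal := inferInstance
  set Q := Cfsg.pCore 2 G with hQd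
  have hQS : Q ≤ (S : Subgroup G) := (isPGroup_pCore 2 G).le_sylow_of_normal S
  have hcases : (∃ z₀ ∈ Ez S, z₀ ≠ 1 ∧ z₀ ∈ center G) ∨ (Ez S).Normal := by
    by_cases hEQ : Ez S ≤ Q
    · refine Or.inr ⟨fun e he g => ?_⟩
      refine mem_Ez_of_sq h (hQS (hQn.conj_mem e (hEQ he) g)) ?_
      rw [show g * e * g⁻¹ * (g * e * g⁻¹) = g * (e * e) * g⁻¹ by group, he.2.1, mul_one, mul_inv_cancel]
    · left
      have hQE : Q ≤ Ez S := fun x hx => by
        by_contra hxE
        refine hEQ fun w hw => ?_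
        obtain ⟨y, hy, rfl⟩ := comm_surj' h (hQS hx) hxE hw
        rw [show ⁅x, y⁆ = x * (y * x⁻¹ * y⁻¹) by rw [commutatorElement_def]; group]
        exact mul_mem hx (hQn.conj_mem _ (inv_mem hx) y)
      obtain ⟨z₀, hz₀, hz₀1⟩ : ∃ x ∈ Q, x ≠ 1 := by
        by_contra hh; push Not at hh
        exact hQ ((Subgroup.eq_bot_iff_forall _).2 hh)
      refine ⟨z₀, hQE hz₀, hz₀1, mem_center_iff.2 fun g => ?_⟩
      have hg := hQn.conj_mem z₀ hz₀ g
      obtain ⟨e, he, he1, hez⟩ := exists_other h (hQE hz₀)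
      rcases mem_Ez_cases h (hQE hz₀) he hz₀1 he1 hez.symm (hQE hg) with h1 | h1 | h1 | h1
      · exact absurd (conj_eq_one_iff.1 h1) hz₀1
      · exact mul_inv_eq_iff_eq_mul.1 h1
      · exfalso; refine hEQ fun w hw => ?_
        rcases mem_Ez_cases h (hQE hz₀) he hz₀1 he1 hez.symm hw with rfl | rfl | rfl | rfl
        exacts [one_mem _, hz₀, h1 ▸ hg, mul_mem hz₀ (h1 ▸ hg)]
      · exfalso; refine hEQ fun w hw => ?_
        have he' : e ∈ Q := by
          have := mul_mem (inv_mem hz₀) (h1 ▸ hg : z₀ * e ∈ Q)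
          rwa [inv_mul_cancel_left] at this
        rcases mem_Ez_cases h (hQE hz₀) he hz₀1 he1 hez.symm hw with rfl | rfl | rfl | rfl
        exacts [one_mem _, hz₀, he', mul_mem hz₀ he']
  rcases hcases with ⟨z₀, hz₀, hz₀1, hc⟩ | hEn
  · have htop : centralizer ({z₀} : Set G) = ⊤ :=
      eq_top_iff.2 fun g _ => mem_centralizer_singleton_iff.2 (mem_center_iff.1 hc g)
    have hth : th z₀ = ⊥ := by
      haveI : (centralizer ({z₀} : Set G)).Normal := by rw [htop]; infer_instance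
      exact od_eq_bot_of_normal hO _
    refine normalizer_eq_top_iff.1 (eq_top_iff.2 fun g _ => ?_)
    obtain ⟨t, ht, n, hn, rfl⟩ := cent_decomp h hz₀ hz₀1 (htop ▸ mem_top g)
    rw [hth, mem_bot] at ht
    rw [ht, one_mul]
    exact hn.2
  · haveI : (centralizer (Ez S : Set G)).Normal := normal_iff_cj.2 fun g => by rw [cj_centralizer, cj_of_normal]
    have hK : centralizer (Ez S : Set G) ≤ normalizer ((S : Subgroup G) : Set G) := fun g hg => by
      obtain ⟨t, ht, n, hn, rfl⟩ := centEz_decomp h hg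
      rw [od_eq_bot_of_normal hO, mem_bot] at ht
      rw [ht, one_mul]
      exact hn.2
    refine normalizer_eq_top_iff.1 (eq_top_iff.2 fun g _ => mem_normalizer_of_cj_le fun x hx => ?_)
    obtain ⟨s, hs, rfl⟩ := hx
    obtain ⟨j, hj⟩ := S.isPGroup' ⟨s, hs⟩
    refine mem_sylow_of_normalizes (hK ?_) (a := j) ?_
    · exact (inferInstance : (centralizer (Ez S : Set G)).Normal).conj_mem s (sylow_le_centEz hs) g
    · show (g * s * g⁻¹) ^ 2 ^ j = 1
      rw [conj_pow, show s ^ 2 ^ j = 1 from congrArg Subtype.val hj, mul_one, mul_inv_cancel]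

include h in
/-- A normal subgroup of a normal subgroup contains the involutions. -/
theorem Ez_le_subnormal (hO : Cfsg.oddCore G = ⊥) (hQ : Cfsg.pCore 2 G = ⊥) {N K : Subgroup G} [N.Normal]
    (hKN : K ≤ N) (hn : N ≤ normalizer (K : Set G)) (hK : K ≠ ⊥) : Ez S ≤ K := by
  haveI : Fact (Nat.Prime 2) := ⟨Nat.prime_two⟩
  by_contra hE
  have hN : SylIn 2 ((S : Subgroup G) ⊓ N) N :=
    (sylIn_top S).inf_normal le_top (by rw [normalizer_eq_top])
  have hR : SylIn 2 ((S : Subgroup G) ⊓ N ⊓ K) K := hN.inf_normal hKN hn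
  rw [inf_assoc, inf_eq_right.2 hKN] at hR
  set R := (S : Subgroup G) ⊓ K with hRd
  have hodK : od K = ⊥ := by
    refine le_bot_iff.1 ((le_od ((od_le K).trans hKN) (fun g hg => mem_normalizer_of_cj_le ?_) (od_odd K)).trans
      (od_eq_bot_of_normal hO N).le)
    rw [od_cj, cj_eq_self (hn hg)]
  have hev : 2 ∣ Nat.card K := by
    by_contra hodd
    refine hK (le_bot_iff.1 (hodK ▸ le_od le_rfl le_normalizer ?_))
    exact Nat.not_even_iff_odd.1 fun he => hodd (even_iff_two_dvd.1 he)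
  obtain ⟨z₀, hz₀, hz₀1, hz₀2⟩ : ∃ z₀ ∈ R, z₀ ≠ 1 ∧ z₀ * z₀ = 1 := by
    obtain ⟨x, hx⟩ := exists_prime_orderOf_dvd_card' 2 hev
    have hp : IsPGroup 2 (zpowers (x : G)) := IsPGroup.of_card (n := 1) (by
      rw [Nat.card_zpowers, Subgroup.orderOf_coe, hx, pow_one])
    obtain ⟨k, -, hk⟩ := hR.conj_le hp (zpowers_le.2 x.2)
    refine ⟨k * x * k⁻¹, hk (conj_mem_cj (mem_zpowers _)), fun e => ?_, ?_⟩
    · rw [conj_eq_one_iff] at e
      rw [← Subgroup.orderOf_coe, e, orderOf_one] at hx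
      omega
    · rw [show k * (x : G) * k⁻¹ * (k * x * k⁻¹) = k * ((x : G) * x) * k⁻¹ by group, ← pow_two, ← hx,
        ← Subgroup.orderOf_coe, pow_orderOf_eq_one, mul_one, mul_inv_cancel]
  have hz₀E := mem_Ez_of_sq h hz₀.1 hz₀2
  have hinv : ∀ r ∈ R, r * r = 1 → r = 1 ∨ r = z₀ := fun r hr hr2 => by
    have hrE := mem_Ez_of_sq h hr.1 hr2
    by_contra hne
    push Not at hne
    refine hE fun w hw => ?_
    rcases mem_Ez_cases h hz₀E hrE hz₀1 hne.1 (Ne.symm hne.2) hw with rfl | rfl | rfl | rfl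
    exacts [one_mem _, hz₀.2, hr.2, mul_mem hz₀.2 hr.2]
  have hcyc : IsCyclic R := isCyclic_of_one_invol h inf_le_left hz₀ hz₀1 hz₀2 hinv
  obtain ⟨P, hP⟩ := hR.exists_sylow_subgroupOf
  haveI : IsCyclic (P : Subgroup K) := by
    rw [hP]
    exact isCyclic_of_surjective (subgroupOfEquivOfLe inf_le_right).symm.toMonoidHom
      (subgroupOfEquivOfLe inf_le_right).symm.surjective
  have hmin : Nat.minFac (Nat.card K) = 2 := (Nat.minFac_eq_two_iff _).2 hev
  have hcomp := MonoidHom.ker_transferSylow_isComplement' P (IsCyclic.normalizer_le_centralizer hmin ‹_›)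
  set W := (MonoidHom.transferSylow P (IsCyclic.normalizer_le_centralizer hmin ‹_›)).ker
  have hW : W = ⊥ := by
    refine le_bot_iff.1 ?_
    refine (Fusion.le_pPrimeCore (Fusion.coprime_card_of_isComplement' hcomp)).trans (le_of_eq ?_)
    exact (Subgroup.map_eq_bot_iff_of_injective _ K.subtype_injective).1 hodK
  rw [hW, isComplement'_bot_left] at hcomp
  have hK2 : IsPGroup 2 K := by
    have hp := P.isPGroup'
    rw [hcomp] at hp
    exact hp.of_equiv Subgroup.topEquiv
  have h1 : K ≤ SSF.Ox 2 N := SSF.le_Ox hKN hn hK2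
  have h2 : SSF.Ox 2 N ≤ Cfsg.pCore 2 G := by
    haveI : (SSF.Ox 2 N).Normal := normal_iff_cj.2 fun g => cj_eq_self
      (SSF.normalizer_le_normalizer_Ox 2 N (by rw [normalizer_eq_top]; trivial))
    exact Fusion.le_pCore (SSF.isPGroup_Ox 2 N)
  exact hK (le_bot_iff.1 (hQ ▸ h1.trans h2))

include h in
/-- The Sylow subgroup is normal or lies in a normal simple subgroup. -/
theorem structure_of_core_bot (hO : Cfsg.oddCore G = ⊥) :
    (S : Subgroup G).Normal ∨
      ∃ T : Subgroup G, T.Normal ∧ IsSimpleGroup T ∧ ¬ IsMulCommutative T ∧ (S : Subgroup G) ≤ T := by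
  classical
  haveI : Fact (Nat.Prime 2) := ⟨Nat.prime_two⟩
  by_cases hQ : Cfsg.pCore 2 G = ⊥
  swap
  · exact Or.inl (normal_of_two_core h hO hQ)
  haveI : Nontrivial G := by
    obtain ⟨x, hx⟩ : ∃ x : (S : Subgroup G), x ≠ 1 := by
      haveI : Nontrivial (S : Subgroup G) := (Subgroup.nontrivial_iff_ne_bot _).2 fun e => by
        have := h.card
        rw [e, card_bot] at this
        norm_num at this
      exact exists_ne 1
    exact ⟨x, 1, fun e => hx (Subtype.ext e)⟩
  obtain ⟨N, hN, hN1, hNmin⟩ := Solv.exists_minimal_normal (G := G)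
  have hle := fun {K : Subgroup G} (hKN : K ≤ N) (hn : N ≤ normalizer (K : Set G)) (hK : K ≠ ⊥) =>
    Ez_le_subnormal h hO hQ hKN hn hK
  have hEN : Ez S ≤ N := hle le_rfl le_normalizer hN1
  have hE4 : Nat.card (Ez S) = 4 := card_Ez h
  haveI : Nontrivial N := (Subgroup.nontrivial_iff_ne_bot _).2 hN1
  haveI hsimp : IsSimpleGroup N := by
    refine ⟨fun X hX => ?_⟩
    by_cases hX1 : X = ⊥
    · exact Or.inl hX1
    right
    obtain ⟨X₁, hX₁n, hX₁1, hX₁X, hX₁min⟩ := Solv.exists_minimal_normal_le X hX1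
    set Y := X₁.map N.subtype with hY
    have hYN : Y ≤ N := map_subtype_le _
    have hYn : N ≤ normalizer (Y : Set G) := by
      have h' := Subgroup.le_normalizer_map (H := X₁) N.subtype
      rwa [normalizer_eq_top, ← MonoidHom.range_eq_map, range_subtype] at h'
    have hY1 : Y ≠ ⊥ := fun e => hX₁1 ((Subgroup.map_eq_bot_iff_of_injective _ N.subtype_injective).1 e)
    have hYnormal : Y.Normal := normal_iff_cj.2 fun g => by
      have hgN : cj N g = N := cj_of_normal N g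
      have h1 : cj Y g ≤ N := (cj_mono hYN g).trans hgN.le
      have h2 : N ≤ normalizer (cj Y g : Set G) := by
        rw [← cj_normalizer, ← hgN]; exact cj_mono hYn g
      have h3 : cj Y g ≠ ⊥ := fun e => hY1 ((Subgroup.map_eq_bot_iff_of_injective _ (MulAut.conj g).injective).1 e)
      have hne : Y ⊓ cj Y g ≠ ⊥ := fun e => by
        have := card_le_of_le (le_inf (hle hYN hYn hY1) (hle h1 h2 h3))
        rw [hE4, e, card_bot] at this
        omega
      haveI : ((Y ⊓ cj Y g).subgroupOf N).Normal := normal_subgroupOf_of_le_normalizer fun x hx =>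
        mem_normalizer_of_cj_le (by rw [cj_inf, cj_eq_self (hYn hx), cj_eq_self (h2 hx)])
      rcases hX₁min ((Y ⊓ cj Y g).subgroupOf N) inferInstance (fun x hx => by
          obtain ⟨y, hy, hyx⟩ := (mem_inf.1 (mem_subgroupOf.1 hx)).1
          rwa [← Subtype.ext hyx]) with e | e
      · exact absurd (by rw [← map_subgroupOf_eq_of_le (inf_le_left.trans hYN : Y ⊓ cj Y g ≤ N), e,
          Subgroup.map_bot]) hne
      · have e' := congrArg (fun Z : Subgroup N => Z.map N.subtype) e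
        simp only [map_subgroupOf_eq_of_le (inf_le_left.trans hYN : Y ⊓ cj Y g ≤ N)] at e'
        exact (Subgroup.eq_of_le_of_card_ge (e'.ge.trans inf_le_right) (by rw [card_cj])).symm
    rcases hNmin Y hYnormal hYN with e | e
    · exact absurd e hY1
    · refine top_le_iff.1 (fun x _ => hX₁X ?_)
      obtain ⟨y, hy, hyx⟩ := e.ge x.2
      rwa [← Subtype.ext hyx]
  have hna : ¬ IsMulCommutative N := fun hc => by
    letI : CommGroup N := { (inferInstance : Group N) with mul_comm := fun a b => hc.is_comm.comm a b }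
    haveI : IsSimpleGroup N := hsimp
    have hpr := IsSimpleGroup.prime_card (α := N)
    have h4 : 4 ∣ Nat.card N := hE4 ▸ card_dvd_of_le hEN
    exact absurd (((Nat.dvd_prime hpr).1 h4).resolve_left (by norm_num) ▸ hpr) (by norm_num)
  refine Or.inr ⟨N, hN, hsimp, hna, ?_⟩
  -- an element of odd order of `N` moving `z` fixes a coset
  obtain ⟨z, hz, hz1⟩ : ∃ z ∈ Ez S, z ≠ 1 := by
    by_contra hh; push Not at hh
    rw [(Subgroup.eq_bot_iff_forall _).2 hh, card_bot] at hE4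
    omega
  set z' : N := ⟨z, hEN hz⟩
  have hz'2 : orderOf z' = 2 := by
    rw [← Subgroup.orderOf_coe]; exact PiClosed.orderOf_involution hz.2.1 hz1
  have hni : ¬ Cfsg.IsIsolatedInvolution z' := fun hiso => by
    have hc : z' ∈ center N := mem_center_iff.2 fun g => by
      have := Char.zStar_isolated hiso g
      rw [CI.simple_core hna, mem_bot, mul_inv_eq_one, mul_inv_eq_iff_eq_mul] at this
      exact this.symm
    rw [CI.simple_center hna, mem_bot] at hc
    exact hz1 (congrArg Subtype.val hc)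
  simp only [Cfsg.IsIsolatedInvolution, hz'2, true_and, not_forall] at hni
  obtain ⟨g, hc, hne⟩ := hni
  set H := N ⊔ (S : Subgroup G) with hH
  set w := (g : G) * z * (g : G)⁻¹ with hw
  have hwc : Commute z w := by
    have := congrArg Subtype.val hc.eq
    exact this
  have hwo : orderOf w = 2 := by
    rw [hw, show (g : G) * z * (g : G)⁻¹ = MulAut.conj (g : G) z from rfl, MulEquiv.orderOf_eq,
      PiClosed.orderOf_involution hz.2.1 hz1]
  have hwH : w ∈ H := mem_sup_left (mul_mem (mul_mem g.2 (hEN hz)) (inv_mem g.2))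
  obtain ⟨k, hk, hkS⟩ := ((sylIn_top S).mono (le_inf le_sup_right (le_cent hz) :
    (S : Subgroup G) ≤ H ⊓ centralizer ({z} : Set G)) le_top).conj_le
    (IsPGroup.of_card (n := 1) (by rw [Nat.card_zpowers, hwo, pow_one]) : IsPGroup 2 (zpowers w))
    (zpowers_le.2 (mem_inf.2 ⟨hwH, mem_centralizer_singleton_iff.2 hwc.eq.symm⟩))
  have hSH : (S : Subgroup G) ≤ H := le_sup_right
  have hH4 : U4 ((S.subtype hSH : Sylow 2 H) : Subgroup H) := by
    rw [Sylow.coe_subtype]; exact h.of_equiv (subgroupOfEquivOfLe hSH).symm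
  have hkw : k * g * z * (k * g)⁻¹ = k * w * k⁻¹ := by rw [hw]; group
  have hzE : (⟨z, mem_sup_left (hEN hz)⟩ : H) ∈ Ez (S.subtype hSH) := mem_Ez_of_sq hH4 (by
    rw [Sylow.coe_subtype]; exact hz.1) (Subtype.ext hz.2.1)
  obtain ⟨n, hn, hnz⟩ := fusion hH4 hzE (g := (⟨k * g, mul_mem hk.1 (mem_sup_left g.2)⟩ : H)) (by
    rw [Sylow.coe_subtype, mem_subgroupOf]
    show k * g * z * (k * g)⁻¹ ∈ (S : Subgroup G)
    rw [hkw]; exact hkS (conj_mem_cj (mem_zpowers w)))
  have hnG : (n : G) ∈ normalizer ((S : Subgroup G) : Set G) := by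
    rw [Sylow.coe_subtype, ← subgroupOf_normalizer_eq hSH] at hn
    exact hn
  have hnz' : (n : G) * z * (n : G)⁻¹ ≠ z := fun e => hne (Subtype.ext (by
    show (g : G) * z * (g : G)⁻¹ = z
    have h1 : (n : G) * z * (n : G)⁻¹ = k * w * k⁻¹ := (congrArg Subtype.val hnz).trans hkw
    rw [e] at h1
    rw [← hw, show w = k⁻¹ * (k * w * k⁻¹) * k by group, ← h1, mul_assoc,
      ← mem_centralizer_singleton_iff.1 hk.2, inv_mul_cancel_left]))
  obtain ⟨a, m, hco, ho, hm⟩ := exists_split S hnG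
  set n' := (n : G) ^ 2 ^ a with hn'
  have hn'S : n' ∈ normalizer ((S : Subgroup G) : Set G) := pow_mem hnG _
  have hn'N : n' ∈ N := mem_of_odd_mem_sup S.isPGroup' (by rw [normalizer_eq_top]; exact le_top)
    (pow_mem n.2 _) ho
  have hn'z : n' * z * n'⁻¹ ≠ z := fun e => hnz' (by
    rw [mem_centralizer_singleton_iff.1 (mem_of_pow_coprime hco
      (mem_centralizer_singleton_iff.2 (mul_inv_eq_iff_eq_mul.1 e) : n' ∈ centralizer ({z} : Set G))
      (le_cent hz hm)), mul_inv_cancel_right])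
  intro s hs
  by_contra hsN
  set D := (S : Subgroup G) ⊓ N with hD
  have hDn : normalizer ((S : Subgroup G) : Set G) ≤ normalizer (D : Set G) := fun x hx =>
    mem_normalizer_of_cj_le (by rw [hD, cj_inf, cj_eq_self hx, cj_of_normal])
  obtain ⟨c, hc', hcD⟩ := Solv.exists_fixed_in_coset' (zpowers n') (S : Subgroup G) D (zpowers_le.2 hn'S) (by
    obtain ⟨j, hj⟩ := IsPGroup.iff_card.1 S.isPGroup'
    rw [hj, Nat.card_zpowers]
    exact ((Nat.coprime_two_left.2 ho).pow_left j).symm) (Or.inr (by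
      haveI := S.isPGroup'.isNilpotent; infer_instance)) inf_le_left (zpowers_le.2 (hDn hn'S)) hs fun b hb => by
    have hbN : b ∈ N := zpowers_le.2 hn'N hb
    have hbS : b * s * b⁻¹ ∈ (S : Subgroup G) :=
      (mem_normalizer_iff.1 (zpowers_le.2 hn'S hb) s).1 hs
    refine mem_inf.2 ⟨mul_mem (inv_mem hs) hbS, ?_⟩
    rw [show s⁻¹ * (b * s * b⁻¹) = (s⁻¹ * b * s⁻¹⁻¹) * b⁻¹ by group]
    exact mul_mem (hN.conj_mem b hbN _) (inv_mem hbN)
  obtain ⟨hcS, hcn⟩ := mem_inf.1 hc'
  have hcE : c ∉ Ez S := fun hcE => hsN (by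
    rw [show s = c * (s⁻¹ * c)⁻¹ by group]
    exact mul_mem (hEN hcE) (inv_mem hcD.2))
  have hc2 : c * c ≠ 1 := fun e => hcE (mem_Ez_of_sq h hcS e)
  have hfix : n' * (c * c) * n'⁻¹ = c * c := by
    have h1 : Commute n' c := mem_centralizer_iff.1 hcn n' (mem_zpowers n')
    rw [(h1.mul_right h1).eq, mul_inv_cancel_right]
  have hinj : ∀ {x y : G}, n' * x * n'⁻¹ = n' * y * n'⁻¹ → x = y := fun e => mul_left_cancel (mul_right_cancel e)
  rcases cycle h hn'S hz hz1 hn'z (sq_mem_Ez h hcS) hc2 with e | e | e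
  · exact hn'z (e ▸ hfix)
  · rw [e] at hfix; exact hn'z (hinj hfix)
  · rw [e] at hfix; exact hn'z (hinj (hinj hfix))

end Cfsg.Agent.UFour
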