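import Cfsg.Agent.Lib.UFour.Core
import Cfsg.Agent.Lib.UFour.Structure

/-!
# The cores of the centralisers lie in the odd core

Induction on the order: the quotient by the odd core, the normal simple subgroup, and the simple case.
-/

set_option autoImplicit false
set_option linter.style.haveILetI false
set_option linter.unusedSectionVars false

namespace Cfsg.Agent.UFour

open Subgroup Cfsg.Agent Cfsg.Agent.Fusion
open scoped commutatorElement

universe u

variable {G : Type u} [Group G] [Finite G]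

/-- The statement for the groups of a given order. -/
def Below (n : ℕ) : Prop :=
  ∀ (H : Type u) [Group H] [Finite H], Nat.card H < n → ∀ S : Sylow 2 H, U4 (S : Subgroup H) →
    ∀ z ∈ Ez S, z ≠ 1 → th z ≤ Cfsg.oddCore H

variable {S : Sylow 2 G} (h : U4 (S : Subgroup G))

include h in
theorem quotient_step (ih : Below.{u} (Nat.card G)) (hO : Cfsg.oddCore G ≠ ⊥) {z : G} (hz : z ∈ Ez S)
    (hz1 : z ≠ 1) : th z ≤ Cfsg.oddCore G := by
  haveI : Fact (Nat.Prime 2) := ⟨Nat.prime_two⟩
  set O := Cfsg.oddCore G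
  have hOco : (Nat.card O).Coprime 2 := card_pPrimeCore_coprime 2 G
  set π := QuotientGroup.mk' O
  have hπ : Function.Surjective π := QuotientGroup.mk'_surjective O
  have hker : π.ker = O := QuotientGroup.ker_mk' O
  have hS' : U4 (S.mapSurjective hπ : Subgroup (G ⧸ O)) :=
    h.map π hπ (by rw [hker]; exact Char.card_oddCore_odd G)
  have hz' : π z ∈ Ez (S.mapSurjective hπ) := mem_Ez_of_sq hS'
    (by rw [Sylow.coe_mapSurjective]; exact mem_map_of_mem π hz.1) (by rw [← map_mul, hz.2.1, map_one])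
  have hz'1 : π z ≠ 1 := fun e => hz1 (Subgroup.mem_bot.1 (inf_odd_eq_bot S.isPGroup' (Char.card_oddCore_odd G) ▸
    mem_inf.2 ⟨hz.1, hker.le (MonoidHom.mem_ker.2 e)⟩))
  have hlt : Nat.card (G ⧸ O) < Nat.card G := by
    rw [Subgroup.card_eq_card_quotient_mul_card_subgroup O]
    exact lt_mul_of_one_lt_right Nat.card_pos (O.one_lt_card_iff_ne_bot.2 hO)
  have hle : (th z).map π ≤ th (π z) := by
    refine le_od ?_ (fun y hy => ?_) ((th_odd z).of_dvd_nat (card_map_dvd _ _))
    · rintro _ ⟨x, hx, rfl⟩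
      rw [mem_centralizer_singleton_iff, ← map_mul, ← map_mul, mem_centralizer_singleton_iff.1 (th_le z hx)]
    have hzp : IsPGroup 2 (zpowers z) :=
      IsPGroup.of_card (n := 1) (by rw [Nat.card_zpowers, PiClosed.orderOf_involution hz.2.1 hz1, pow_one])
    obtain ⟨x, hx, rfl⟩ := exists_lift_normalizer hOco hzp (y := y) (centralizer_le_normalizer _ (by
      rw [MonoidHom.map_zpowers]
      refine mem_centralizer_iff.2 fun w hw => ?_
      obtain ⟨i, rfl⟩ := hw
      exact (Commute.zpow_right (mem_centralizer_singleton_iff.1 hy : Commute y (π z)) i).eq.symm))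
    have hxz : x * z * x⁻¹ = z := by
      obtain ⟨i, hi⟩ := (mem_normalizer_iff.1 hx z).1 (mem_zpowers z)
      simp only at hi
      rcases Int.even_or_odd' i with ⟨j, rfl | rfl⟩
      · exfalso
        rw [zpow_mul, zpow_two, hz.2.1, one_zpow] at hi
        exact hz1 (conj_eq_one_iff.1 hi.symm)
      · rw [← hi, zpow_add, zpow_mul, zpow_two, hz.2.1, one_zpow, one_mul, zpow_one]
    exact le_normalizer_map π (mem_map_of_mem π (th_norm z (mem_centralizer_singleton_iff.2
      (mul_inv_eq_iff_eq_mul.1 hxz))))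
  intro x hx
  have h1 := ih (G ⧸ O) hlt (S.mapSurjective hπ) hS' _ hz' hz'1 (hle (mem_map_of_mem π hx))
  rw [show Cfsg.oddCore (G ⧸ O) = ⊥ from pPrimeCore_quotient_eq_bot (p := 2), mem_bot] at h1
  exact hker.le (MonoidHom.mem_ker.2 h1)

include h in
theorem th_bot_of_normal (hO : Cfsg.oddCore G = ⊥) [(S : Subgroup G).Normal] {z : G} (hz : z ∈ Ez S) :
    th z = ⊥ := by
  haveI : (centralizer ((S : Subgroup G) : Set G)).Normal :=
    normal_iff_cj.2 fun g => by rw [cj_centralizer, cj_of_normal]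
  refine le_bot_iff.1 ((le_od ?_ ?_ (th_odd z)).trans (od_eq_bot_of_normal hO (centralizer ((S : Subgroup G) : Set G))).le)
  · refine le_cent_of_disjoint (fun x _ => (normalizer_eq_top_iff.2 ‹(S : Subgroup G).Normal›).ge (mem_top x))
      ((le_cent hz).trans (th_norm z)) ?_
    rw [inf_comm]; exact inf_th_eq_bot z
  · exact (centralizer_le (Set.singleton_subset_iff.2 hz.1)).trans (th_norm z)

include h in
theorem th_bot_of_sub (ih : Below.{u} (Nat.card G)) (hO : Cfsg.oddCore G = ⊥) {T : Subgroup G} [T.Normal]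
    [IsSimpleGroup T] (hna : ¬ IsMulCommutative T) (hST : (S : Subgroup G) ≤ T) (hT : T ≠ ⊤) {z : G}
    (hz : z ∈ Ez S) : th z = ⊥ := by
  haveI : Fact (Nat.Prime 2) := ⟨Nat.prime_two⟩
  set S' := S.subtype hST
  have hS'eq : (S' : Subgroup T) = (S : Subgroup G).subgroupOf T := Sylow.coe_subtype S _
  have hS4 : U4 (S' : Subgroup T) := by rw [hS'eq]; exact h.of_equiv (subgroupOfEquivOfLe hST).symm
  have hlt : Nat.card T < Nat.card G := by
    by_contra hle
    exact hT (Subgroup.eq_top_of_card_eq T (le_antisymm (Subgroup.card_le_card_group T) (Nat.le_of_not_lt hle)))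
  have hthT : ∀ w ∈ Ez S', w ≠ 1 → th w = ⊥ := fun w hw hw1 =>
    le_bot_iff.1 (CI.simple_core hna ▸ ih T hlt S' hS4 w hw hw1)
  have hCT : ∀ w ∈ Ez S', w ≠ 1 → centralizer ({w} : Set T) ≤ normalizer ((S' : Subgroup T) : Set T) :=
    fun w hw hw1 => cent_le_normalizer_of_th hS4 hw hw1 (hthT w hw hw1)
  by_cases hz1 : z = 1
  · subst hz1
    haveI : (centralizer ({1} : Set G)).Normal := by
      rw [show centralizer ({1} : Set G) = ⊤ from eq_top_iff.2 fun g _ => mem_centralizer_singleton_iff.2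
        (by rw [one_mul, mul_one])]
      infer_instance
    exact od_eq_bot_of_normal hO _
  set zT : T := ⟨z, hST hz.1⟩
  have hzT : zT ∈ Ez S' := mem_Ez_of_sq hS4 (by rw [hS'eq]; exact hz.1) (Subtype.ext hz.2.1)
  have hzT1 : zT ≠ 1 := fun e => hz1 (congrArg Subtype.val e)
  -- `O(C(z)) ∩ T` is trivial
  have hinf : th z ⊓ T = ⊥ := by
    have hle : (th z).subgroupOf T ≤ th zT := by
      refine le_od (fun x hx => mem_centralizer_singleton_iff.2 (Subtype.ext ?_)) (fun x hx => ?_)
        ((th_odd z).of_dvd_nat (card_comap_dvd_of_injective _ _ (subtype_injective _)))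
      · exact mem_centralizer_singleton_iff.1 (th_le z hx)
      · refine mem_normalizer_fintype fun y hy => ?_
        exact (mem_normalizer_iff.1 (th_norm z (mem_centralizer_singleton_iff.2
          (congrArg Subtype.val (mem_centralizer_singleton_iff.1 hx) :))) (y : G)).1 hy
    rw [hthT zT hzT hzT1] at hle
    refine (Subgroup.eq_bot_iff_forall _).2 fun x hx => ?_
    have := hle (show (⟨x, hx.2⟩ : T) ∈ (th z).subgroupOf T from hx.1)
    exact congrArg Subtype.val (Subgroup.mem_bot.1 this)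
  -- the odd centraliser of `T` is trivial
  haveI : (centralizer (T : Set G)).Normal := normal_iff_cj.2 fun g => by rw [cj_centralizer, cj_of_normal]
  have hCTbot : centralizer (T : Set G) = ⊥ := by
    refine le_bot_iff.1 ((le_od le_rfl le_normalizer ?_).trans (od_eq_bot_of_normal hO _).le)
    by_contra hev
    rw [Nat.not_odd_iff_even, even_iff_two_dvd] at hev
    obtain ⟨x, hx⟩ := exists_prime_orderOf_dvd_card' 2 hev
    have hS2 : SylIn 2 ((S : Subgroup G) ⊓ centralizer (T : Set G)) (centralizer (T : Set G)) :=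
      (sylIn_top S).inf_normal le_top (by rw [normalizer_eq_top])
    obtain ⟨k, hk, hkS⟩ := hS2.conj_le (IsPGroup.of_card (n := 1) (by
      rw [Nat.card_zpowers, Subgroup.orderOf_coe, hx, pow_one]) : IsPGroup 2 (zpowers (x : G))) (zpowers_le.2 x.2)
    have hx' := hkS (conj_mem_cj (mem_zpowers (x : G)))
    have hc : (⟨_, hST hx'.1⟩ : T) ∈ center T := mem_center_iff.2 fun t => Subtype.ext
      (mem_centralizer_iff.1 hx'.2 t t.2)
    rw [CI.simple_center hna, mem_bot] at hc
    have h1 : k * (x : G) * k⁻¹ = 1 := congrArg Subtype.val hc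
    rw [conj_eq_one_iff] at h1
    rw [← Subgroup.orderOf_coe, h1, orderOf_one] at hx
    omega
  refine (Subgroup.eq_bot_iff_forall _).2 fun c hc => ?_
  have hcS : ∀ s ∈ (S : Subgroup G), c * s * c⁻¹ = s := fun s hs => by
    have h1 : c * s * c⁻¹ * s⁻¹ ∈ th z ⊓ T := by
      refine mem_inf.2 ⟨?_, mul_mem ((inferInstance : T.Normal).conj_mem s (hST hs) c) (inv_mem (hST hs))⟩
      rw [show c * s * c⁻¹ * s⁻¹ = c * (s * c⁻¹ * s⁻¹) by group]
      exact mul_mem hc ((mem_normalizer_iff.1 (th_norm z (le_cent hz hs)) _).1 (inv_mem hc))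
    rw [hinf, mem_bot, mul_inv_eq_one] at h1
    exact h1
  have hφ := fix_all hna hS4 hCT (MulAut.conjNormal c)
    ((orderOf_odd (th_odd z) hc).of_dvd_nat (orderOf_map_dvd MulAut.conjNormal c)) (fun s hs => by
      rw [hS'eq, mem_subgroupOf] at hs
      exact Subtype.ext (by rw [MulAut.conjNormal_apply]; exact hcS _ hs))
  have hcC : c ∈ centralizer (T : Set G) := mem_centralizer_iff.2 fun t ht => by
    have h1 := congrArg Subtype.val (congrArg (fun ψ : MulAut T => ψ ⟨t, ht⟩) hφ)
    simp only [MulAut.conjNormal_apply, MulAut.one_apply] at h1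
    exact (mul_inv_eq_iff_eq_mul.1 h1).symm
  rw [hCTbot, mem_bot] at hcC
  exact hcC

include h in
theorem th_bot_of_simple (ih : Below.{u} (Nat.card G)) [IsSimpleGroup G] (hna : ¬ IsMulCommutative G) {z : G}
    (hz : z ∈ Ez S) (hz1 : z ≠ 1) : th z = ⊥ := by
  haveI : Fact (Nat.Prime 2) := ⟨Nat.prime_two⟩
  by_cases hse : ∃ H : Subgroup G, Cfsg.IsStronglyEmbedded H
  · obtain ⟨H, hH⟩ := hse
    exact th_eq_bot hna h (fun w hw hw1 => cent_le_normalizer_of_se hna h hH hw hw1) hz hz1
  push Not at hse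
  refine (Ctx.false (S := S) ⟨‹_›, hna, h, fun N hN hSN w hw hw1 => ?_, hse⟩).elim
  set S' := S.subtype hSN
  have hS'eq : (S' : Subgroup N) = (S : Subgroup G).subgroupOf N := Sylow.coe_subtype S _
  have hS4 : U4 (S' : Subgroup N) := by rw [hS'eq]; exact h.of_equiv (subgroupOfEquivOfLe hSN).symm
  have hlt : Nat.card N < Nat.card G := by
    by_contra hle
    exact hN (Subgroup.eq_top_of_card_eq N (le_antisymm (Subgroup.card_le_card_group N) (Nat.le_of_not_lt hle)))
  have hwN : (⟨w, hSN hw.1⟩ : N) ∈ Ez S' := mem_Ez_of_sq hS4 (by rw [hS'eq]; exact hw.1) (Subtype.ext hw.2.1)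
  have h1 := ih N hlt S' hS4 _ hwN fun e => hw1 (congrArg Subtype.val e)
  intro x hx
  refine ⟨⟨x, hx.2⟩, h1 ((le_od (R := (th w).subgroupOf N) ?_ ?_ ?_) hx.1), rfl⟩
  · exact fun y hy => mem_centralizer_singleton_iff.2 (Subtype.ext (mem_centralizer_singleton_iff.1 (th_le w hy) :))
  · intro y hy
    refine mem_normalizer_fintype fun t ht => ?_
    exact (mem_normalizer_iff.1 (th_norm w (mem_centralizer_singleton_iff.2
      (congrArg Subtype.val (mem_centralizer_singleton_iff.1 hy) :))) (t : G)).1 ht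
  · exact (th_odd w).of_dvd_nat (card_comap_dvd_of_injective _ _ (subtype_injective _))

theorem th_le_oddCore_aux (n : ℕ) : ∀ (G : Type u) [Group G] [Finite G], Nat.card G = n →
    ∀ S : Sylow 2 G, U4 (S : Subgroup G) → ∀ z ∈ Ez S, z ≠ 1 → th z ≤ Cfsg.oddCore G := by
  induction n using Nat.strong_induction_on with
  | _ n ih =>
    intro G _ _ hn S h z hz hz1
    have ih' : Below.{u} (Nat.card G) := fun H _ _ hlt => ih _ (hn ▸ hlt) H rfl
    by_cases hO : Cfsg.oddCore G = ⊥
    swap
    · exact quotient_step h ih' hO hz hz1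
    rw [hO, le_bot_iff]
    rcases structure_of_core_bot h hO with hSn | ⟨T, hT, hTs, hna, hST⟩
    · exact th_bot_of_normal h hO hz
    by_cases hT1 : T = ⊤
    · subst hT1
      haveI : IsSimpleGroup G := (MulEquiv.isSimpleGroup_congr Subgroup.topEquiv).1 hTs
      refine th_bot_of_simple h ih' (fun hc => hna ⟨⟨fun a b => Subtype.ext (hc.is_comm.comm a.1 b.1)⟩⟩) hz hz1
    · exact th_bot_of_sub h ih' hO hna hST hT1 hz

/-- The cores of the centralisers of the central involutions lie in the odd core. -/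
theorem th_le_oddCore (S : Sylow 2 G) (h : U4 (S : Subgroup G)) {z : G} (hz : z ∈ Ez S) (hz1 : z ≠ 1) :
    th z ≤ Cfsg.oddCore G :=
  th_le_oddCore_aux _ G rfl S h z hz hz1

include h in
/-- With trivial odd core the centralisers of the central involutions normalise `S`. -/
theorem cent_le_normalizer_of_core (hO : Cfsg.oddCore G = ⊥) {z : G} (hz : z ∈ Ez S) (hz1 : z ≠ 1) :
    centralizer ({z} : Set G) ≤ normalizer ((S : Subgroup G) : Set G) :=
  cent_le_normalizer_of_th h hz hz1 (le_bot_iff.1 (hO ▸ th_le_oddCore S h hz hz1))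

end Cfsg.Agent.UFour
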