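import Cfsg.Agent.Lib.UFour.Inverted
import Cfsg.Agent.Lib.SSF.Main

/-!
# Elements inverted by central involutions and their signalisers

For an element `b` centralised by `z` and inverted by the other central involutions the centraliser of `b` has a cyclic
Sylow 2-subgroup, so the cores `O_{p'}(O(C(b)))` form a solvable signalizer functor on an inverted elementary group.
-/

set_option autoImplicit false
set_option linter.style.haveILetI false
set_option linter.unusedSectionVars false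

namespace Cfsg.Agent.UFour

open Subgroup Cfsg.Agent Cfsg.Agent.Fusion
open scoped commutatorElement Pointwise

universe u

variable {G : Type u} [Group G]

theorem exists_sup_mul {R P : Subgroup G} (hn : P ≤ normalizer (R : Set G)) {g : G} (hg : g ∈ R ⊔ P) :
    ∃ r ∈ R, ∃ q ∈ P, g = r * q := by
  have h : g ∈ ((R ⊔ P : Subgroup G) : Set G) := hg
  rw [Subgroup.coe_mul_of_right_le_normalizer_left R P hn] at h
  obtain ⟨r, hr, q, hq, rfl⟩ := h
  exact ⟨r, hr, q, hq, rfl⟩

theorem mem_cent_singleton {x y : G} : x ∈ centralizer ({y} : Set G) ↔ Commute x y :=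
  mem_centralizer_singleton_iff

theorem commute_of_conj_eq {e x : G} (h : e * x * e⁻¹ = x) : Commute e x := mul_inv_eq_iff_eq_mul.1 h

theorem conj_eq_of_commute {e x : G} (h : Commute e x) : e * x * e⁻¹ = x := by rw [h.eq, mul_inv_cancel_right]

/-- An element centralised by `z` and inverted by the other central involutions. -/
structure Real (S : Sylow 2 G) (z b : G) : Prop where
  comm : Commute z b
  ne : b ≠ 1
  odd : Odd (orderOf b)
  inv : ∀ e ∈ Ez S, e ≠ 1 → e ≠ z → e * b * e⁻¹ = b⁻¹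

theorem Iv.real {S : Sylow 2 G} {z b : G} {A : Subgroup G} [Finite G] (hA : Iv S z A) (hb : b ∈ A) (hb1 : b ≠ 1) :
    Real S z b :=
  ⟨((mem_cent_singleton.1 (hA.cent hb)).symm), hb1, orderOf_odd hA.mem.odd hb, hA.inv b hb⟩

variable [Finite G]

theorem cj_Opc (p : ℕ) (X : Subgroup G) (g : G) : cj (SSF.Opc p X) g = SSF.Opc p (cj X g) := by
  have key : ∀ (M : Subgroup G) (k : G), cj (SSF.Opc p M) k ≤ SSF.Opc p (cj M k) := fun M k => by
    refine SSF.le_Opc (cj_mono (SSF.Opc_le p M) k) ?_ (by rw [card_cj]; exact SSF.Opc_coprime p M)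
    rw [← cj_normalizer]
    exact cj_mono (SSF.self_le_normalizer_Opc p M) k
  refine le_antisymm (key X g) ?_
  have h := cj_mono (key (cj X g) g⁻¹) g
  rwa [cj_inv_cj, cj_cj_inv] at h

variable {S : Sylow 2 G} {z : G} {b : G}

theorem Real.conj (hb : Real S z b) {n : G} (hn : n ∈ normalizer ((S : Subgroup G) : Set G)) :
    Real S (n * z * n⁻¹) (n * b * n⁻¹) := by
  refine ⟨?_, fun e => hb.ne (conj_eq_one_iff.1 e), ?_, fun e he he1 hez => ?_⟩
  · show n * z * n⁻¹ * (n * b * n⁻¹) = n * b * n⁻¹ * (n * z * n⁻¹)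
    rw [show n * z * n⁻¹ * (n * b * n⁻¹) = n * (z * b) * n⁻¹ by group, hb.comm.eq]; group
  · show Odd (orderOf (MulAut.conj n b))
    rw [MulEquiv.orderOf_eq]
    exact hb.odd
  · have he' : n⁻¹ * e * n ∈ Ez S := by
      have := PiClosed.omegaZ_normalizer (inv_mem hn) he
      rwa [inv_inv] at this
    have h := hb.inv _ he' (fun h => he1 ?_) fun h => hez (by rw [← h]; group)
    · rw [show e * (n * b * n⁻¹) * e⁻¹ = n * (n⁻¹ * e * n * b * (n⁻¹ * e * n)⁻¹) * n⁻¹ by group, h]; group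
    · rw [show e = n * (n⁻¹ * e * n) * n⁻¹ by group, h]; group

/-- `z` is the only involution of `C(b)` commuting with `z`. -/
theorem Real.cent_unique (c : Ctx S) (hz : z ∈ Ez S) (hz1 : z ≠ 1) (hb : Real S z b) {u : G} (hu : Commute u b)
    (huz : Commute u z) (hu2 : u * u = 1) : u = 1 ∨ u = z := by
  have hEn : Ez S ≤ normalizer (th z : Set G) := (PiClosed.omegaZ_le _).trans ((le_cent hz).trans (th_norm z))
  obtain ⟨t, ht, w, hw, rfl⟩ := exists_sup_mul hEn (invol_mem c.u4 hz hz1 (mem_cent_singleton.2 huz) hu2)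
  have hto := orderOf_odd (th_odd z) ht
  by_cases hw1 : w = 1
  · subst hw1
    rw [mul_one] at hu2 ⊢
    exact Or.inl (eq_one_of_sq_of_odd hu2 hto)
  by_cases hwz : w = z
  · subst hwz
    right
    have htw : Commute t w := mem_cent_singleton.1 (th_le w ht)
    have h2 : t * t = 1 := by
      rw [show t * w * (t * w) = t * (w * t) * w by group, ← htw.eq, ← mul_assoc, mul_assoc _ w w, hz.2.1,
        mul_one] at hu2
      exact hu2
    rw [eq_one_of_sq_of_odd h2 hto, one_mul]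
  · exfalso
    have h1 : t * b⁻¹ * t⁻¹ = b := by
      rw [← hb.inv w hw hw1 hwz, show t * (w * b * w⁻¹) * t⁻¹ = t * w * b * (t * w)⁻¹ by group]
      exact conj_eq_of_commute hu
    have h2 : Commute (t * t) b := commute_of_conj_eq (by
      rw [show t * t * b * (t * t)⁻¹ = t * (t * b * t⁻¹) * t⁻¹ by group,
        show t * b * t⁻¹ = b⁻¹ by rw [← inv_inj, inv_inv]; refine Eq.trans ?_ h1; group, h1])
    have h3 := commute_of_commute_sq hto h2
    rw [conj_eq_of_commute h3.inv_right] at h1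
    exact hb.ne (eq_one_of_inv_eq h1 hb.odd)

theorem Real.cyclic_sylow (c : Ctx S) (hz : z ∈ Ez S) (hz1 : z ≠ 1) (hb : Real S z b) :
    ∃ R : Sylow 2 (centralizer ({b} : Set G)), IsCyclic (R : Subgroup (centralizer ({b} : Set G))) ∧
      ∀ r : centralizer ({b} : Set G), r ∈ (R : Subgroup (centralizer ({b} : Set G))) → Commute (r : G) z := by
  haveI : Fact (Nat.Prime 2) := ⟨Nat.prime_two⟩
  set C := centralizer ({b} : Set G)
  have hzC : z ∈ C := mem_cent_singleton.2 hb.comm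
  set z' : C := ⟨z, hzC⟩ with hz'
  have hzp : IsPGroup 2 (zpowers z') := by
    refine IsPGroup.of_card (n := 1) ?_
    rw [Nat.card_zpowers, pow_one]
    exact PiClosed.orderOf_involution (Subtype.ext hz.2.1) fun e => hz1 (congrArg Subtype.val e)
  obtain ⟨R, hR⟩ := hzp.exists_le_sylow
  have hzR : z' ∈ (R : Subgroup C) := hR (mem_zpowers z')
  have hinvR : ∀ r ∈ (R : Subgroup C), Commute (r : G) z → r * r = 1 → r = 1 ∨ r = z' := fun r _ hc h2 =>
    (hb.cent_unique c hz hz1 (mem_cent_singleton.1 r.2) hc (congrArg Subtype.val h2)).imp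
      (fun e => Subtype.ext e) fun e => Subtype.ext e
  -- `z` is central in `R`
  have hcen : ∀ r ∈ (R : Subgroup C), Commute (r : G) z := by
    haveI : Nontrivial (R : Subgroup C) := (Subgroup.nontrivial_iff_ne_bot _).2 fun e =>
      hz1 (congrArg Subtype.val (Subgroup.mem_bot.1 (show z' ∈ (⊥ : Subgroup C) from e ▸ hzR)))
    haveI := R.isPGroup'.center_nontrivial
    obtain ⟨k, hk⟩ := IsPGroup.iff_card.1 (R.isPGroup'.to_subgroup (center (R : Subgroup C)))
    have hk0 : 0 < k := by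
      by_contra h0
      have := Finite.one_lt_card (α := center (R : Subgroup C))
      rw [hk, show k = 0 by omega] at this
      omega
    obtain ⟨w, hw⟩ := exists_prime_orderOf_dvd_card' (G := center (R : Subgroup C)) 2
      (hk ▸ dvd_pow_self 2 hk0.ne')
    have hwc := mem_center_iff.1 w.2
    have hw2 : ((w : (R : Subgroup C)) : C) * ((w : (R : Subgroup C)) : C) = 1 := by
      have := pow_orderOf_eq_one w
      rw [hw, pow_two] at this
      exact congrArg Subtype.val (congrArg Subtype.val this)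
    have hwz : Commute (((w : (R : Subgroup C)) : C) : G) z :=
      (congrArg Subtype.val (congrArg Subtype.val (hwc ⟨z', hzR⟩))).symm
    rcases hinvR _ (w : (R : Subgroup C)).2 hwz hw2 with e | e
    · exfalso
      have : w = 1 := Subtype.ext (Subtype.ext e)
      rw [this, orderOf_one] at hw
      omega
    · intro r hr
      have h := congrArg Subtype.val (congrArg Subtype.val (hwc ⟨r, hr⟩))
      have h' : (r : G) * (((w : (R : Subgroup C)) : C) : G) = (((w : (R : Subgroup C)) : C) : G) * r := h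
      rw [e] at h'
      exact h'
  refine ⟨R, ?_, hcen⟩
  have hinv : ∀ r ∈ (R : Subgroup C), r * r = 1 → r ∈ zpowers z' := fun r hr h2 => by
    rcases hinvR r hr (hcen r hr) h2 with rfl | rfl
    exacts [one_mem _, mem_zpowers _]
  -- embed `R` in `S`
  obtain ⟨g, -, hg⟩ := (sylIn_top S).conj_le (R.isPGroup'.map C.subtype) le_top
  have hmem : ∀ r ∈ (R : Subgroup C), g * (r : G) * g⁻¹ ∈ (S : Subgroup G) := fun r hr =>
    hg (conj_mem_cj (mem_map_of_mem C.subtype hr))
  have hsq : ∀ r ∈ (R : Subgroup C), r * r * (r * r) = 1 := fun r hr => Subtype.ext (by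
    have h := (sq_mem_Ez c.u4 (hmem r hr)).2.1
    rw [show g * (r : G) * g⁻¹ * (g * r * g⁻¹) * (g * r * g⁻¹ * (g * r * g⁻¹)) = g * (r * r * (r * r)) * g⁻¹ by
      group] at h
    exact conj_eq_one_iff.1 h)
  by_cases hall : ∀ r ∈ (R : Subgroup C), r * r = 1
  · refine ⟨⟨⟨z', hzR⟩, fun r => ?_⟩⟩
    obtain ⟨i, hi⟩ := hinv r r.2 (hall r r.2)
    exact ⟨i, Subtype.ext hi⟩
  push Not at hall
  obtain ⟨a, ha, ha2⟩ := hall
  have haz : a * a = z' := (hinvR _ (mul_mem ha ha) (hcen _ (mul_mem ha ha)) (hsq a ha)).resolve_left ha2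
  refine ⟨⟨⟨a, ha⟩, fun r => ?_⟩⟩
  obtain ⟨r, hr⟩ := r
  suffices h : r ∈ zpowers a by obtain ⟨i, hi⟩ := h; exact ⟨i, Subtype.ext hi⟩
  have hza : zpowers z' ≤ zpowers a := zpowers_le.2 (haz ▸ mul_mem (mem_zpowers a) (mem_zpowers a))
  by_cases hr2 : r * r = 1
  · exact hza (hinv r hr hr2)
  have hrz : r * r = z' := (hinvR _ (mul_mem hr hr) (hcen _ (mul_mem hr hr)) (hsq r hr)).resolve_left hr2
  -- no quaternion subgroup
  have hc : Commute a r := by
    have hk : ⁅a, r⁆ ∈ (R : Subgroup C) := by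
      rw [commutatorElement_def]
      exact mul_mem (mul_mem (mul_mem ha hr) (inv_mem ha)) (inv_mem hr)
    have hk2 : ⁅a, r⁆ * ⁅a, r⁆ = 1 := Subtype.ext (by
      have h := (comm_mem_Ez c.u4 (hmem a ha) (hmem r hr)).2.1
      rw [show ⁅g * (a : G) * g⁻¹, g * (r : G) * g⁻¹⁆ = g * ⁅(a : G), (r : G)⁆ * g⁻¹ by
        rw [commutatorElement_def, commutatorElement_def]; group,
        show g * ⁅(a : G), (r : G)⁆ * g⁻¹ * (g * ⁅(a : G), (r : G)⁆ * g⁻¹) =
          g * (⁅(a : G), (r : G)⁆ * ⁅(a : G), (r : G)⁆) * g⁻¹ by group] at h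
      exact conj_eq_one_iff.1 h)
    rcases hinvR _ hk (hcen _ hk) hk2 with e | e
    · exact commutatorElement_eq_one_iff_mul_comm.1 e
    · exfalso
      have e1 : (a : G) * a = z := congrArg Subtype.val haz
      have e2 : (r : G) * r = z := congrArg Subtype.val hrz
      have e3 : ⁅(a : G), (r : G)⁆ = z := congrArg Subtype.val e
      refine c.u4.no_q8 ⟨_, hmem a ha⟩ ⟨_, hmem r hr⟩ (fun e' => hz1 ?_) (Subtype.ext ?_) (Subtype.ext ?_)
      · have h := congrArg Subtype.val e'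
        simp only [Subgroup.coe_mul, Subgroup.coe_one] at h
        rw [show g * (a : G) * g⁻¹ * (g * a * g⁻¹) = g * (a * a) * g⁻¹ by group, e1] at h
        exact conj_eq_one_iff.1 h
      · show g * (a : G) * g⁻¹ * (g * a * g⁻¹) = g * (r : G) * g⁻¹ * (g * r * g⁻¹)
        rw [show g * (a : G) * g⁻¹ * (g * a * g⁻¹) = g * (a * a) * g⁻¹ by group,
          show g * (r : G) * g⁻¹ * (g * r * g⁻¹) = g * (r * r) * g⁻¹ by group, e1, e2]
      · show ⁅g * (a : G) * g⁻¹, g * (r : G) * g⁻¹⁆ = g * (a : G) * g⁻¹ * (g * a * g⁻¹)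
        rw [show g * (a : G) * g⁻¹ * (g * a * g⁻¹) = g * (a * a) * g⁻¹ by group, e1, ← e3, commutatorElement_def,
          commutatorElement_def]
        group
  have h2 : a * r * (a * r) = 1 := by
    rw [show a * r * (a * r) = a * (r * a) * r by group, ← hc.eq, ← mul_assoc, mul_assoc _ r r, haz, hrz]
    exact Subtype.ext hz.2.1
  rw [show r = a⁻¹ * (a * r) by group]
  exact mul_mem (inv_mem (mem_zpowers a)) (hza (hinv _ (mul_mem ha hr) h2))

/-- The elements of odd order lie in the core, which is supplemented by `C(z)`. -/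
theorem Real.npc (c : Ctx S) (hz : z ∈ Ez S) (hz1 : z ≠ 1) (hb : Real S z b) :
    (∀ x : G, Commute x b → Odd (orderOf x) → x ∈ od (centralizer ({b} : Set G))) ∧
      centralizer ({b} : Set G) ≤
        od (centralizer ({b} : Set G)) ⊔ (centralizer ({b} : Set G) ⊓ centralizer ({z} : Set G)) := by
  haveI : Fact (Nat.Prime 2) := ⟨Nat.prime_two⟩
  have hsyl := hb.cyclic_sylow c hz hz1
  set C := centralizer ({b} : Set G) with hC
  obtain ⟨R, hcyc, hRz⟩ := hsyl
  have hev : Nat.minFac (Nat.card C) = 2 := (Nat.minFac_eq_two_iff _).2 (by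
    have h := orderOf_dvd_natCard C (mem_cent_singleton.2 hb.comm : z ∈ C)
    rwa [PiClosed.orderOf_involution hz.2.1 hz1] at h)
  obtain ⟨N, hN, hcomp⟩ : ∃ N : Subgroup C, N.Normal ∧ N.IsComplement' (R : Subgroup C) :=
    ⟨_, inferInstance, MonoidHom.ker_transferSylow_isComplement' R (IsCyclic.normalizer_le_centralizer hev hcyc)⟩
  set R' := (R : Subgroup C).map C.subtype
  have hNod : N.map C.subtype ≤ od C := by
    refine le_od (map_subtype_le _) ?_ ?_
    · have h := Subgroup.le_normalizer_map (H := N) C.subtype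
      rwa [normalizer_eq_top, ← MonoidHom.range_eq_map, range_subtype] at h
    · rw [card_map_of_injective C.subtype_injective]
      exact Nat.coprime_two_right.1 (Fusion.coprime_card_of_isComplement' hcomp)
  have hR'C : R' ≤ C := map_subtype_le _
  have hn : R' ≤ normalizer (od C : Set G) := hR'C.trans (od_norm C)
  have hsplit : C ≤ od C ⊔ R' := fun x hx => by
    have h : (⟨x, hx⟩ : C) ∈ N ⊔ (R : Subgroup C) := by rw [hcomp.sup_eq_top]; exact mem_top _
    have h' := mem_map_of_mem C.subtype h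
    rw [Subgroup.map_sup] at h'
    exact sup_le_sup_right hNod _ h'
  refine ⟨fun x hx ho => mem_of_odd_mem_sup (R.isPGroup'.map _) hn (hsplit (mem_cent_singleton.2 hx)) ho,
    hsplit.trans (sup_le_sup_left (le_inf hR'C ?_) _)⟩
  rintro _ ⟨r, hr, rfl⟩
  exact mem_cent_singleton.2 (hRz r hr)

/-- The signaliser of `b`. -/
def sg (p : ℕ) (b : G) : Subgroup G := SSF.Opc p (od (centralizer ({b} : Set G)))

theorem sg_le (p : ℕ) (b : G) : sg p b ≤ centralizer ({b} : Set G) := (SSF.Opc_le p _).trans (od_le _)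

theorem sg_odd (p : ℕ) (b : G) : Odd (Nat.card (sg p b)) := odd_of_le (SSF.Opc_le p _) (od_odd _)

theorem sg_norm (p : ℕ) (b : G) : centralizer ({b} : Set G) ≤ normalizer (sg p b : Set G) :=
  (od_norm _).trans (SSF.normalizer_le_normalizer_Opc p _)

theorem sg_cj (p : ℕ) (b g : G) : cj (sg p b) g = sg p (g * b * g⁻¹) := by rw [sg, cj_Opc, od_cj, cj_cent]; rfl

theorem sg_solvable (p : ℕ) (b : G) : Group.IsSolvable (sg p b) := Lie.CoreFun.solvable_of_odd (sg_odd p b)

theorem sg_coprime (p : ℕ) (b : G) : (Nat.card (sg p b)).Coprime p := SSF.Opc_coprime p _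

theorem isPGroup_zpowers_of_pow {p : ℕ} [Fact p.Prime] {x : G} (hx : x ^ p = 1) : IsPGroup p (zpowers x) := by
  obtain ⟨k, -, hk⟩ := (Nat.dvd_prime_pow (Fact.out : p.Prime) (m := 1)).1
    (orderOf_dvd_of_pow_eq_one (x := x) (by rw [pow_one, hx]))
  exact IsPGroup.of_card (n := k) (by rw [Nat.card_zpowers, hk])

/-- Balance. -/
theorem sg_balance {p : ℕ} [Fact p.Prime] (hp : Odd p) {b d : G} (hbd : Commute b d)
    (hbp : IsPGroup p (zpowers b))
    (hd : ∀ x : G, Commute x d → Odd (orderOf x) → x ∈ od (centralizer ({d} : Set G))) :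
    sg p b ⊓ centralizer ({d} : Set G) ≤ sg p d := by
  set N := od (centralizer ({d} : Set G))
  refine SSF.bel (q := p) (Q := zpowers b) (Lie.CoreFun.solvable_of_odd (od_odd _))
    (zpowers_le.2 (hd b hbd (by
      obtain ⟨j, hj⟩ := IsPGroup.iff_card.1 hbp
      rw [Nat.card_zpowers] at hj
      rw [hj]; exact hp.pow))) hbp
    (fun x hx => hd x (mem_cent_singleton.1 hx.2) (orderOf_odd (sg_odd p b) hx.1))
    ((sg_coprime p b).coprime_dvd_left (card_dvd_of_le inf_le_left)) ?_ ?_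
  · exact inf_le_left.trans ((sg_le p b).trans (fun x hx => mem_centralizer_iff.2 fun y hy => by
      obtain ⟨i, rfl⟩ := hy
      exact ((mem_cent_singleton.1 hx).zpow_right i).eq.symm))
  · intro x hx
    have hxb : x ∈ centralizer ({b} : Set G) :=
      mem_cent_singleton.2 (mem_centralizer_iff.1 hx.2 b (mem_zpowers b)).symm
    refine mem_normalizer_of_cj_le ?_
    rw [cj_inf, cj_eq_self (sg_norm p b hxb), cj_cent, conj_eq_of_commute (mem_cent_singleton.1 (od_le _ hx.1))]

/-- A group normalised by two commuting-up-to-centre elements is generated by their fixed subgroups. -/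
theorem gen_pair {p : ℕ} [Fact p.Prime] {U T : Subgroup G} (hU : (Nat.card U).Coprime p) {x y k : G}
    (hx : x ^ p = 1) (hy : y ^ p = 1) (hk : k ^ p = 1) (hkx : Commute k x) (hky : Commute k y)
    (hxy : ⁅x, y⁆ ∈ zpowers k) (hUk : U ≤ centralizer ({k} : Set G)) (hxU : x ∈ normalizer (U : Set G))
    (hyU : y ∈ normalizer (U : Set G)) (hx0 : x ∉ zpowers k) (hne : y ∉ zpowers x ⊔ zpowers k)
    (h : ∀ i j : ℕ, x ^ i * y ^ j ∉ zpowers k → U ⊓ centralizer ({x ^ i * y ^ j} : Set G) ≤ T) : U ≤ T := by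
  classical
  set K := normalizer (U : Set G) ⊓ centralizer ({k} : Set G) with hK
  have hkK : k ∈ K := mem_inf.2 ⟨mem_normalizer_fintype fun u hu => by
    rw [conj_eq_of_commute (mem_cent_singleton.1 (hUk hu)).symm]; exact hu, mem_cent_singleton.2 (Commute.refl k)⟩
  have hxK : x ∈ K := mem_inf.2 ⟨hxU, mem_cent_singleton.2 hkx.symm⟩
  have hyK : y ∈ K := mem_inf.2 ⟨hyU, mem_cent_singleton.2 hky.symm⟩
  have hUK : U ≤ K := le_inf le_normalizer hUk
  set Z := zpowers (⟨k, hkK⟩ : K) with hZ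
  haveI : Z.Normal := ⟨fun n hn g => by
    obtain ⟨i, rfl⟩ := hn
    have hc : Commute g ((⟨k, hkK⟩ : K) ^ i) := (Commute.zpow_right
      (Subtype.ext (mem_cent_singleton.1 g.2.2).eq : Commute g (⟨k, hkK⟩ : K)) i)
    rw [hc.eq, mul_inv_cancel_right]
    exact ⟨i, rfl⟩⟩
  have hZmem : ∀ g : K, g ∈ Z ↔ (g : G) ∈ zpowers k := fun g => by
    constructor
    · rintro ⟨i, rfl⟩; exact ⟨i, by simp⟩
    · rintro ⟨i, hi⟩; exact ⟨i, Subtype.ext (by simpa using hi)⟩
  set π := QuotientGroup.mk' Z with hπ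
  have hπeq : ∀ a b : K, π a = π b ↔ (a : G)⁻¹ * b ∈ zpowers k := fun a b => by
    rw [show π a = π b ↔ a⁻¹ * b ∈ Z from QuotientGroup.eq, hZmem]; simp
  set X : K ⧸ Z := π ⟨x, hxK⟩ with hX
  set Y : K ⧸ Z := π ⟨y, hyK⟩ with hY
  have hXY : Commute X Y := by
    show π ⟨x, hxK⟩ * π ⟨y, hyK⟩ = π ⟨y, hyK⟩ * π ⟨x, hxK⟩
    rw [← map_mul, ← map_mul, eq_comm, hπeq]
    have hc : Commute k (y * x) := hky.mul_right hkx
    obtain ⟨i, hi⟩ := hxy
    refine ⟨i, ?_⟩
    simp only at hi ⊢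
    rw [commutatorElement_def] at hi
    calc k ^ i = (y * x)⁻¹ * (k ^ i * (y * x)) := by rw [(hc.zpow_left i).eq, inv_mul_cancel_left]
      _ = _ := by rw [hi]; simp only [Subgroup.coe_mul]; group
  set W := (U.subgroupOf K).map π with hW
  have hWco : (Nat.card W).Coprime p := hU.coprime_dvd_left
    ((card_map_dvd _ π).trans (Nat.card_congr (subgroupOfEquivOfLe hUK).toEquiv).dvd)
  set A := zpowers X ⊔ zpowers Y with hA
  have hform : ∀ a ∈ A, ∃ i j : ℕ, a = X ^ i * Y ^ j := fun a ha => by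
    have hn : zpowers Y ≤ normalizer (zpowers X : Set (K ⧸ Z)) :=
      (zpowers_le.2 (mem_normalizer_fintype fun w hw => by
        obtain ⟨i, rfl⟩ := hw
        show Y * X ^ i * Y⁻¹ ∈ zpowers X
        rw [conj_eq_of_commute (hXY.symm.zpow_right i)]
        exact ⟨i, rfl⟩))
    obtain ⟨r, hr, w, hw, rfl⟩ := exists_sup_mul hn ha
    obtain ⟨i, rfl⟩ := mem_powers_iff_mem_zpowers.2 hr
    obtain ⟨j, rfl⟩ := mem_powers_iff_mem_zpowers.2 hw
    exact ⟨i, j, rfl⟩
  haveI hAcomm : IsMulCommutative A := ⟨⟨fun ⟨a, ha⟩ ⟨b, hb⟩ => Subtype.ext (by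
    obtain ⟨i, j, rfl⟩ := hform a ha
    obtain ⟨i', j', rfl⟩ := hform b hb
    have hX' : Commute (X ^ i) (X ^ i' * Y ^ j') :=
      ((Commute.refl X).pow_pow i i').mul_right (hXY.pow_pow i j')
    have hY' : Commute (Y ^ j) (X ^ i' * Y ^ j') :=
      (hXY.symm.pow_pow j i').mul_right ((Commute.refl Y).pow_pow j j')
    exact (hX'.mul_left hY').eq)⟩⟩
  have hXp : X ^ p = 1 := by
    rw [hX, ← map_pow, show (⟨x, hxK⟩ : K) ^ p = 1 from Subtype.ext hx, map_one]
  have hYp : Y ^ p = 1 := by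
    rw [hY, ← map_pow, show (⟨y, hyK⟩ : K) ^ p = 1 from Subtype.ext hy, map_one]
  have hApow : ∀ a ∈ A, a ^ p = 1 := fun a ha => by
    obtain ⟨i, j, rfl⟩ := hform a ha
    rw [(hXY.pow_pow i j).mul_pow, ← pow_mul, ← pow_mul, mul_comm i, mul_comm j, pow_mul, pow_mul, hXp, hYp,
      one_pow, one_pow, one_mul]
  have hAcard : (Nat.card A).Coprime (Nat.card W) := by
    have hA' : IsPGroup p A := fun a => ⟨1, Subtype.ext (by simpa using hApow a a.2)⟩
    obtain ⟨j, hj⟩ := IsPGroup.iff_card.1 hA'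
    rw [hj]
    exact hWco.symm.pow_left j
  have hAW : A ≤ normalizer (W : Set (K ⧸ Z)) := by
    refine sup_le (zpowers_le.2 ?_) (zpowers_le.2 ?_)
    · refine le_normalizer_map π (mem_map_of_mem π (?_ : (⟨x, hxK⟩ : K) ∈ _))
      rw [← subgroupOf_normalizer_eq hUK]; exact hxU
    · refine le_normalizer_map π (mem_map_of_mem π (?_ : (⟨y, hyK⟩ : K) ∈ _))
      rw [← subgroupOf_normalizer_eq hUK]; exact hyU
  have hkU : U ⊓ zpowers k = ⊥ := Subgroup.inf_eq_bot_of_coprime (hU.coprime_dvd_right (by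
    rw [Nat.card_zpowers]; exact orderOf_dvd_of_pow_eq_one hk))
  have hpiece : ∀ B ∈ Solv.CycQuot A, W ⊓ centralizer (B : Set (K ⧸ Z)) ≤ ((U ⊓ T).subgroupOf K).map π := by
    rintro B ⟨hBA, a, ha, hBa⟩
    obtain ⟨q, hqB, hq1⟩ : ∃ q ∈ B, q ≠ 1 := by
      by_contra hno
      push Not at hno
      rw [(Subgroup.eq_bot_iff_forall _).2 hno, bot_sup_eq] at hBa
      have hX1 : X ≠ 1 := fun e => hx0 (by
        have h' := (hπeq 1 ⟨x, hxK⟩).1 (by rw [map_one]; exact e.symm)
        simpa using h')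
      have e : zpowers X = A := Subgroup.eq_of_le_of_card_ge le_sup_left (by
        rw [← hBa, Nat.card_zpowers, Nat.card_zpowers,
          ((Nat.dvd_prime (Fact.out : p.Prime)).1 (orderOf_dvd_of_pow_eq_one hXp)).resolve_left
            fun h => hX1 (orderOf_eq_one_iff.1 h)]
        exact Nat.le_of_dvd (Fact.out : p.Prime).pos (orderOf_dvd_of_pow_eq_one (hApow a ha)))
      obtain ⟨i, hi⟩ : Y ∈ zpowers X := e ▸ mem_sup_right (mem_zpowers Y)
      simp only at hi
      have h' := (hπeq (⟨x, hxK⟩ ^ i) ⟨y, hyK⟩).1 (by rw [map_zpow]; exact hi)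
      refine hne ?_
      rw [show y = x ^ i * ((x ^ i)⁻¹ * y) by group]
      exact mul_mem (mem_sup_left (zpow_mem (mem_zpowers x) i)) (mem_sup_right (by simpa using h'))
    obtain ⟨i, j, rfl⟩ := hform q (hBA hqB)
    set q' := x ^ i * y ^ j with hqd
    have hq : X ^ i * Y ^ j = π (⟨x, hxK⟩ ^ i * ⟨y, hyK⟩ ^ j) := by rw [map_mul, map_pow, map_pow]
    rintro _ ⟨⟨v, hv, rfl⟩, hvc⟩
    have hvU : (v : G) ∈ U := hv
    have h1 := mem_centralizer_iff.1 hvc _ hqB
    rw [hq, ← map_mul, ← map_mul, hπeq] at h1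
    simp only [Subgroup.coe_mul, SubgroupClass.coe_pow] at h1
    rw [← hqd] at h1
    have hqU : q' ∈ normalizer (U : Set G) := mul_mem (pow_mem hxU i) (pow_mem hyU j)
    have hm : (q' * (v : G))⁻¹ * (v * q') = 1 := by
      refine Subgroup.mem_bot.1 (hkU ▸ mem_inf.2 ⟨?_, h1⟩)
      rw [show (q' * (v : G))⁻¹ * (v * q') = (v : G)⁻¹ * (q'⁻¹ * v * q') by group]
      refine mul_mem (inv_mem hvU) ?_
      have := (mem_normalizer_iff.1 (inv_mem hqU) (v : G)).1 hvU
      rwa [inv_inv] at this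
    have hvq : (v : G) ∈ centralizer ({q'} : Set G) := mem_cent_singleton.2 (inv_mul_eq_one.1 hm).symm
    refine ⟨v, mem_inf.2 ⟨hvU, h i j (fun hmem => hq1 ?_) (mem_inf.2 ⟨hvU, hvq⟩)⟩, rfl⟩
    rw [hq, ← map_one π, eq_comm, hπeq]
    simpa [hqd] using hmem
  have hWT : W ≤ ((U ⊓ T).subgroupOf K).map π :=
    (Solv.gen_eq A W hAcomm hAW hAcard).ge.trans (iSup₂_le fun B hB => hpiece B hB)
  intro u hu
  obtain ⟨t, ht, hte⟩ := hWT (mem_map_of_mem π (show (⟨u, hUK hu⟩ : K) ∈ U.subgroupOf K from hu))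
  rw [hπeq] at hte
  have htU : (t : G) ∈ U ⊓ T := ht
  have : (t : G)⁻¹ * u = 1 := Subgroup.mem_bot.1 (hkU ▸ mem_inf.2 ⟨mul_mem (inv_mem htU.1) hu, hte⟩)
  rw [← inv_mul_eq_one.1 this]
  exact htU.2

end Cfsg.Agent.UFour
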