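import Cfsg.Agent.Lib.UFour.Reduce
import Cfsg.Agent.Lib.Spor.PSUTransfer
import Cfsg.Agent.Lib.Solv.EqualOrder.Tools
import Cfsg.Agent.S0222

/-!
# Simple groups with a Sylow 2-subgroup of the type of `U₃(4)`

The normaliser of a Sylow 2-subgroup is strongly embedded. The groups `PSL₂(64)` and `Sz(8)` have an element of order
seven in it, which would centralise the group.
-/

set_option autoImplicit false
set_option linter.style.haveILetI false
set_option linter.unusedSectionVars false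

namespace Cfsg.Agent.UFour

open Subgroup Cfsg.Agent Cfsg.Agent.Fusion
open scoped commutatorElement

universe u v

variable {G : Type u} [Group G] [Finite G] [IsSimpleGroup G]

theorem eq_six_of_card {f n m : ℕ} (hm : Odd m) (hn : n = 64) (hdvd : n ∣ 2 ^ f * m) (hodd : Odd (2 ^ f * m / n)) :
    f = 6 := by
  subst hn
  have h6 : 6 ≤ f := by
    have h1 : 2 ^ 6 ∣ 2 ^ f := ((Nat.coprime_two_left.2 hm).pow_left 6).dvd_of_dvd_mul_right hdvd
    exact (Nat.pow_dvd_pow_iff_le_right (by norm_num)).1 h1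
  by_contra hne
  obtain ⟨k, rfl⟩ : ∃ k, f = 7 + k := ⟨f - 7, by omega⟩
  rw [show 2 ^ (7 + k) * m / 64 = 2 * (2 ^ k * m) by
    rw [show 2 ^ (7 + k) * m = 64 * (2 * (2 ^ k * m)) by rw [pow_add]; ring]; omega] at hodd
  exact absurd hodd (by simp)

theorem odd_index (S : Sylow 2 G) : Odd (Nat.card G / Nat.card (S : Subgroup G)) := by
  haveI : Fact (Nat.Prime 2) := ⟨Nat.prime_two⟩
  rw [← (S : Subgroup G).index_mul_card, Nat.mul_div_cancel _ Nat.card_pos]
  exact Nat.not_even_iff_odd.1 fun e => S.not_dvd_index (even_iff_two_dvd.1 e)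

/-- With sixty-five Sylow 2-subgroups the order is not a multiple of seven. -/
theorem not_seven_dvd (hna : ¬ IsMulCommutative G) {S : Sylow 2 G} (h : U4 (S : Subgroup G))
    (hC : ∀ z ∈ Ez S, z ≠ 1 → centralizer ({z} : Set G) ≤ normalizer ((S : Subgroup G) : Set G)) :
    ¬ 7 ∣ Nat.card G := by
  classical
  haveI : Fact (Nat.Prime 2) := ⟨Nat.prime_two⟩
  haveI : Fact (Nat.Prime 7) := ⟨by norm_num⟩
  intro h7
  have htt := CI.twoTrans_of_se hna (se_normalizer hna h hC)
  set N := normalizer ((S : Subgroup G) : Set G) with hN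
  -- `S` is regular on the other Sylow 2-subgroups
  obtain ⟨Q, hQ⟩ : ∃ Q : Sylow 2 G, Q ≠ S := by
    by_contra hh; push Not at hh
    refine normalizer_sylow_ne_top hna (fun e => ?_) (eq_top_iff.2 fun x _ => Sylow.smul_eq_iff_mem_normalizer.1 (hh _))
    have := h.card
    rw [e, card_bot] at this
    norm_num at this
  obtain ⟨x, rfl⟩ := MulAction.exists_smul_eq G S Q
  have hbij : Function.Bijective (fun p : (S : Subgroup G) =>
      (⟨(p : G) • x • S, fun e => hQ (by
        have h1 := congrArg (fun R => (p : G)⁻¹ • R) e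
        simp only [inv_smul_smul] at h1
        rw [h1]
        exact Sylow.smul_eq_iff_mem_normalizer.2 (inv_mem (le_normalizer p.2)))⟩ : {R : Sylow 2 G // R ≠ S})) := by
    constructor
    · intro p q hpq
      have h1 : (p : G) • x • S = (q : G) • x • S := congrArg Subtype.val hpq
      have h2 : x⁻¹ * ((q : G)⁻¹ * p) * x ∈ N := Sylow.smul_eq_iff_mem_normalizer.1 (by
        rw [mul_smul, mul_smul, mul_smul, h1, inv_smul_smul, inv_smul_smul])
      by_contra hne
      have hy1 : (q : G)⁻¹ * p ≠ 1 := fun e => hne (Subtype.ext (inv_mul_eq_one.1 e).symm)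
      have hyS : (q : G)⁻¹ * p ∈ (S : Subgroup G) := mul_mem (inv_mem q.2) p.2
      obtain ⟨j, hj⟩ := S.isPGroup' ⟨_, hyS⟩
      have hj' : ((q : G)⁻¹ * p) ^ 2 ^ j = 1 := congrArg Subtype.val hj
      refine hQ (Sylow.smul_eq_iff_mem_normalizer.2 (mem_normalizer_of_meet h hC hyS hy1
        (mem_sylow_of_normalizes h2 (a := j) ?_)))
      rw [show x⁻¹ * ((q : G)⁻¹ * p) * x = x⁻¹ * ((q : G)⁻¹ * p) * x⁻¹⁻¹ by rw [inv_inv], conj_pow, hj', mul_one,
        mul_inv_cancel]
    · rintro ⟨R, hR⟩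
      obtain ⟨p, hp, e⟩ := htt S (x • S) R hQ hR
      exact ⟨⟨p, hp⟩, Subtype.ext e⟩
  have hcard : Nat.card (Sylow 2 G) = 65 := by
    have h1 := Nat.card_congr (Equiv.ofBijective _ hbij)
    rw [h.card] at h1
    haveI : Fintype (Sylow 2 G) := Fintype.ofFinite _
    rw [Nat.card_eq_fintype_card, Fintype.card_subtype_compl, Fintype.card_subtype_eq] at h1
    have := Fintype.card_pos (α := Sylow 2 G)
    rw [Nat.card_eq_fintype_card]
    omega
  have hG : Nat.card G = 65 * Nat.card N := by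
    rw [← hcard, S.card_eq_index_normalizer]; exact (Subgroup.index_mul_card _).symm
  -- an element of order seven
  obtain ⟨u, hu⟩ := exists_prime_orderOf_dvd_card' (G := N) 7
    ((Nat.Coprime.dvd_of_dvd_mul_left (by norm_num) (hG ▸ h7)))
  rw [← Subgroup.orderOf_coe] at hu
  have hodd : Odd (orderOf (u : G)) := by rw [hu]; decide
  have hEn : (u : G) ∈ normalizer (Ez S : Set G) := mem_normalizer_fintype fun w hw => PiClosed.omegaZ_normalizer u.2 hw
  have hfix : ∀ e ∈ Ez S, (u : G) * e * (u : G)⁻¹ = e := by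
    set φ : MulAut (Ez S) := (Ez S).normalizerMonoidHom ⟨u, hEn⟩
    let ι : MulAut (Ez S) →* Equiv.Perm (Ez S) :=
      { toFun := MulEquiv.toEquiv, map_one' := rfl, map_mul' := fun _ _ => rfl }
    have h1 : orderOf (ι φ) ∣ 7 := (orderOf_map_dvd ι φ).trans ((orderOf_map_dvd _ _).trans (by
      rw [Subgroup.orderOf_mk, hu]))
    have h2 : orderOf (ι φ) ∣ 24 := by
      refine (_root_.orderOf_dvd_natCard _).trans ?_
      rw [Nat.card_perm, card_Ez h]; rfl
    have h3 : ι φ = 1 := orderOf_eq_one_iff.1 (Nat.eq_one_of_dvd_coprimes (by norm_num : Nat.Coprime 7 24) h1 h2)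
    intro e he
    exact congrArg Subtype.val (congrArg (fun ψ : Equiv.Perm (Ez S) => ψ ⟨e, he⟩) h3 :)
  have hcS : (u : G) ∈ centralizer ((S : Subgroup G) : Set G) :=
    mem_of_pow_coprime (show Nat.Coprime 5 7 by norm_num) (pow_five' h u.2 hodd hfix)
      (by rw [← hu, pow_orderOf_eq_one]; exact one_mem _)
  have hφ := fix_all hna h hC (MulAut.conj (u : G)) (hodd.of_dvd_nat (orderOf_map_dvd MulAut.conj _)) fun s hs => by
    show (u : G) * s * (u : G)⁻¹ = s
    rw [← mem_centralizer_iff.1 hcS s hs, mul_inv_cancel_right]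
  have hcc : (u : G) ∈ center G := mem_center_iff.2 fun g => by
    have h1 : (u : G) * g * (u : G)⁻¹ = g := congrArg (fun ψ : MulAut G => ψ g) hφ
    exact (mul_inv_eq_iff_eq_mul.1 h1).symm
  rw [CI.simple_center hna, mem_bot] at hcc
  rw [hcc, orderOf_one] at hu
  omega

/-- Simple groups with a Sylow 2-subgroup of this type. -/
theorem psu_of_simple {F : Type v} [Field F] [Fintype F] (hF : Fintype.card F = 16) (S : Sylow 2 G)
    (h : U4 (S : Subgroup G)) : Nonempty (G ≃* Cfsg.PSU 3 F 4) := by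
  haveI : Fact (Nat.Prime 2) := ⟨Nat.prime_two⟩
  have hna : ¬ IsMulCommutative G := fun hc => by
    letI : CommGroup G := { (inferInstance : Group G) with mul_comm := fun a b => hc.is_comm.comm a b }
    have hpr := IsSimpleGroup.prime_card (α := G)
    have h4 : 4 ∣ Nat.card G := (show 4 ∣ Nat.card (S : Subgroup G) by rw [h.card]; norm_num).trans
      (card_subgroup_dvd_card _)
    exact absurd (((Nat.dvd_prime hpr).1 h4).resolve_left (by norm_num) ▸ hpr) (by norm_num)
  have hC : ∀ z ∈ Ez S, z ≠ 1 → centralizer ({z} : Set G) ≤ normalizer ((S : Subgroup G) : Set G) :=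
    fun z hz hz1 => cent_le_normalizer_of_core h (CI.simple_core hna) hz hz1
  have hna' : ∃ a b : G, a * b ≠ b * a := by
    by_contra hc
    push Not at hc
    exact hna ⟨⟨hc⟩⟩
  have h64 : Nat.card (S : Subgroup G) ∣ Nat.card G := card_subgroup_dvd_card _
  have hodd := odd_index S
  have h7 := not_seven_dvd hna h hC
  rcases S0222.result hna' _ (se_normalizer hna h hC) with ⟨F', i1, i2, hch, h4F, ⟨e⟩⟩ | hsz | ⟨F', i1, i2, q, hq, hqe, hq4, ⟨e⟩⟩
  · exfalso
    obtain ⟨f, -, hf⟩ := FiniteField.card F' 2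
    have hc := Solv.EqualOrder.card_psl_two (F := F') f.pos hf
    rw [← Nat.card_congr e.toEquiv] at hc
    rw [hc] at h64 hodd h7
    have hf6 := eq_six_of_card (m := (2 ^ (f : ℕ)) ^ 2 - 1) (by
      have h1 : 1 ≤ (2 ^ (f : ℕ)) ^ 2 := Nat.one_le_pow _ _ (pow_pos two_pos _)
      have h2 : Even ((2 ^ (f : ℕ)) ^ 2) := ((Nat.even_pow).2 ⟨even_two, f.pos.ne'⟩).pow_of_ne_zero (by norm_num)
      exact Nat.Even.sub_odd h1 h2 odd_one) h.card h64 hodd
    rw [hf6] at h7
    norm_num at h7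
  · exfalso
    obtain ⟨-, m, hm, hc⟩ := hsz
    rw [hc, ← pow_mul, mul_assoc] at h64 hodd h7
    have hf6 := eq_six_of_card (f := (2 * m + 1) * 2) (m := ((2 ^ ((2 * m + 1) * 2)) + 1) * (2 ^ (2 * m + 1) - 1)) (by
      refine Odd.mul (Even.add_one ((Nat.even_pow).2 ⟨even_two, by omega⟩)) ?_
      exact Nat.Even.sub_odd Nat.one_le_two_pow ((Nat.even_pow).2 ⟨even_two, by omega⟩) odd_one) h.card h64 hodd
    obtain rfl : m = 1 := by omega
    norm_num at h7
  · obtain ⟨p, hp⟩ := CharP.exists F'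
    haveI := hp
    obtain ⟨k, hpp, hk⟩ := FiniteField.card F' p
    rw [hq] at hk
    have hp2 : p = 2 := by
      have h2 : 2 ∣ p ^ (k : ℕ) := hk ▸ dvd_pow (even_iff_two_dvd.1 hqe) (by norm_num)
      exact ((Nat.prime_dvd_prime_iff_eq Nat.prime_two hpp).1 (Nat.prime_two.dvd_of_dvd_pow h2)).symm
    subst hp2
    obtain ⟨n, -, hn⟩ := (Nat.dvd_prime_pow Nat.prime_two).1 (hk ▸ dvd_pow_self q (by norm_num) : q ∣ 2 ^ (k : ℕ))
    subst hn
    have hn1 : 1 ≤ n := by
      by_contra h0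
      rw [show n = 0 by omega] at hq4
      norm_num at hq4
    haveI : CharP F' 2 := hp
    obtain ⟨σ, hσ⟩ := Lie.UnitarySylow.sigma_props hn1 hq
    letI := Lie.UnitarySylow.uGroup hσ
    haveI : Finite (Cfsg.PSU 3 F' (2 ^ n)) := Finite.of_equiv G e.toEquiv
    set P : Sylow 2 (Cfsg.PSU 3 F' (2 ^ n)) := S.mapSurjective (f := e.toMonoidHom) e.surjective with hP
    obtain ⟨eP⟩ := Lie.UnitarySylow.sylow_PSU hσ hn1 rfl P
    have hcP : Nat.card (P : Subgroup (Cfsg.PSU 3 F' (2 ^ n))) = 64 := by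
      show Nat.card ((S : Subgroup G).map e.toMonoidHom) = 64
      rw [Subgroup.card_map_of_injective (f := e.toMonoidHom) e.injective, h.card]
    rw [← Nat.card_congr eP.toEquiv, Lie.UnitarySylow.card_U hσ, ← pow_mul] at hcP
    obtain rfl : n = 2 := by
      have := Nat.pow_right_injective (le_refl 2) (hcP.trans (show (64 : ℕ) = 2 ^ 6 by norm_num))
      omega
    obtain ⟨φ⟩ : Nonempty (F' ≃+* F) := ⟨FiniteField.ringEquivOfCardEq (by rw [hq, hF]; norm_num)⟩
    obtain ⟨ψ⟩ := Spor.PSUTransfer.psu_congr (n := 3) (q := 4) φ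
    exact ⟨e.trans ψ⟩

end Cfsg.Agent.UFour
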