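import Cfsg.Agent.Lib.UFour.Bender
import Cfsg.Agent.Lib.UFour.Functor
import Cfsg.Agent.Lib.UFour.Linked
import Cfsg.Agent.Lib.OddLocal.OddFactor

/-!
# Maximal members with linked primes: one prime, or central centres

In both situations an element of the normaliser of `S` moving the involutions fixes the member.
-/

set_option autoImplicit false
set_option linter.style.haveILetI false
set_option linter.unusedSectionVars false

namespace Cfsg.Agent.UFour

open Subgroup Cfsg.Agent Cfsg.Agent.Fusion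
open scoped commutatorElement Pointwise

universe u

variable {G : Type u} [Group G]

theorem pow_swap {x y k : G} (h : y * x = k * (x * y)) (hkx : Commute k x) (hky : Commute k y) (i j : ℕ) :
    y ^ j * x ^ i = k ^ (i * j) * (x ^ i * y ^ j) := by
  have h1 : ∀ i : ℕ, y * x ^ i = k ^ i * (x ^ i * y) := fun i => by
    induction i with
    | zero => simp
    | succ i ih =>
      rw [pow_succ x i, ← mul_assoc, ih, mul_assoc, mul_assoc, h, ← mul_assoc (x ^ i) k (x * y),
        ← (hkx.pow_right i).eq, pow_succ k i]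
      group
  induction j with
  | zero => simp
  | succ j ih =>
    rw [pow_succ' y j, mul_assoc, ih, ← mul_assoc, ← (hky.pow_left (i * j)).eq, mul_assoc (k ^ (i * j)) y,
      ← mul_assoc y (x ^ i), h1, Nat.mul_succ, pow_add]
    group

/-- A characteristic subgroup of a subgroup is normalised by the normaliser. -/
theorem normalizer_le_normalizer_char {R : Subgroup G} (X : Subgroup R) [hX : X.Characteristic] :
    normalizer (R : Set G) ≤ normalizer (X.map R.subtype : Set G) := fun g hg => by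
  refine mem_normalizer_iff_cj.2 ?_
  have h := Subgroup.characteristic_iff_map_eq.1 hX (R.normalizerMonoidHom ⟨g, hg⟩)
  show (X.map R.subtype).map (MulAut.conj g).toMonoidHom = X.map R.subtype
  conv_rhs => rw [← h]
  rw [Subgroup.map_map, Subgroup.map_map]
  rfl

variable [Finite G] {S : Sylow 2 G}

theorem Iv.conj {z : G} {A : Subgroup G} (hA : Iv S z A) {n : G} (hn : n ∈ normalizer ((S : Subgroup G) : Set G)) :
    Iv S (n * z * n⁻¹) (Fusion.cj A n) := by
  refine ⟨hA.mem.cj hn, fun e => hA.ne ((Subgroup.map_eq_bot_iff_of_injective _ (MulAut.conj n).injective).1 e),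
    (cj_mono hA.cent n).trans (cj_cent z n).le, ?_⟩
  rintro _ ⟨a, ha, rfl⟩ e he he1 hez
  show e * (n * a * n⁻¹) * e⁻¹ = (n * a * n⁻¹)⁻¹
  by_cases ha1 : a = 1
  · subst ha1; simp
  exact ((hA.real ha ha1).conj hn).inv e he he1 hez

theorem Real.pow {z d : G} (hd : Real S z d) {k : ℕ} (hk : d ^ k ≠ 1) : Real S z (d ^ k) :=
  ⟨hd.comm.pow_right k, hk, hd.odd.of_dvd_nat (orderOf_pow_dvd k), fun e he he1 hez => by
    rw [← conj_pow, hd.inv e he he1 hez, inv_pow]⟩

/-- A power of order `p`. -/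
theorem Real.order_p {p : ℕ} [Fact p.Prime] {z d : G} (hd : Real S z d) {P : Subgroup G} (hP : IsPGroup p P)
    (hdP : d ∈ P) : ∃ k : ℕ, Real S z (d ^ k) ∧ (d ^ k) ^ p = 1 := by
  obtain ⟨j, hj⟩ := hP ⟨d, hdP⟩
  obtain ⟨i, -, hi⟩ := (Nat.dvd_prime_pow (Fact.out : p.Prime)).1
    (orderOf_dvd_of_pow_eq_one (congrArg Subtype.val hj))
  have h0 : i ≠ 0 := fun e => hd.ne (orderOf_eq_one_iff.1 (by rw [hi, e, pow_zero]))
  refine ⟨p ^ (i - 1), hd.pow fun e => ?_, ?_⟩
  · have := Nat.le_of_dvd (pow_pos (Fact.out : p.Prime).pos _) (orderOf_dvd_of_pow_eq_one e)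
    rw [hi] at this
    have := (Nat.pow_le_pow_iff_right (Fact.out : p.Prime).one_lt).1 this
    omega
  · rw [← pow_mul, ← pow_succ, Nat.sub_add_cancel (Nat.pos_of_ne_zero h0), ← hi, pow_orderOf_eq_one]

/-- An odd group with the involutions acting and not centralised by them has an inverted element. -/
theorem Ctx.exists_inverted (c : Ctx S) {D : Subgroup G} (hD : Odd (Nat.card D))
    (hE : Ez S ≤ normalizer (D : Set G)) (h : ¬ D ≤ centralizer (Ez S : Set G)) :
    ∃ e ∈ Ez S, e ≠ 1 ∧ ∃ d ∈ D, Real S e d := by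
  by_contra hno
  push Not at hno
  refine h (c.gen hD hE fun e he he1 x hx => mem_centralizer_iff.2 fun w hw => ?_)
  obtain ⟨hxD, hxe⟩ := hx
  have hex : Commute e x := (mem_cent_singleton.1 hxe).symm
  by_contra hne
  have hne' : w * x * w⁻¹ ≠ x := fun e' => hne (mul_inv_eq_iff_eq_mul.1 e')
  have hw2 : w * w = 1 := hw.2.1
  obtain ⟨hd1, hdw⟩ := inverted_of_moved hw2 hne'
  set d := x⁻¹ * (w * x * w⁻¹)
  have hw1 : w ≠ 1 := fun e' => hne' (by simp [e'])
  have hew : e ≠ w := fun e' => hne' (conj_eq_of_commute (e' ▸ hex))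
  have hdD : d ∈ D := mul_mem (inv_mem hxD) ((mem_normalizer_iff.1 (hE hw) x).1 hxD)
  have hed : Commute e d := hex.inv_right.mul_right
    (((Ez_comm he hw).mul_right hex).mul_right (Ez_comm he hw).inv_right)
  refine hno e he he1 d hdD ⟨hed, hd1, orderOf_odd hD hdD, fun e' he' he'1 he'e => ?_⟩
  rcases mem_Ez_cases c.u4 he hw he1 hw1 hew he' with h1 | h1 | h1 | h1
  · exact absurd h1 he'1
  · exact absurd h1 he'e
  · rw [h1]; exact hdw
  · rw [h1, show e * w * d * (e * w)⁻¹ = e * (w * d * w⁻¹) * e⁻¹ by group, hdw, conj_eq_of_commute hed.inv_right]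

namespace Ctx

variable (c : Ctx S)
include c

theorem exists_mover {z : G} (hz : z ∈ Ez S) (hz1 : z ≠ 1) :
    ∃ n ∈ normalizer ((S : Subgroup G) : Set G), n * z * n⁻¹ ≠ z := by
  haveI := c.simple
  exact exists_move c.nonab c.u4 hz hz1

/-- One prime in the Fitting subgroup. -/
theorem one_prime_false {M : Subgroup G} (hM : Mx S M) {z : G} (hz : z ∈ Ez S) (hz1 : z ≠ 1) (hth : th z ≠ ⊥)
    (hzM : th z ≤ M) {p : ℕ} [Fact p.Prime] (hl : Lk p S) (hpM : SSF.Ox p M ≠ ⊥)
    (hone : ∀ q : ℕ, q.Prime → q ≠ p → SSF.Ox q M = ⊥) : False := by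
  have hp2 : p ≠ 2 := by
    rintro rfl
    refine hpM (le_bot_iff.1 ((inf_odd_eq_bot (SSF.isPGroup_Ox 2 M) hM.mem.odd) ▸ le_inf le_rfl (SSF.Ox_le 2 M)))
  have hOpc : SSF.Opc p M = ⊥ := SSF.normal_eq_bot hM.mem.solvable (SSF.Opc_le p M)
    (SSF.self_le_normalizer_Opc p M) fun q hq => by
      by_cases hqp : q = p
      · subst hqp
        rw [inf_comm]
        exact inf_eq_bot_of_pGroup_coprime (SSF.isPGroup_Ox q M) (SSF.Opc_coprime q M)
      · rw [hone q hq hqp, inf_bot_eq]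
  obtain ⟨P, hP, hOP, hPS, hPp⟩ := exists_inv_sylow hM.mem (mem_Ox hM.mem p) (SSF.Ox_le p M) (SSF.isPGroup_Ox p M)
  have hP1 : P ≠ ⊥ := fun e => hpM (le_bot_iff.1 (e ▸ hOP))
  obtain ⟨T, hT⟩ := hP.exists_sylow
  have hPM : P ≤ M := hP.1
  set Zj := OddLocal.Fact2.zjOf p P with hZj
  obtain ⟨hZP, hZ1, hZn⟩ := OddLocal.Fact2.zjOf_facts hPp
  have hZm : Mem S Zj := ⟨odd_of_le (hZP.trans hPM) hM.mem.odd, hPS.norm.trans hZn⟩
  have hMn : M ≤ normalizer (Zj : Set G) := by
    have hco : Cfsg.pPrimeCore p M = ⊥ :=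
      (Subgroup.map_eq_bot_iff_of_injective _ M.subtype_injective).1 hOpc
    have h := OddLocal.Fact2.zj_factor hM.mem.solvable hM.mem.odd hp2 T
    rw [hco, bot_sup_eq] at h
    have h' := Subgroup.le_normalizer_map (H := OddLocal.Fact2.zjOf p (T : Subgroup M)) M.subtype
    rw [h, ← MonoidHom.range_eq_map, range_subtype,
      OddLocal.Fact2.zjOf_map M.subtype T.isPGroup' (M.subtype_injective.comp (Subtype.val_injective)),
      hT] at h'
    exact h'
  have hMeq := c.mx_eq_od hM hZm (hZ1 hP1) hMn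
  obtain ⟨R, hR, hPR⟩ := exists_pmx hPS hPp
  have hRP : R = P := by
    by_contra hne
    have hg := SylIn.normalizer_growth hPR (Ne.symm hne) hR.pgrp
    refine hg.ne (hP.eq_of_le (hR.pgrp.to_le inf_le_left) ?_ hg.le)
    refine (c.mem_le hZm (hZ1 hP1) (hR.mem.inf_normalized (hPS.norm.trans le_normalizer))
      (inf_le_right.trans hZn)).trans hMeq.ge
  obtain ⟨n, hn, hnz⟩ := c.exists_mover hz hz1
  obtain ⟨g, hg, hgz, hgR⟩ := c.exists_stabilizer hl hR (hRP ▸ hP1) hz hz1 hn hnz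
  refine c.stable_false hM.mem hz hz1 hth hzM hg hgz ?_
  rw [hMeq, od_cj, cj_normalizer, cj_eq_self (hZn (mem_normalizer_iff_cj.2 (hRP ▸ hgR)))]

/-- All centres centralise the involutions. -/
theorem central_false {M : Subgroup G} (hM : Mx S M) {z : G} (hz : z ∈ Ez S) (hz1 : z ≠ 1) (hth : th z ≠ ⊥)
    (hzM : th z ≤ M) {p q : ℕ} [Fact p.Prime] [Fact q.Prime] (hpq : p ≠ q) (hpM : SSF.Ox p M ≠ ⊥)
    (hqM : SSF.Ox q M ≠ ⊥) (hcen : ∀ r : ℕ, r.Prime → Zc r M ≤ centralizer (Ez S : Set G)) : False := by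
  obtain ⟨n, hn, hnz⟩ := c.exists_mover hz hz1
  have hM' : Mx S (cj M n) := hM.cj hn
  have hn' : n * z * n⁻¹ ∈ Ez S := PiClosed.omegaZ_normalizer hn hz
  have hin : ∀ r : ℕ, r.Prime → Zc r M ≤ cj M n := fun r hr => by
    refine le_trans ?_ ((th_cj z n).ge.trans (cj_mono hzM n))
    exact (le_inf le_rfl ((hcen r hr).trans (centEz_le_cent hn'))).trans
      (c.le_th hn' (fun e => hz1 (conj_eq_one_iff.1 e)) (mem_Zc hM.mem r))
  have hcen' : ∀ r : ℕ, r.Prime → Zc r (cj M n) ≤ centralizer (Ez S : Set G) := fun r hr => by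
    rw [← Zc_cj]
    refine (cj_mono (hcen r hr) n).trans ?_
    rw [cj_centralizer, cj_eq_self]
    exact mem_normalizer_fintype fun e he => PiClosed.omegaZ_normalizer hn he
  have hin' : ∀ r : ℕ, r.Prime → Zc r (cj M n) ≤ M := fun r hr => by
    refine le_trans ?_ hzM
    exact (le_inf le_rfl ((hcen' r hr).trans (centEz_le_cent hz))).trans (c.le_th hz hz1 (mem_Zc hM'.mem r))
  have hbot : ∀ r : ℕ, SSF.Ox r M = ⊥ ↔ SSF.Ox r (cj M n) = ⊥ := fun r => by
    rw [← cj_Ox]; exact (Subgroup.map_eq_bot_iff_of_injective _ (MulAut.conj n).injective).symm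
  have hother : ∀ r : ℕ, ∃ t : ℕ, t.Prime ∧ r ≠ t ∧ SSF.Ox t M ≠ ⊥ := fun r => by
    by_cases hr : r = p
    · exact ⟨q, Fact.out, hr ▸ hpq, hqM⟩
    · exact ⟨p, Fact.out, hr, hpM⟩
  have h1 : ∀ r : ℕ, r.Prime → SSF.Ox r (cj M n) ≤ M := fun r hr => by
    by_cases hr0 : SSF.Ox r M = ⊥
    · rw [(hbot r).1 hr0]; exact bot_le
    obtain ⟨t, ht, hrt, htM⟩ := hother r
    haveI := Fact.mk hr; haveI := Fact.mk ht
    exact c.Ox_le_of_Zc hM hM'.mem hin hrt hr0 htM
  have h2 : ∀ r : ℕ, r.Prime → SSF.Ox r M ≤ cj M n := fun r hr => by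
    by_cases hr0 : SSF.Ox r M = ⊥
    · rw [hr0]; exact bot_le
    obtain ⟨t, ht, hrt, htM⟩ := hother r
    haveI := Fact.mk hr; haveI := Fact.mk ht
    exact c.Ox_le_of_Zc hM' hM.mem hin' hrt (fun e => hr0 ((hbot r).2 e)) fun e => htM ((hbot t).2 e)
  exact c.stable_false hM.mem hz hz1 hth hzM hn hnz (bender (c.mx_cl hM) (c.mx_cl hM') h2 h1 hpq hpM hqM).symm

end Ctx

end Cfsg.Agent.UFour
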