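import Cfsg.Agent.Lib.UFour.CentInv
import Cfsg.Agent.Lib.CI.TwoTrans

/-!
# Simple groups with the centralisers of involutions inside the normaliser

A Sylow 2-subgroup is then regular on the others, and an automorphism of odd order fixing it pointwise is trivial.
-/

set_option autoImplicit false
set_option linter.style.haveILetI false
set_option linter.unusedSectionVars false

namespace Cfsg.Agent.UFour

open Subgroup Cfsg.Agent Cfsg.Agent.Fusion
open scoped commutatorElement

universe u

variable {G : Type u} [Group G] [Finite G] [IsSimpleGroup G] (hna : ¬ IsMulCommutative G)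
variable {S : Sylow 2 G} (h : U4 (S : Subgroup G))

include hna in
theorem normalizer_sylow_ne_top (hS1 : (S : Subgroup G) ≠ ⊥) : normalizer ((S : Subgroup G) : Set G) ≠ ⊤ := by
  haveI : Fact (Nat.Prime 2) := ⟨Nat.prime_two⟩
  intro e
  haveI := normalizer_eq_top_iff.1 e
  rcases IsSimpleGroup.eq_bot_or_eq_top_of_normal (S : Subgroup G) inferInstance with h1 | h1
  · exact hS1 h1
  · have hp : IsPGroup 2 G := fun g => by
      obtain ⟨k, hk⟩ := S.isPGroup' ⟨g, h1 ▸ mem_top g⟩
      exact ⟨k, congrArg Subtype.val hk⟩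
    haveI := hp.isNilpotent
    exact hna ⟨⟨fun a b => IsSimpleGroup.comm_iff_isSolvable.2 inferInstance a b⟩⟩

include h in
theorem sylow_ne_bot : (S : Subgroup G) ≠ ⊥ := fun e => by
  have := h.card
  rw [e, card_bot] at this
  exact absurd this (by norm_num)

include hna h in
/-- The normaliser of `S` moves every central involution. -/
theorem exists_move {z : G} (hz : z ∈ Ez S) (hz1 : z ≠ 1) :
    ∃ n ∈ normalizer ((S : Subgroup G) : Set G), n * z * n⁻¹ ≠ z := by
  haveI : Fact (Nat.Prime 2) := ⟨Nat.prime_two⟩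
  have hz2 := PiClosed.orderOf_involution hz.2.1 hz1
  have hni : ¬ Cfsg.IsIsolatedInvolution z := fun hiso => by
    have hc : z ∈ center G := mem_center_iff.2 fun g => by
      have := Char.zStar_isolated hiso g
      rw [CI.simple_core hna, mem_bot, mul_inv_eq_one, mul_inv_eq_iff_eq_mul] at this
      exact this.symm
    rw [CI.simple_center hna, mem_bot] at hc
    exact hz1 hc
  simp only [Cfsg.IsIsolatedInvolution, hz2, true_and, not_forall] at hni
  obtain ⟨g, hc, hne⟩ := hni
  set w := g * z * g⁻¹ with hw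
  have hw2 : orderOf w = 2 := by
    rw [hw, show g * z * g⁻¹ = MulAut.conj g z from rfl, MulEquiv.orderOf_eq, hz2]
  obtain ⟨c, hcC, hcS⟩ := (syl_cent hz).conj_le (Q := zpowers w)
    (IsPGroup.of_card (n := 1) (by rw [Nat.card_zpowers, hw2, pow_one]))
    (zpowers_le.2 (mem_centralizer_singleton_iff.2 hc.eq.symm))
  have e1 : c * g * z * (c * g)⁻¹ = c * w * c⁻¹ := by rw [hw]; group
  obtain ⟨n, hn, hne'⟩ := fusion h hz (g := c * g) (by rw [e1]; exact hcS (conj_mem_cj (mem_zpowers w)))
  refine ⟨n, hn, fun e => hne ?_⟩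
  rw [hne', e1] at e
  have hcz : c * z * c⁻¹ = z := by rw [mem_centralizer_singleton_iff.1 hcC, mul_inv_cancel_right]
  exact mul_left_cancel (mul_right_cancel (e.trans hcz.symm))

include hna h in
/-- A strongly embedded subgroup puts the centralisers of involutions inside the normaliser. -/
theorem cent_le_normalizer_of_se {H : Subgroup G} (hH : Cfsg.IsStronglyEmbedded H) {z : G} (hz : z ∈ Ez S)
    (hz1 : z ≠ 1) : centralizer ({z} : Set G) ≤ normalizer ((S : Subgroup G) : Set G) := by
  haveI : Fact (Nat.Prime 2) := ⟨Nat.prime_two⟩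
  intro x hx
  by_contra hxN
  have htt := CI.twoTrans_of_se hna hH
  have hne : x • S ≠ S := fun e => hxN (Sylow.smul_eq_iff_mem_normalizer.1 e)
  have hzQ : z ∈ ((x • S : Sylow 2 G) : Subgroup G) := CI.sylow_mem_smul.2 (by
    rw [show x⁻¹ * z * x = z by rw [mul_assoc, ← mem_centralizer_singleton_iff.1 hx, inv_mul_cancel_left]]
    exact hz.1)
  have hall : ∀ R : Sylow 2 G, z ∈ (R : Subgroup G) := fun R => by
    by_cases e : R = S
    · exact e ▸ hz.1
    obtain ⟨p, hp, rfl⟩ := htt S (x • S) R hne e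
    refine CI.sylow_mem_smul.2 ?_
    rw [show p⁻¹ * z * p = z by rw [mul_assoc, ← hz.2.2 p hp, inv_mul_cancel_left]]
    exact hzQ
  set N : Subgroup G := ⨅ R : Sylow 2 G, (R : Subgroup G) with hN
  haveI : N.Normal := ⟨fun a ha g => Subgroup.mem_iInf.2 fun R => by
    have := Subgroup.mem_iInf.1 ha (g⁻¹ • R)
    rw [CI.sylow_mem_smul] at this
    simpa using this⟩
  rcases IsSimpleGroup.eq_bot_or_eq_top_of_normal N inferInstance with h1 | h1
  · exact hz1 (Subgroup.mem_bot.1 (h1 ▸ Subgroup.mem_iInf.2 hall))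
  · refine normalizer_sylow_ne_top hna (sylow_ne_bot h) ?_
    have hle : N ≤ (S : Subgroup G) := iInf_le (fun R : Sylow 2 G => (R : Subgroup G)) S
    rw [h1, top_le_iff] at hle
    rw [hle]
    exact normalizer_eq_top_iff.2 inferInstance

variable (hC : ∀ z ∈ Ez S, z ≠ 1 → centralizer ({z} : Set G) ≤ normalizer ((S : Subgroup G) : Set G))

include h in
theorem even_sylow : Even (Nat.card (S : Subgroup G)) := by rw [h.card]; decide

include hna h hC in
theorem se_normalizer : Cfsg.IsStronglyEmbedded (normalizer ((S : Subgroup G) : Set G)) :=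
  se_of_cent S (even_sylow h) (fun v hv hv2 s hs => commute_Ez hs (mem_Ez_of_sq h hv hv2))
    (normalizer_sylow_ne_top hna (sylow_ne_bot h)) le_rfl fun v hv hv2 => hC v
    (mem_Ez_of_sq h hv (by rw [← pow_two, ← hv2]; exact pow_orderOf_eq_one v))
    (fun e => by rw [e, orderOf_one] at hv2; exact absurd hv2 (by norm_num))

include h hC in
/-- Trivial intersections. -/
theorem mem_normalizer_of_meet {x y : G} (hy : y ∈ (S : Subgroup G)) (hy1 : y ≠ 1)
    (hxy : x⁻¹ * y * x ∈ (S : Subgroup G)) : x ∈ normalizer ((S : Subgroup G) : Set G) := by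
  haveI : Fact (Nat.Prime 2) := ⟨Nat.prime_two⟩
  obtain ⟨w, hw, hw1, hwS⟩ : ∃ w ∈ Ez S, w ≠ 1 ∧ x⁻¹ * w * x ∈ (S : Subgroup G) := by
    by_cases h2 : y * y = 1
    · exact ⟨y, mem_Ez_of_sq h hy h2, hy1, hxy⟩
    · refine ⟨y * y, sq_mem_Ez h hy, h2, ?_⟩
      rw [show x⁻¹ * (y * y) * x = x⁻¹ * y * x * (x⁻¹ * y * x) by group]
      exact mul_mem hxy hxy
  have hv := mem_Ez_of_sq h hwS (by
    rw [show x⁻¹ * w * x * (x⁻¹ * w * x) = x⁻¹ * (w * w) * x by group, hw.2.1, mul_one, inv_mul_cancel])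
  have hle : cj (S : Subgroup G) x ≤ normalizer ((S : Subgroup G) : Set G) := by
    refine (cj_mono (le_cent hv) x).trans ?_
    rw [cj_cent, show x * (x⁻¹ * w * x) * x⁻¹ = w by group]
    exact hC w hw hw1
  refine mem_normalizer_iff_cj.2 (Subgroup.eq_of_le_of_card_ge ?_ (by rw [card_cj]))
  have hj : IsPGroup 2 ((S : Subgroup G) ⊔ cj (S : Subgroup G) x : Subgroup G) :=
    S.isPGroup'.to_sup_of_normal_left' (isPGroup_cj S.isPGroup' x) hle
  exact le_sup_right.trans (le_of_eq (S.is_maximal' hj le_sup_left))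

include hna h hC in
/-- An automorphism of odd order fixing `S` pointwise is trivial. -/
theorem fix_all (φ : MulAut G) (hodd : Odd (orderOf φ)) (hφ : ∀ s ∈ (S : Subgroup G), φ s = s) : φ = 1 := by
  haveI : Fact (Nat.Prime 2) := ⟨Nat.prime_two⟩
  have htt := CI.twoTrans_of_se hna (se_normalizer hna h hC)
  set N := normalizer ((S : Subgroup G) : Set G) with hN
  have hiN : ∀ {x : G}, x ∈ N → φ x ∈ N := fun {x} hx => mem_normalizer_fintype fun s hs => by
    have h1 := hφ s hs
    have h2 := hφ _ ((mem_normalizer_iff.1 hx s).1 hs)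
    rw [map_mul, map_mul, map_inv, h1] at h2
    rw [h2]
    exact (mem_normalizer_iff.1 hx s).1 hs
  have hinvN : ∀ {x : G}, φ x ∈ N → x ∈ N := fun {x} hx => mem_normalizer_fintype fun s hs => by
    have h2 := hφ _ ((mem_normalizer_iff.1 hx s).1 hs)
    have h3 : φ (x * s * x⁻¹) = φ x * s * (φ x)⁻¹ := by rw [map_mul, map_mul, map_inv, hφ s hs]
    rw [← h3] at h2
    rw [← φ.injective h2, h3]
    exact (mem_normalizer_iff.1 hx s).1 hs
  have hkey : ∀ x : G, x⁻¹ * φ x ∈ N := by
    intro x
    by_cases hx : x ∈ N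
    · exact mul_mem (inv_mem hx) (hiN hx)
    have hx1 : x • S ≠ S := fun e => hx (Sylow.smul_eq_iff_mem_normalizer.1 e)
    have hx2 : φ x • S ≠ S := fun e => hx (hinvN (Sylow.smul_eq_iff_mem_normalizer.1 e))
    obtain ⟨p, hp, e⟩ := htt S (x • S) (φ x • S) hx1 hx2
    have h0 : (φ x)⁻¹ * p * x ∈ N := Sylow.smul_eq_iff_mem_normalizer.1 (by
      rw [mul_smul, mul_smul, e, inv_smul_smul])
    have hk : ∀ k : ℕ, ((φ ^ k) x)⁻¹ * p ^ k * x ∈ N := by
      intro k
      induction k with
      | zero => rw [pow_zero, pow_zero, MulAut.one_apply, mul_one, inv_mul_cancel]; exact one_mem _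
      | succ k ih =>
        have h1 : ∀ j : ℕ, ∀ y ∈ N, (φ ^ j) y ∈ N := fun j => by
          induction j with
          | zero => exact fun y hy => by rwa [pow_zero, MulAut.one_apply]
          | succ j ihj => exact fun y hy => by rw [pow_succ, MulAut.mul_apply]; exact ihj _ (hiN hy)
        have h2 := mul_mem (h1 k _ h0) ih
        have hfp : (φ ^ k) p = p := by
          have : φ ∈ MulAction.stabilizer (MulAut G) p := hφ p hp
          exact pow_mem this k
        rw [map_mul, map_mul, map_inv, hfp, ← MulAut.mul_apply, ← pow_succ] at h2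
        rw [pow_succ' p k]
        convert h2 using 1
        group
    have h3 := hk (orderOf φ)
    rw [pow_orderOf_eq_one, MulAut.one_apply] at h3
    obtain ⟨j, hj⟩ := S.isPGroup' ⟨p, hp⟩
    have hpj : p ^ (2 ^ j) = 1 := congrArg Subtype.val hj
    have h4 : x⁻¹ * p ^ orderOf φ * x ∈ (S : Subgroup G) := by
      refine mem_sylow_of_normalizes h3 (a := j) ?_
      rw [show x⁻¹ * p ^ orderOf φ * x = x⁻¹ * p ^ orderOf φ * x⁻¹⁻¹ by rw [inv_inv], conj_pow, ← pow_mul, mul_comm,
        pow_mul, hpj, one_pow, mul_one, inv_inv, inv_mul_cancel]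
    have h5 : p ^ orderOf φ = 1 := by
      by_contra hne
      exact hx (mem_normalizer_of_meet h hC (pow_mem hp _) hne h4)
    have hp1 : p = 1 := by
      have := mem_of_pow_coprime (H := (⊥ : Subgroup G)) ((Nat.coprime_two_left.2 hodd).pow_left j)
        (mem_bot.2 hpj) (mem_bot.2 h5)
      exact mem_bot.1 this
    rw [hp1, mul_one] at h0
    have := inv_mem h0
    rwa [mul_inv_rev, inv_inv] at this
  have hcore : ∀ x : G, x⁻¹ * φ x ∈ N.normalCore := fun x y => by
    have h1 := hkey (x * y⁻¹)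
    have h2 := hkey y⁻¹
    have h3 := mul_mem h1 (inv_mem h2)
    rw [map_mul] at h3
    convert h3 using 1
    group
  have hN0 : N.normalCore = ⊥ := (Subgroup.normalCore_normal N).eq_bot_or_eq_top.resolve_right
    fun e => normalizer_sylow_ne_top hna (sylow_ne_bot h) (top_le_iff.1 (e ▸ Subgroup.normalCore_le N))
  ext x
  have := hcore x
  rw [hN0, mem_bot, inv_mul_eq_one] at this
  exact this.symm

include hna h hC in
theorem th_eq_bot {z : G} (hz : z ∈ Ez S) (hz1 : z ≠ 1) : th z = ⊥ := by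
  refine (Subgroup.eq_bot_iff_forall _).2 fun c hc => ?_
  have hcN : c ∈ normalizer ((S : Subgroup G) : Set G) := hC z hz hz1 (th_le z hc)
  have hfix : ∀ s ∈ (S : Subgroup G), MulAut.conj c s = s := fun s hs => by
    have h1 : c * s * c⁻¹ * s⁻¹ ∈ (S : Subgroup G) ⊓ th z := by
      refine Subgroup.mem_inf.2 ⟨mul_mem ((mem_normalizer_iff.1 hcN s).1 hs) (inv_mem hs), ?_⟩
      rw [show c * s * c⁻¹ * s⁻¹ = c * (s * c⁻¹ * s⁻¹) by group]
      exact mul_mem hc ((mem_normalizer_iff.1 (th_norm z (le_cent hz hs)) _).1 (inv_mem hc))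
    rw [inf_th_eq_bot, mem_bot, mul_inv_eq_one] at h1
    exact h1
  have := fix_all hna h hC (MulAut.conj c) ((orderOf_odd (th_odd z) hc).of_dvd_nat (orderOf_map_dvd MulAut.conj c)) hfix
  have hcc : c ∈ center G := mem_center_iff.2 fun g => by
    have h1 : c * g * c⁻¹ = g := congrArg (fun ψ : MulAut G => ψ g) this
    exact (mul_inv_eq_iff_eq_mul.1 h1).symm
  rwa [CI.simple_center hna, mem_bot] at hcc

end Cfsg.Agent.UFour
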