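import Cfsg.Agent.Lib.UFour.Stable

/-!
# A maximal member with an unlinked prime

It is the core of the centraliser of `z`, and its `O_p` is inverted by the other involutions.
-/

set_option autoImplicit false
set_option linter.style.haveILetI false
set_option linter.unusedSectionVars false

namespace Cfsg.Agent.UFour

open Subgroup Cfsg.Agent Cfsg.Agent.Fusion
open scoped commutatorElement Pointwise

universe u

variable {G : Type u} [Group G] [Finite G] {S : Sylow 2 G}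

theorem comm_centralizes {H X : Subgroup G} {z : G} (hz2 : z * z = 1) (hzX : ∀ x ∈ X, z * x * z⁻¹ ∈ X)
    (h : ∀ h ∈ H, ∀ x ∈ X, z * (h * x * h⁻¹) * z⁻¹ = h * (z * x * z⁻¹) * h⁻¹) :
    ⁅H, zpowers z⁆ ≤ centralizer (X : Set G) := by
  have hzi : z⁻¹ = z := inv_eq_of_mul_eq_one_right hz2
  refine commutator_le.2 fun a ha w hw => mem_centralizer_iff.2 fun x hx => ?_
  suffices hs : ⁅a, w⁆ * x * ⁅a, w⁆⁻¹ = x from (mul_inv_eq_iff_eq_mul.1 hs).symm
  have hwz : w = 1 ∨ w = z := by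
    obtain ⟨i, rfl⟩ := hw
    rcases Int.even_or_odd' i with ⟨j, rfl | rfl⟩
    · left; simp [zpow_mul, pow_two, hz2]
    · right; simp [zpow_add, zpow_mul, pow_two, hz2]
  rcases hwz with rfl | rfl
  · simp
  set y := a⁻¹ * (w * x * w⁻¹) * a with hy
  have hwx : w * (w * x * w⁻¹) * w⁻¹ = x := by
    rw [show w * (w * x * w⁻¹) * w⁻¹ = w * w * x * (w * w)⁻¹ by group, hz2]; simp
  by_cases hxX : w * x * w⁻¹ ∈ X
  · have h2 := h a⁻¹ (inv_mem ha) _ hxX
    rw [inv_inv, ← hy, hwx] at h2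
    rw [commutatorElement_def]
    calc a * w * a⁻¹ * w⁻¹ * x * (a * w * a⁻¹ * w⁻¹)⁻¹ = a * (w * (a⁻¹ * (w⁻¹ * x * w) * a) * w⁻¹) * a⁻¹ := by group
      _ = a * (w * y * w⁻¹) * a⁻¹ := by rw [hzi]; rw [hy, hzi]
      _ = x := by rw [h2]; group
  · exact absurd (hzX x hx) hxX

theorem Iv.sub {z : G} {A B : Subgroup G} (hA : Iv S z A) (hB : Mem S B) (hB1 : B ≠ ⊥) (h : B ≤ A) : Iv S z B :=
  ⟨hB, hB1, h.trans hA.cent, fun b hb => hA.inv b (h hb)⟩

namespace Ctx

variable (c : Ctx S)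
include c

theorem exists_to {a z : G} (ha : a ∈ Ez S) (ha1 : a ≠ 1) (hz : z ∈ Ez S) (hz1 : z ≠ 1) :
    ∃ m ∈ normalizer ((S : Subgroup G) : Set G), m * a * m⁻¹ = z := by
  obtain ⟨n, hn, hna⟩ := c.exists_mover ha ha1
  rcases cycle c.u4 hn ha ha1 hna hz hz1 with h | h | h
  · exact ⟨1, one_mem _, by rw [h]; group⟩
  · exact ⟨n, hn, h.symm⟩
  · exact ⟨n * n, mul_mem hn hn, by rw [h]; group⟩

theorem unlinked_setup {M : Subgroup G} (hM : Mx S M) {z : G} (hz : z ∈ Ez S) (hz1 : z ≠ 1) (hzM : th z ≤ M)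
    {p : ℕ} [Fact p.Prime] (hpM : SSF.Ox p M ≠ ⊥) (hl : ¬ Lk p S) : M = th z ∧ Iv S z (SSF.Ox p M) := by
  set D := SSF.Ox p M with hD
  have hDm : Mem S D := mem_Ox hM.mem p
  have hDp : IsPGroup p D := SSF.isPGroup_Ox p M
  have hDM : D ≤ M := SSF.Ox_le p M
  obtain ⟨e₀, he₀, he₀1, hDe₀⟩ := c.exists_meet hDm hpM
  have he₀z : e₀ = z := by
    obtain ⟨m, hm, hmz⟩ := c.exists_to he₀ he₀1 hz hz1
    set X := cj (D ⊓ centralizer ({e₀} : Set G)) m with hX
    have hXm : Mem S X := (hDm.inf_cent he₀).cj hm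
    have hXz : X ≤ centralizer ({z} : Set G) := (cj_mono inf_le_right m).trans (by rw [cj_cent, hmz])
    refine c.collide hl hM.mem hDm hDp hDM hXm (isPGroup_cj (hDp.to_le inf_le_left) m) ?_ he₀ hz he₀1 hz1 hDe₀ ?_
    · exact ((le_inf le_rfl hXz).trans (c.le_th hz hz1 hXm)).trans hzM
    · rw [inf_eq_left.2 hXz, hX]
      exact fun e => hDe₀ ((Subgroup.map_eq_bot_iff_of_injective _ (MulAut.conj m).injective).1 e)
  subst he₀z
  have hfix : ∀ e ∈ Ez S, e ≠ 1 → e ≠ e₀ → D ⊓ centralizer ({e} : Set G) = ⊥ := fun e he he1 hez => by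
    by_contra hne
    exact hl ⟨D, hDm, hDp, e₀, he₀, e, he, he₀1, he1, hez.symm, hDe₀, hne⟩
  have hDz : D ≤ centralizer ({e₀} : Set G) := c.gen hDm.odd (Ez_le_normalizer hDm) fun e he he1 => by
    by_cases hez : e = e₀
    · subst hez; exact inf_le_right
    · rw [hfix e he he1 hez]; exact bot_le
  have hIv : Iv S e₀ D := ⟨hDm, hpM, hDz, fun d hd e he he1 hez => inverts_of_fpf he.2.1 (Ez_le_normalizer hDm he)
    (fun x hx hex => Subgroup.mem_bot.1 (hfix e he he1 hez ▸ mem_inf.2 ⟨hx, mem_cent_singleton.2 hex.symm⟩)) d hd⟩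
  refine ⟨le_antisymm ?_ hzM, hIv⟩
  suffices h : M ≤ centralizer ({e₀} : Set G) from (le_inf le_rfl h).trans (c.le_th he₀ he₀1 hM.mem)
  refine c.gen hM.mem.odd (Ez_le_normalizer hM.mem) fun e he he1 => ?_
  by_cases hez : e = e₀
  · subst hez; exact inf_le_right
  set H := M ⊓ centralizer ({e} : Set G) with hH
  obtain ⟨n, hn, hne⟩ := c.exists_to he₀ he₀1 he he1
  set D' := cj D n with hD'
  have hD'I : Iv S e D' := hne ▸ hIv.conj hn
  have hHm : Mem S H := hM.mem.inf_cent he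
  have hMD : M ≤ normalizer (D : Set G) := SSF.self_le_normalizer_Ox p M
  have hHD' : H ≤ normalizer (D' : Set G) := (c.le_th he he1 hM.mem).trans (by
    rw [← hne, ← th_cj, hD', ← cj_normalizer]; exact cj_mono (hzM.trans hMD) n)
  have hez' : e₀ ≠ e := fun e' => hez e'.symm
  have hzD : ∀ h ∈ H, ∀ x ∈ D, e₀ * (h * x * h⁻¹) * e₀⁻¹ = h * (e₀ * x * e₀⁻¹) * h⁻¹ := fun h hh x hx => by
    rw [conj_eq_of_commute (mem_cent_singleton.1 (hDz ((mem_normalizer_iff.1 (hMD hh.1) x).1 hx))).symm,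
      conj_eq_of_commute (mem_cent_singleton.1 (hDz hx)).symm]
  have hzD' : ∀ h ∈ H, ∀ x ∈ D', e₀ * (h * x * h⁻¹) * e₀⁻¹ = h * (e₀ * x * e₀⁻¹) * h⁻¹ := fun h hh x hx => by
    rw [hD'I.inv _ ((mem_normalizer_iff.1 (hHD' hh) x).1 hx) e₀ he₀ he₀1 hez', hD'I.inv x hx e₀ he₀ he₀1 hez']
    group
  have hzH : zpowers e₀ ≤ normalizer (H : Set G) := zpowers_le.2 (Ez_le_normalizer hHm he₀)
  set J := ⁅H, zpowers e₀⁆ with hJ
  have hJH : J ≤ H := (Solv.commutator_normal_in hzH).1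
  have hJm : Mem S J := ⟨odd_of_le hJH hHm.odd, fun s hs => mem_normalizer_iff_cj.2 (by
    show ⁅H, zpowers e₀⁆.map (MulAut.conj s).toMonoidHom = _
    rw [Subgroup.map_commutator, MonoidHom.map_zpowers]
    show ⁅cj H s, zpowers (s * e₀ * s⁻¹)⁆ = J
    rw [cj_eq_self (hHm.norm hs), conj_eq_of_commute (commute_Ez hs he₀)])⟩
  by_cases hJ1 : J = ⊥
  · exact fun h hh => mem_cent_singleton.2 ((mem_centralizer_iff.1
      (commutator_eq_bot_iff_le_centralizer.1 hJ1 hh) e₀ (mem_zpowers e₀)).symm)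
  exfalso
  have hDJ : D ≤ normalizer (J : Set G) := (le_centralizer_iff.1 (comm_centralizes he₀.2.1
    (fun x hx => (mem_normalizer_iff.1 (Ez_le_normalizer hDm he₀) x).1 hx) hzD)).trans (centralizer_le_normalizer _)
  have hD'J : D' ≤ normalizer (J : Set G) := (le_centralizer_iff.1 (comm_centralizes he₀.2.1
    (fun x hx => (mem_normalizer_iff.1 (Ez_le_normalizer hD'I.mem he₀) x).1 hx) hzD')).trans
    (centralizer_le_normalizer _)
  refine hez' (c.collide hl (c.mem_od_norm hJm) hDm hDp (c.mem_le hJm hJ1 hDm hDJ) hD'I.mem (isPGroup_cj hDp n)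
    (c.mem_le hJm hJ1 hD'I.mem hD'J) he₀ he he₀1 he1 hDe₀ ?_)
  rw [inf_eq_left.2 hD'I.cent]
  exact hD'I.ne

/-- At order eighty-one the other involutions act fixed point freely on `O(C(z))`. -/
theorem eighty_one_fpf {z : G} (hz : z ∈ Ez S) (hz1 : z ≠ 1) (hM : Mx S (th z))
    (hA : Iv S z (SSF.Ox 3 (th z))) (h81 : Nat.card (SSF.Ox 3 (th z)) = 81) (hl : ¬ Lk 3 S) :
    Iv S z (th z) := by
  haveI : Fact (Nat.Prime 3) := ⟨Nat.prime_three⟩
  set D := SSF.Ox 3 (th z) with hD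
  have hDp : IsPGroup 3 D := SSF.isPGroup_Ox 3 _
  have hDz : D ⊓ centralizer ({z} : Set G) ≠ ⊥ := by rw [inf_eq_left.2 hA.cent]; exact hA.ne
  refine ⟨hM.mem, hM.ne, th_le z, fun x hx e he he1 hez => ?_⟩
  set X := th z ⊓ centralizer ({e} : Set G) with hX
  suffices hX1 : X = ⊥ from inverts_of_fpf he.2.1 (Ez_le_normalizer hM.mem he)
    (fun y hy hey => Subgroup.mem_bot.1 (hX1 ▸ mem_inf.2 ⟨hy, mem_cent_singleton.2 hey.symm⟩)) x hx
  have hXm : Mem S X := hM.mem.inf_cent he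
  have h3 : ¬ 3 ∣ Nat.card X := fun h3 => by
    obtain ⟨P, hP, -, hPS, hPp⟩ := exists_inv_sylow (p := 3) hXm (U := ⊥)
      ⟨by rw [card_bot]; exact odd_one, fun s _ => mem_normalizer_fintype fun y hy => by
        rw [Subgroup.mem_bot.1 hy]; simp⟩ bot_le IsPGroup.of_bot
    have hP1 : P ≠ ⊥ := fun e' => by
      have h1 := hP.2
      rw [e', card_bot] at h1
      have h2 := Nat.Prime.factorization_pos_of_dvd Nat.prime_three Nat.card_pos.ne' h3
      have := Nat.one_lt_pow h2.ne' (show 1 < 3 by norm_num)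
      omega
    refine hez (c.collide hl hM.mem hA.mem hDp (SSF.Ox_le 3 _) hPS hPp (hP.1.trans inf_le_left) hz he hz1 he1
      hDz ?_).symm
    rw [inf_eq_left.2 (hP.1.trans inf_le_right)]
    exact hP1
  have hXE : X ≤ centralizer (Ez S : Set G) := fun y hy => mem_centralizer_iff.2 fun w hw => by
    have h1 : Commute z y := (mem_cent_singleton.1 (th_le z hy.1)).symm
    have h2 : Commute e y := (mem_cent_singleton.1 hy.2).symm
    rcases mem_Ez_cases c.u4 hz he hz1 he1 (Ne.symm hez) hw with rfl | rfl | rfl | rfl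
    exacts [(Commute.one_left y).eq, h1.eq, h2.eq, (h1.mul_left h2).eq]
  obtain ⟨n, hn, hne⟩ := c.exists_to hz hz1 he he1
  have hD'I : Iv S e (cj D n) := hne ▸ hA.conj hn
  have hMD : th z ≤ normalizer (D : Set G) := SSF.self_le_normalizer_Ox 3 _
  have h1 := centralizes_eighty_one c hz hz1 hA h81 hXm hXE (inf_le_left.trans hMD) h3
  have h2 := centralizes_eighty_one c he he1 hD'I (by rw [card_cj, h81]) hXm hXE ((c.le_th he he1 hM.mem).trans (by
    rw [← hne, ← th_cj, ← cj_normalizer]; exact cj_mono hMD n)) h3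
  by_contra hX1
  refine hez (c.collide hl (c.mem_od_norm hXm) hA.mem hDp
    (c.mem_le hXm hX1 hA.mem ((le_centralizer_iff.1 h1).trans (centralizer_le_normalizer _))) hD'I.mem
    (isPGroup_cj hDp n)
    (c.mem_le hXm hX1 hD'I.mem ((le_centralizer_iff.1 h2).trans (centralizer_le_normalizer _))) hz he hz1 he1
    hDz ?_).symm
  rw [inf_eq_left.2 hD'I.cent]
  exact hD'I.ne

end Ctx

end Cfsg.Agent.UFour
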